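import Mathlib
import Cfsg.Agent.Lib.BRec.Basic

/-!
Groups with an involution centraliser of shape `2^(1+20).U6(2)` or `2^(1+20).U6(2).2`: elementwise form.
-/

set_option autoImplicit false

namespace H21.ER

open Cfsg Subgroup H16 H95 H48.BR

/-- orthogonal to `u` and `x` modulo 2 -/
def Pq (v : leechLattice) : Prop := Pp v ∧ (16 : ℤ) ∣ dotInt (v : GolayPt → ℤ) (vX : GolayPt → ℤ)

/-- congruence modulo twice the lattice, `u` and `x` -/
def Cw (v w : leechLattice) : Prop := Cu v w ∨ Cu (v + vX) w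

/-- the elements of `Co2` that permute `x` and `u - x` -/
def Sw (g : Stab vU) : Prop := (g : Co0) • vX = vX ∨ (g : Co0) • vX = vU - vX

theorem cu_add {a b : leechLattice} (h : Cu a b) (c : leechLattice) : Cu (a + c) (b + c) := h.add (Cu.refl c)

theorem cu_XX (v : leechLattice) : Cu (v + vX + vX) v := Or.inl (cg_iff.2 ⟨vX, by abel⟩)

theorem cu_UX : Cu (vU - vX) vX := Or.inr (cg_iff.2 ⟨vU - vX, by abel⟩)

theorem Cw.refl (v : leechLattice) : Cw v v := Or.inl (Cu.refl v)

theorem Cw.of_cg {v w : leechLattice} (h : Cg v w) : Cw v w := Or.inl (Or.inl h)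

theorem Cw.symm {v w : leechLattice} (h : Cw v w) : Cw w v := by
  rcases h with h | h
  · exact Or.inl h.symm
  · exact Or.inr ((cu_add h.symm vX).trans (cu_XX v))

theorem Cw.trans {a b c : leechLattice} (h : Cw a b) (h' : Cw b c) : Cw a c := by
  rcases h with h | h <;> rcases h' with h' | h'
  · exact Or.inl (h.trans h')
  · exact Or.inr ((cu_add h vX).trans h')
  · exact Or.inr (h.trans h')
  · exact Or.inl ((cu_XX a).symm.trans ((cu_add h vX).trans h'))

theorem Cw.add {a b c d : leechLattice} (h : Cw a b) (h' : Cw c d) : Cw (a + c) (b + d) := by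
  rcases h with h | h <;> rcases h' with h' | h'
  · exact Or.inl (h.add h')
  · exact Or.inr (by rw [add_assoc]; exact h.add h')
  · exact Or.inr (by rw [add_right_comm]; exact h.add h')
  · refine Or.inl ((cu_XX _).symm.trans ?_)
    rw [show a + c + vX + vX = a + vX + (c + vX) by abel]; exact h.add h'

theorem fixU (g : Stab vU) : (g : Co0) • vU = vU := MulAction.mem_stabilizer_iff.1 g.2

theorem Sw.cu {g : Stab vU} (hg : Sw g) : Cu ((g : Co0) • vX) vX := by
  rcases hg with e | e <;> rw [e]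
  exacts [Cu.refl _, cu_UX]

theorem Cw.smul {v w : leechLattice} (h : Cw v w) {g : Stab vU} (hg : Sw g) :
    Cw ((g : Co0) • v) ((g : Co0) • w) := by
  rcases h with h | h
  · exact Or.inl (h.smul _)
  · refine Or.inr (Cu.trans ?_ (h.smul g))
    rw [smul_add]
    exact (Cu.refl _).add hg.cu.symm

theorem cw_add_U (v : leechLattice) : Cw v (v + vU) := Or.inl (cu_add_U v)

theorem cw_add_X (v : leechLattice) : Cw v (v + vX) := Or.inr (Cu.refl _)

theorem cw_neg (v : leechLattice) : Cw v (-v) := Or.inl (cu_neg v)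

/-- the four classes modulo twice the lattice -/
theorem cw_iff {v w : leechLattice} :
    Cw v w ↔ Cg v w ∨ Cg (v + vU) w ∨ Cg (v + vX) w ∨ Cg (v + vX + vU) w := by
  simp only [Cw, Cu, or_assoc]

theorem Sw.one : Sw 1 := Or.inl (one_smul _ _)

theorem Sw.mul {g k : Stab vU} (hg : Sw g) (hk : Sw k) : Sw (g * k) := by
  unfold Sw at *
  rw [Subgroup.coe_mul, mul_smul]
  rcases hk with e | e <;> rw [e]
  · exact hg
  · rw [smul_sub, fixU]
    rcases hg with f | f <;> rw [f]
    · exact Or.inr rfl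
    · exact Or.inl (by abel)

theorem Sw.inv {g : Stab vU} (hg : Sw g) : Sw g⁻¹ := by
  unfold Sw at *
  rw [Subgroup.coe_inv, inv_smul_eq_iff, inv_smul_eq_iff, smul_sub, fixU]
  rcases hg with f | f <;> rw [f]
  · exact Or.inl rfl
  · exact Or.inr (by abel)

theorem Pq.add {v w : leechLattice} (h : Pq v) (h' : Pq w) : Pq (v + w) :=
  ⟨h.1.add h'.1, by rw [AddSubgroup.coe_add, H16.dotInt_add_left]; exact dvd_add h.2 h'.2⟩

theorem pq_zero : Pq 0 := ⟨pp_zero, by simp [dotInt]⟩

theorem pq_U : Pq vU := ⟨pp_U, by rw [dot_UX]⟩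

theorem pq_X : Pq vX :=
  ⟨by unfold Pp; rw [dotInt_comm, dot_UX], by rw [dotInt_self, norm_X]; norm_num⟩

theorem Pq.smul {v : leechLattice} (h : Pq v) {g : Stab vU} (hg : Sw g) : Pq ((g : Co0) • v) := by
  refine ⟨h.1.smul g, ?_⟩
  rw [dotInt_co0_left]
  have a := h.1
  have b := h.2
  unfold Pp at a
  rcases hg.inv with e | e <;> rw [Subgroup.coe_inv] at e <;> rw [e]
  · exact b
  · rw [AddSubgroup.coe_sub, dotInt_sub_right]
    exact dvd_sub a b

theorem Pq.cg {v w : leechLattice} (h : Pq v) (e : Cg v w) : Pq w := by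
  refine ⟨h.1.cg e, ?_⟩
  obtain ⟨t, rfl⟩ := cg_iff.1 e
  have := eight_dvd_dotInt t.2 vX.2
  have b := h.2
  simp only [AddSubgroup.coe_add, H16.dotInt_add_left] at b
  omega

theorem Pq.cu {v w : leechLattice} (h : Pq v) (e : Cu v w) : Pq w :=
  e.elim h.cg (h.add pq_U).cg

theorem Pq.cw {v w : leechLattice} (h : Pq v) (e : Cw v w) : Pq w :=
  e.elim h.cu (h.add pq_X).cu

variable {G : Type*} [Group G]

/-- Elementwise form of the hypothesis for a subgroup `H` of the centraliser of `z`. -/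
structure EtH (z : G) (Q H : Subgroup G) (φ : H →* Stab vU) (cls : leechLattice → G → Prop) : Prop where
  h : L3 Q z
  card : Nat.card Q = 2 ^ 21
  le : H ≤ centralizer {z}
  le' : Q ≤ H
  fixX : ∀ c, Sw (φ c)
  surj : ∀ γ : Stab vU, (γ : Co0) • vX = vX → ∃ c, φ c = γ
  ker : ∀ c, φ c = 1 ↔ (c : G) ∈ Q
  mem : ∀ {v x}, cls v x → x ∈ Q
  perp : ∀ {v x}, cls v x → Pq v
  ex_cls : ∀ x ∈ Q, ∃ v, cls v x
  ex_elt : ∀ v, Pq v → ∃ x, cls v x
  add : ∀ {v w x y}, cls v x → cls w y → cls (v + w) (x * y)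
  eq_iff : ∀ {v w x y}, cls v x → cls w y → (Cw v w ↔ y = x ∨ y = x * z)
  congr : ∀ {v w x}, cls v x → Cw v w → cls w x
  mul_z : ∀ {v x}, cls v x → cls v (x * z)
  smul : ∀ {v x} (c : H), cls v x → cls ((φ c : Co0) • v) (c * x * (c : G)⁻¹)
  sq : ∀ {v x}, cls v x → (x * x = 1 ↔ (32 : ℤ) ∣ sqNorm (v : GolayPt → ℤ))

/-- The hypothesis for the whole centraliser. -/
abbrev Et (z : G) (Q : Subgroup G) (φ : centralizer ({z} : Set G) →* Stab vU)
    (cls : leechLattice → G → Prop) : Prop := EtH z Q (centralizer {z}) φ cls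

namespace EtH

variable {z : G} {Q H : Subgroup G} {φ : H →* Stab vU} {cls : leechLattice → G → Prop}

theorem cls_zero (M : EtH z Q H φ cls) : cls 0 1 := by
  obtain ⟨v, hv⟩ := M.ex_cls 1 (one_mem _)
  have := M.add hv hv
  rw [one_mul] at this
  exact M.congr this (Cw.of_cg (cg_iff.2 ⟨v, by simp⟩))

theorem cw_zero_iff (M : EtH z Q H φ cls) {v : leechLattice} {x : G} (h : cls v x) :
    Cw 0 v ↔ x = 1 ∨ x = z := by
  simpa using M.eq_iff M.cls_zero h

theorem inv (M : EtH z Q H φ cls) {v : leechLattice} {x : G} (h : cls v x) : cls v x⁻¹ := by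
  rcases M.h.sq_mem (M.mem h) with e | e
  · rwa [inv_eq_of_mul_eq_one_right e]
  · rw [inv_eq_of_mul_eq_one_right (show x * (x * z) = 1 by rw [← mul_assoc, e, M.h.sq])]
    exact M.mul_z h

theorem exists_conj (M : EtH z Q H φ cls) {v w : leechLattice} {x y : G} (hx : cls v x)
    (hy : cls w y) (h0 : ¬ Cw 0 w) {γ : Stab vU} (hX : (γ : Co0) • vX = vX) (hγ : Cw ((γ : Co0) • v) w) :
    ∃ c : H, φ c = γ ∧ c * x * (c : G)⁻¹ = y := by
  obtain ⟨c, rfl⟩ := M.surj γ hX
  rcases (M.eq_iff hy (M.smul c hx)).1 hγ.symm with e | e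
  · exact ⟨c, rfl, e⟩
  · rw [M.cw_zero_iff hy, not_or] at h0
    obtain ⟨u, hu, eu⟩ := M.h.exists_conj (M.mem hy) h0.1 h0.2
    have h1 : φ ⟨u, M.le' hu⟩ = 1 := (M.ker _).2 hu
    refine ⟨(⟨u, M.le' hu⟩ : H)⁻¹ * c, by simp [h1], ?_⟩
    calc (u⁻¹ * c) * x * (u⁻¹ * c)⁻¹ = u⁻¹ * (c * x * (c : G)⁻¹) * u := by group
      _ = y := by rw [e, ← eu]; group

theorem cw_of_comm (M : EtH z Q H φ cls) {v : leechLattice} {s : G} (hs : cls v s)
    {c : H} (hc : (c : G) * s = s * c) : Cw ((φ c : Co0) • v) v :=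
  (M.eq_iff (M.smul c hs) hs).2 (Or.inl (by rw [hc]; group))

theorem commute_iff (M : EtH z Q H φ cls) {v w : leechLattice} {x y : G} (hx : cls v x)
    (hy : cls w y) : x * y = y * x ↔ (16 : ℤ) ∣ dotInt (v : GolayPt → ℤ) w := by
  have h1 := M.sq hx
  have h2 := M.sq hy
  have h3 := M.sq (M.add hx hy)
  rw [AddSubgroup.coe_add, sqNorm_add] at h3
  have d1 := sixteen_dvd_sqNorm v.2
  have d2 := sixteen_dvd_sqNorm w.2
  have d3 := eight_dvd_dotInt v.2 w.2
  have z1 := M.h.ne_one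
  have zz := M.h.sq
  by_cases hc : x * y = y * x
  · have e : x * y * (x * y) = x * x * (y * y) := by
      calc x * y * (x * y) = x * (y * x) * y := by group
        _ = _ := by rw [← hc]; group
    rw [e] at h3
    refine iff_of_true hc ?_
    rcases M.h.sq_mem (M.mem hx) with a | a <;> rcases M.h.sq_mem (M.mem hy) with b | b <;>
      simp only [a, b, one_mul, mul_one, z1, zz, true_iff, false_iff] at h1 h2 h3 <;> omega
  · have e : x * y * (x * y) = x * x * (y * y) * z := by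
      have e1 := (M.h.comm y (M.mem hy) x (M.mem hx)).resolve_left (Ne.symm hc)
      calc x * y * (x * y) = x * (y * x) * y := by group
        _ = x * x * y * (z * y) := by rw [e1]; group
        _ = _ := by rw [← M.h.central y (M.mem hy)]; group
    rw [e] at h3
    refine iff_of_false hc ?_
    rcases M.h.sq_mem (M.mem hx) with a | a <;> rcases M.h.sq_mem (M.mem hy) with b | b <;>
      simp only [a, b, one_mul, mul_one, z1, zz, true_iff, false_iff] at h1 h2 h3 <;> omega

theorem pair [Finite G] (M : EtH z Q H φ cls) {g : G} (hs : g * z * g⁻¹ ∈ Q) (hne : g * z * g⁻¹ ≠ z) :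
    Pair Q (Q.map (MulAut.conj g).toMonoidHom) z (g * z * g⁻¹) :=
  M.h.pair (by rw [M.card]; norm_num) hs hne

theorem card_conj (M : EtH z Q H φ cls) (g : G) :
    Nat.card (Q.map (MulAut.conj g).toMonoidHom) = 2 ^ 21 := by
  rw [card_map_of_injective (MulAut.conj g).injective, M.card]

end EtH

theorem eqns_ERecBasic : True := by
  have := @Pq.eq_1
  have := @Cw.eq_1
  have := @Sw.eq_1
  trivial

end H21.ER
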