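import Mathlib
import Cfsg.Agent.Lib.ERec.ModDat
import Cfsg.Agent.Lib.ERec.Basic
import Cfsg.Agent.Lib.BRec.Mod

/-!
# The 20-dimensional module of `U6(2)` over the field with two elements
-/

set_option autoImplicit false

namespace H96.EMod
open Cfsg Subgroup H15 H16 H95 H96.MRec H48.BR H21.ER
open H96.BMod (PL KL nq nq_eq_zero nq_congr Quad Quad.zero)

/-- the group `U6(2)` -/
abbrev L1 : Type := ↥(Stab vU ⊓ Stab vX)

theorem sw (g : L1) : Sw ⟨g, g.2.1⟩ := Or.inl g.2.2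

/-- the vectors orthogonal to `u` and `x` modulo two -/
def PM : AddSubgroup leechLattice where
  carrier := {v | Pq v}
  zero_mem' := pq_zero
  add_mem' := Pq.add
  neg_mem' h := h.cg (cg_neg _)

/-- the vectors congruent to a combination of `u` and `x` -/
def KM : AddSubgroup leechLattice where
  carrier := {v | Cw 0 v}
  zero_mem' := Cw.refl 0
  add_mem' h h' := by simpa using h.add h'
  neg_mem' h := h.trans (cw_neg _)

/-- the model of the module -/
def WW : Type := PM ⧸ KM.addSubgroupOf PM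

instance instAddCommGroupWW : AddCommGroup WW := QuotientAddGroup.Quotient.addCommGroup _

/-- the class of a vector -/
def mkW : PM →+ WW := QuotientAddGroup.mk' _

theorem mkW_eq {v w : PM} : mkW v = mkW w ↔ Cw (v : leechLattice) w := by
  refine QuotientAddGroup.eq.trans ⟨fun h => ?_, fun h => ?_⟩
  · simpa using (Cw.refl (v : leechLattice)).add h
  · have := (Cw.refl (-v : leechLattice)).add h
    rwa [neg_add_cancel] at this

theorem mkW_surj (y : WW) : ∃ v, mkW v = y := QuotientAddGroup.mk'_surjective _ y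

theorem not_cu_X : ¬ Cu 0 vX := by
  rintro (h | h)
  · exact Mon.not_cg_zero (Or.inl norm_X) h
  · have d := dot_UX
    have n := norm_U
    rw [zero_add] at h
    rcases h.short (by omega) (by rw [norm_X]; norm_num) with e | e | e
    · rw [← e, dotInt_self] at d; omega
    · rw [e, AddSubgroup.coe_neg, H16.dotInt_neg_left, dotInt_self, norm_X] at d; omega
    · omega

theorem card_WW : Nat.card WW = 2 ^ 20 := by
  have h1 : KL ≤ KM := fun v hv => Or.inl hv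
  have h2 : KM ≤ PM := fun v hv => pq_zero.cw hv
  have h3 : PM ≤ PL := fun v hv => hv.1
  have i1 : KL.relIndex KM = 2 := by
    refine AddSubgroup.index_eq_two_iff.2 ⟨⟨vX, zero_add vX ▸ cw_add_X 0⟩, fun b => ?_⟩
    change Xor (Cu 0 (b + vX)) (Cu 0 b)
    have n : ¬ (Cu 0 (b + vX) ∧ Cu 0 b) := fun h => not_cu_X
      (h.1.trans (by simpa using cu_add h.2.symm vX))
    rcases b.2 with h | h
    · exact Or.inr ⟨h, fun e => n ⟨e, h⟩⟩
    · have := (cu_XX 0).symm.trans (cu_add h vX)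
      exact Or.inl ⟨this, fun e => n ⟨this, e⟩⟩
  have i2 : PM.relIndex PL = 2 := by
    obtain ⟨a, ha⟩ : ∃ a : PL, dotInt (a : GolayPt → ℤ) (vX : GolayPt → ℤ) = 8 := by
      have c : Code 0x1000120010001000120010001000120012001200120012001000100010001000100010001000100010001000120010 (lv _) := code_lv (by decide +kernel)
      generalize lv _ = a at c
      exact ⟨⟨a, show (16 : ℤ) ∣ _ by rw [c.dot code_U]; decide +kernel⟩,
        (c.dot code_X).trans (by decide +kernel)⟩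
    refine AddSubgroup.index_eq_two_iff.2 ⟨a, fun b => ?_⟩
    have d := eight_dvd_dotInt b.1.2 vX.2
    have m : ∀ y : PL, y ∈ PM.addSubgroupOf PL ↔
        (16 : ℤ) ∣ dotInt (y : GolayPt → ℤ) (vX : GolayPt → ℤ) := fun y => and_iff_right y.2
    rw [m, m, AddSubgroup.coe_add, AddSubgroup.coe_add, H16.dotInt_add_left, ha]
    unfold Xor
    omega
  have e1 := AddSubgroup.relIndex_mul_relIndex _ _ _ h1 h2
  have e2 := AddSubgroup.relIndex_mul_relIndex _ _ _ (h1.trans h2) h3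
  rw [show KL.relIndex PL = 2 ^ 22 from BMod.card_UU, ← e1, i1, i2] at e2
  change KM.relIndex PM = _
  omega

instance instSMulWW : SMul L1 WW :=
  ⟨fun g y => Quotient.map' (fun v : PM => (⟨(g : Co0) • v, Pq.smul v.2 (sw g)⟩ : PM)) (fun _ _ h =>
    Quotient.exact' (mkW_eq.2 ((mkW_eq.1 (Quotient.sound' h)).smul (sw g)))) y⟩

theorem smul_mkW (g : L1) (v : PM) : g • mkW v = mkW ⟨(g : Co0) • v, Pq.smul v.2 (sw g)⟩ := rfl

instance instActionWW : DistribMulAction L1 WW where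
  one_smul y := by
    obtain ⟨v, rfl⟩ := mkW_surj y
    exact congrArg mkW (Subtype.ext (one_smul _ _))
  mul_smul a b y := by
    obtain ⟨v, rfl⟩ := mkW_surj y
    exact congrArg mkW (Subtype.ext (mul_smul _ _ _))
  smul_zero a := congrArg mkW (Subtype.ext (smul_zero _))
  smul_add a y y' := by
    obtain ⟨v, rfl⟩ := mkW_surj y
    obtain ⟨w, rfl⟩ := mkW_surj y'
    rw [← map_add, smul_mkW, smul_mkW, smul_mkW, ← map_add]
    exact congrArg mkW (Subtype.ext (smul_add _ _ _))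

instance instModuleWW : Module (ZMod 2) WW := AddCommGroup.zmodModule fun y => by
  obtain ⟨v, rfl⟩ := mkW_surj y
  rw [two_nsmul, ← map_add, ← map_zero mkW, mkW_eq]
  exact Cw.of_cg (cg_iff.2 ⟨v, by simp⟩)

theorem nq_congr' {v w : leechLattice} (hv : Pq v) (h : Cw v w) : nq v = nq w := by
  rcases h with h | h
  · exact nq_congr hv.1 h
  · refine Eq.trans ?_ (nq_congr (hv.add pq_X).1 h)
    have := sixteen_dvd_sqNorm v.2
    have := hv.2
    rw [nq, nq, ZMod.intCast_eq_intCast_iff_dvd_sub, AddSubgroup.coe_add, sqNorm_add, norm_X]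
    push_cast
    omega

/-- the quadratic form on the model -/
def qW (y : WW) : ZMod 2 :=
  Quotient.liftOn' y (fun v : PM => nq v) fun v _ h => nq_congr' v.2 (mkW_eq.1 (Quotient.sound' h))

theorem qW_mkW (v : PM) : qW (mkW v) = nq v := rfl

theorem quad_qW : Quad qW := by
  intro a b c
  obtain ⟨u, rfl⟩ := mkW_surj a
  obtain ⟨v, rfl⟩ := mkW_surj b
  obtain ⟨w, rfl⟩ := mkW_surj c
  exact BMod.quad_qU (BMod.mkU ⟨u, u.2.1⟩) (BMod.mkU ⟨v, v.2.1⟩) (BMod.mkU ⟨w, w.2.1⟩)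

/-- a vector of type three -/
def vC : ℕ := 0xf000f000f000f000d0011000f000f000f000f0013000f000f000f0011000f000f000f000d0011000f001100110011

theorem code_v : Code vC (lv vC) := code_lv (by decide +kernel)

theorem pq_v : Pq (lv vC) :=
  ⟨show (16 : ℤ) ∣ _ by rw [code_v.dot code_U]; decide +kernel,
    by rw [code_v.dot code_X]; decide +kernel⟩

theorem sx_moves : sx 0 • mkW ⟨_, pq_v⟩ ≠ mkW ⟨_, pq_v⟩ := by
  intro e
  have c := isF_lx 0 _ _ code_v (by rw [code_v.norm]; decide +kernel)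
  have h : qW (sx 0 • mkW ⟨_, pq_v⟩ + mkW ⟨_, pq_v⟩) = 0 := by rw [e, add_self, quad_qW.zero]
  rw [smul_mkW, ← map_add, qW_mkW, nq_eq_zero] at h
  change (32 : ℤ) ∣ sqNorm (((lx 0 • lv vC : leechLattice) : GolayPt → ℤ) +
    ((lv vC : leechLattice) : GolayPt → ℤ)) at h
  rw [sqNorm_add, c.norm, code_v.norm, c.dot code_v] at h
  exact absurd h (by decide +kernel)

theorem sx_ne : sx 0 ≠ 1 := fun e => sx_moves (by rw [e, one_smul])

/-- A module of order `2^20` for `U6(2)`, with its quadratic form. -/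
theorem exists_equiv {V : Type*} [AddCommGroup V] [Module (ZMod 2) V] [DistribMulAction L1 V]
    (hV : Nat.card V = 2 ^ 20) {v : V} (hv : sx 0 • v ≠ v) :
    ∃ T : WW ≃+ V, (∀ (g : L1) u, T (g • u) = g • T u) ∧ ∀ D : V → ZMod 2, Quad D →
      (∀ (g : L1) v, D (g • v) = D v) → (∃ v, D v ≠ 0) → ∀ u, D (T u) = qW u := by
  obtain ⟨α, A⟩ := exists_fr rels_sx card_WW sx_moves
  obtain ⟨β, B⟩ := exists_fr rels_sx hV hv
  have := top_of_sx (A := agree L1 (α.symm.trans β)) fun j hj => all_agree rels_sx A B hj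
  have hT := fun g => mem_agree.1 (this ▸ mem_top g : g ∈ agree L1 (α.symm.trans β))
  refine ⟨_, hT, fun D hD hi ⟨w, hw⟩ => A.quad_eq (fun a b c => ?_) quad_qW
    (fun g u => by rw [hT, hi]) (fun g u => ?_) ⟨(α.symm.trans β).symm w, by simpa using hw⟩
    ⟨mkW ⟨_, pq_v⟩, ?_⟩⟩
  · simp only [map_add]
    exact hD _ _ _
  · obtain ⟨v, rfl⟩ := mkW_surj u
    rw [smul_mkW, qW_mkW, qW_mkW, nq, nq, sqNorm_co0]
  · rw [qW_mkW, Ne, nq_eq_zero, code_v.norm]
    decide +kernel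

theorem rigid_WW (S : WW →+ WW) (hS : Function.Injective S)
    (h : ∀ (g : L1) u, S (g • u) = g • S u) (u : WW) : S u = u := by
  obtain ⟨α, A⟩ := exists_fr rels_sx card_WW sx_moves
  exact A.rigid_all rels_sx S hS h u

theorem eqns_Mod : True := by
  have := @vC.eq_1
  exact True.intro

end H96.EMod

namespace H21.ER
open Cfsg Subgroup H16 H95 H48.BR H96.EMod

theorem exists_etH {G : Type*} [Group G] [Finite G] {z : G} {Q H : Subgroup G} (h : L3 Q z)
    (hc : Nat.card Q = 2 ^ 21) (hQ : Q ≤ H) (hH : H ≤ centralizer {z}) {φ : H →* Stab vU}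
    (hX : ∀ c, (φ c : Co0) • vX = vX) (hs : ∀ γ : Stab vU, (γ : Co0) • vX = vX → ∃ c, φ c = γ)
    (hk : ∀ c, φ c = 1 ↔ (c : G) ∈ Q) : ∃ cls, EtH z Q H φ cls := by
  have hE := h.toES.top
  obtain ⟨V, _, _, ⟨P⟩⟩ := hE.exists_pres
  have hle : H ≤ normalizer (Q : Set G) := fun g hg => h.norm g (mem_cent_iff.1 (hH hg))
  let θ := (P.autHom hE).comp (Q.normalizerMonoidHom.comp (inclusion hle))
  have hθ : ∀ (c : H) (x : Q), θ c (P.π x) =
      P.π ⟨c * x * (c : G)⁻¹, conj_mem_of_normalizer (hle c.2) x.2⟩ := fun c x =>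
    P.autHom_π hE _ x
  let ψ : H →* L1 := ((Stab vU).subtype.comp φ).codRestrict _ fun c => ⟨(φ c).2, hX c⟩
  have hψ : Function.Surjective ψ := fun g => by
    obtain ⟨c, e⟩ := hs ⟨g, g.2.1⟩ g.2.2
    exact ⟨c, Subtype.ext (congrArg Subtype.val e :)⟩
  have hk' : ∀ c, ψ c = 1 ↔ (c : G) ∈ Q := fun c =>
    ((Subtype.ext_iff (a1 := ψ c) (a2 := 1)).trans
      (Subtype.ext_iff (a1 := φ c) (a2 := 1)).symm).trans (hk c)
  have hker : ψ.ker ≤ θ.ker := by
    intro c hc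
    refine LinearEquiv.ext fun v => ?_
    obtain ⟨x, rfl⟩ := P.surj v
    rw [hθ]
    refine (P.eq_iff'.2 ?_).symm
    exact (h.toES.conj x.2 ((hk' c).1 hc)).imp Subtype.ext Subtype.ext
  let _ : DistribMulAction L1 V := DistribMulAction.compHom V (ψ.liftOfSurjective hψ ⟨θ, hker⟩)
  have hη : ∀ (c : H) (v : V), ψ c • v = θ c v := by
    intro c v
    change ψ.liftOfSurjective hψ ⟨θ, hker⟩ (ψ c) v = _
    rw [MonoidHom.liftOfSurjective, MonoidHom.liftOfRightInverse_comp_apply]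
  have hV : Nat.card V = 2 ^ 20 := by
    have := P.card_eq
    rw [hc] at this
    omega
  obtain ⟨v, hv⟩ : ∃ v : V, sx 0 • v ≠ v := by
    by_contra! e
    obtain ⟨c, hc⟩ := hψ (sx 0)
    refine sx_ne (hc ▸ (hk' c).2 (h.mem_of_trivial fun x hx => ?_))
    have := (hη c _).symm.trans (hc ▸ e (P.π ⟨x, hx⟩))
    rw [hθ] at this
    exact (P.eq_iff'.1 this.symm).imp (congrArg Subtype.val) (congrArg Subtype.val)
  obtain ⟨T, hT, hq⟩ := exists_equiv hV hv
  have hq' := hq P.q (fun u v w => P.q.map_add_add_add_map u v w) (fun g v => by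
    obtain ⟨c, rfl⟩ := hψ g
    rw [hη]
    exact P.q_autHom hE _ v) (by
    by_contra! e
    have := P.nontrivial_of_ES hE
    obtain ⟨v, hv⟩ := exists_ne (0 : V)
    exact hv (P.nondeg_of_ES hE v fun w => by simp [QuadraticMap.polar, e]))
  refine ⟨fun v x => ∃ (hv : Pq v) (hx : x ∈ Q), P.π ⟨x, hx⟩ = T (mkW ⟨v, hv⟩), h, hc, hH, hQ,
    fun c => Or.inl (hX c), hs, hk, fun e => e.2.1, fun e => e.1, fun x hx => ?_, fun v hv => ?_,
    ?_, ?_, ?_, ?_, ?_, ?_⟩
  · obtain ⟨u, hu⟩ := T.surjective (P.π ⟨x, hx⟩)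
    obtain ⟨v, rfl⟩ := mkW_surj u
    exact ⟨v, v.2, hx, hu.symm⟩
  · obtain ⟨x, hx⟩ := P.surj (T (mkW ⟨v, hv⟩))
    exact ⟨x, hv, x.2, hx⟩
  · rintro v w x y ⟨hv, hx, e⟩ ⟨hw, hy, f⟩
    refine ⟨hv.add hw, mul_mem hx hy, (P.π_mul ⟨x, hx⟩ ⟨y, hy⟩).trans ?_⟩
    rw [e, f, ← map_add, ← map_add]
    rfl
  · rintro v w x y ⟨hv, hx, e⟩ ⟨hw, hy, f⟩
    rw [← mkW_eq (v := ⟨v, hv⟩) (w := ⟨w, hw⟩), ← T.injective.eq_iff, ← e, ← f, P.eq_iff',
      Subtype.ext_iff, Subtype.ext_iff]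
    rfl
  · rintro v w x ⟨hv, hx, e⟩ f
    exact ⟨hv.cw f, hx, e.trans (congrArg T (mkW_eq.2 f))⟩
  · rintro v x ⟨hv, hx, e⟩
    exact ⟨hv, mul_mem hx h.mem, (P.eq_iff'.2 (Or.inr rfl)).symm.trans e⟩
  · rintro v x c ⟨hv, hx, f⟩
    exact ⟨hv.smul (Or.inl (hX c)), _, by
      rw [← hθ c ⟨x, hx⟩, ← hη, f, ← hT]
      rfl⟩
  · rintro v x ⟨hv, hx, e⟩
    rw [← H96.BMod.nq_eq_zero, ← qW_mkW ⟨v, hv⟩, ← hq', ← e, ← P.sq_eq_one_iff, Subtype.ext_iff]
    rfl

theorem EtH.rigid {G : Type*} [Group G] [Finite G] {z : G} {Q H : Subgroup G} {φ : H →* Stab vU}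
    {cls cls' : leechLattice → G → Prop} (M : EtH z Q H φ cls) (M' : EtH z Q H φ cls')
    {v : leechLattice} {x : G} (h : cls v x) : cls' v x := by
  have ex : ∀ y : WW, ∃ y' : WW, ∀ (v w : PM) (x : G), mkW v = y → cls v x → cls' w x →
      mkW w = y' := by
    intro y
    obtain ⟨v, rfl⟩ := mkW_surj y
    obtain ⟨x, hx⟩ := M.ex_elt v v.2
    obtain ⟨w, hw⟩ := M'.ex_cls x (M.mem hx)
    exact ⟨mkW ⟨w, M'.perp hw⟩, fun v' w' x' e h h' =>
      mkW_eq.2 ((M'.eq_iff h' hw).2 ((M.eq_iff h hx).1 (mkW_eq.1 e)))⟩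
  choose f hf using ex
  have rep : ∀ y : WW, ∃ (v w : PM) (x : G), mkW v = y ∧ cls v x ∧ cls' w x ∧ mkW w = f y := by
    intro y
    obtain ⟨v, rfl⟩ := mkW_surj y
    obtain ⟨x, hx⟩ := M.ex_elt v v.2
    obtain ⟨w, hw⟩ := M'.ex_cls x (M.mem hx)
    exact ⟨v, ⟨w, M'.perp hw⟩, x, rfl, hx, hw, hf _ _ _ x rfl hx hw⟩
  have key := rigid_WW (AddMonoidHom.mk' f fun a b => by
    obtain ⟨v, w, x, rfl, h1, h2, e⟩ := rep a
    obtain ⟨v', w', x', rfl, h1', h2', e'⟩ := rep b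
    rw [← e, ← e', ← map_add]
    exact (hf _ (v + v') (w + w') _ (map_add _ _ _) (M.add h1 h1') (M'.add h2 h2')).symm)
    ((injective_iff_map_eq_zero _).2 fun a ha => by
      obtain ⟨v, w, x, rfl, h1, h2, e⟩ := rep a
      rw [← map_zero mkW, eq_comm, mkW_eq]
      exact (M.cw_zero_iff h1).2 ((M'.cw_zero_iff h2).1
        (mkW_eq.1 ((map_zero mkW).trans (e.trans ha).symm)))) fun g a => by
    obtain ⟨v, w, x, rfl, h1, h2, e⟩ := rep a
    obtain ⟨c, hc⟩ := M.surj ⟨g, g.2.1⟩ g.2.2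
    have a1 := M.smul c h1
    have a2 := M'.smul c h2
    rw [hc] at a1 a2
    change f _ = g • f _
    rw [← e, smul_mkW, smul_mkW]
    exact (hf _ _ _ _ rfl a1 a2).symm
  obtain ⟨w, hw⟩ := M'.ex_cls x (M.mem h)
  exact M'.congr hw (mkW_eq.1 ((hf _ ⟨v, M.perp h⟩ ⟨w, M'.perp hw⟩ x rfl h hw).trans (key _)))

end H21.ER
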