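import Mathlib
import Cfsg.Agent.Lib.ERec.Mod

/-!
# `U6(2)` has no fixed vector on its 20-dimensional module
-/

set_option autoImplicit false

namespace H96.EMod
open H96.MRec

theorem Fr.no_fix {Γ V : Type*} [Group Γ] [AddCommGroup V] [Module (ZMod 2) V]
    [DistribMulAction Γ V] {x : ℕ → Γ} {β : (Fin 10 → KK) ≃+ V} (F : Fr x β) {v : V}
    (h0 : x 0 • v = v) (h3 : x 3 • v = v) : v = 0 := by
  obtain ⟨a, rfl⟩ := β.surjective v
  rw [F.rot 0 (by norm_num)] at h0
  rw [F.rot 3 (by norm_num)] at h3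
  rw [← map_zero β]
  congr 1
  funext k
  by_cases e : k = 0
  · subst e
    have f := congrFun (β.injective h3) 0
    rw [show dig (good (0 : Fin 10)) 3 = 1 by decide +kernel] at f
    revert f
    change _ → a 0 = 0
    generalize a 0 = b
    revert b
    decide
  · have f := congrFun (β.injective h0) k
    change a k = 0
    rcases dig_good k e with d | d <;> rw [d] at f <;> revert f <;> generalize a k = b <;>
      revert b <;> decide

end H96.EMod

namespace H21.ER
open Cfsg Subgroup H16 H95 H48.BR H96.EMod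

theorem no_fix {v : leechLattice} (hv : Pq v)
    (h : ∀ γ : Stab vU, (γ : Co0) • vX = vX → Cw ((γ : Co0) • v) v) : Cw 0 v := by
  obtain ⟨α, A⟩ := exists_fr rels_sx card_WW sx_moves
  have f : ∀ g : L1, g • mkW ⟨v, hv⟩ = mkW ⟨v, hv⟩ := fun g =>
    mkW_eq.2 (h ⟨g, g.2.1⟩ g.2.2)
  have := A.no_fix (f _) (f _)
  exact mkW_eq.1 ((map_zero mkW).trans this.symm)

end H21.ER
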