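import Mathlib
import Cfsg.Agent.Lib.BRec.FusCo

/-!
Involutions of `U6(2).2` inside `Co2`: the pointwise stabiliser of the singular commutators.
-/

set_option autoImplicit false
set_option maxRecDepth 100000

namespace H22.EF

open Cfsg H15 H16 H95 H74.Co1 H30.K H16.P8 Subgroup H75.WC H12.Co2 H22.BF
open scoped Pointwise symmDiff

/-- congruence modulo `2Λ`, `u`, `x` -/
def Cm (u x v w : leechLattice) : Prop := Cg v w ∨ Cg (v + u) w ∨ Cg (v + x) w ∨ Cg (v + x + u) w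

/-- a triangle of type 222 -/
structure Tg (u x : leechLattice) : Prop where
  nu : sqNorm (u : GolayPt → ℤ) = 32
  nx : sqNorm (x : GolayPt → ℤ) = 32
  ux : dotInt (u : GolayPt → ℤ) x = 16
  dual : ∀ a : leechLattice, (∀ v : leechLattice, (16 : ℤ) ∣ dotInt (v : GolayPt → ℤ) u →
    (16 : ℤ) ∣ dotInt (v : GolayPt → ℤ) x → (16 : ℤ) ∣ dotInt (a : GolayPt → ℤ) v) → Cm u x 0 a

/-- `κ` fixes the triangle and the singular commutators with `γ` -/
structure Fy (u x : leechLattice) (γ κ : Co0) : Prop where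
  fu : κ • u = u
  fx : κ • x = x ∨ κ • x = u - x
  comm : κ * γ = γ * κ
  fix : ∀ v w : leechLattice, (16 : ℤ) ∣ dotInt (v : GolayPt → ℤ) u → (16 : ℤ) ∣ dotInt (v : GolayPt → ℤ) x →
    Cg (γ • v + v) w → (32 : ℤ) ∣ sqNorm (w : GolayPt → ℤ) → Cm u x (κ • w) w

variable {u x v w : leechLattice} {γ κ : Co0}

theorem dot_pp (p q : GolayPt) (y : GolayPt → ℤ) : dotInt (pp p q : GolayPt → ℤ) y = 4 * y p + 4 * y q := by
  simp only [pp, H16.dotInt_add_left, dotInt_single_left, mul_one]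

theorem dot_pm (p q : GolayPt) (y : GolayPt → ℤ) : dotInt (pm p q : GolayPt → ℤ) y = 4 * y p - 4 * y q := by
  simp only [pm, H16.dotInt_add_left, dotInt_single_left]; ring

theorem Cm.smul (h : Cm u x v w) (g : Co0) : Cm (g • u) (g • x) (g • v) (g • w) := by
  unfold Cm at *
  simp only [← smul_add]
  exact h.imp (·.smul g) (Or.imp (·.smul g) (Or.imp (·.smul g) (·.smul g)))

theorem Tg.conj (T : Tg u x) (g : Co0) : Tg (g • u) (g • x) := by
  refine ⟨by rw [sqNorm_co0, T.nu], by rw [sqNorm_co0, T.nx], by rw [dotInt_co0, T.ux], fun a h => ?_⟩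
  have := (T.dual (g⁻¹ • a) fun v h1 h2 => by
    rw [dotInt_co0_left, inv_inv]
    exact h _ (by rwa [dotInt_co0]) (by rwa [dotInt_co0])).smul g
  rwa [smul_zero, smul_inv_smul] at this

theorem Fy.conj (h : Fy u x γ κ) (g : Co0) : Fy (g • u) (g • x) (g * γ * g⁻¹) (g * κ * g⁻¹) := by
  refine ⟨by rw [mul_smul, inv_smul_smul, mul_smul, h.fu], ?_, by rw [conj_mul, conj_mul, h.comm],
    fun v w a a' b c => ?_⟩
  · rw [mul_smul, inv_smul_smul, mul_smul, ← smul_sub]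
    exact h.fx.imp (congrArg _) (congrArg _)
  have b' := b.smul g⁻¹
  rw [smul_add, mul_smul, mul_smul, inv_smul_smul] at b'
  have := (h.fix (g⁻¹ • v) (g⁻¹ • w) (by rwa [dotInt_co0_left, inv_inv]) (by rwa [dotInt_co0_left, inv_inv]) b'
    (by rwa [sqNorm_co0])).smul g
  rwa [smul_inv_smul, ← mul_smul, ← mul_smul] at this

theorem Tg.nd (T : Tg u x) : sqNorm ((x - u : leechLattice) : GolayPt → ℤ) = 32 := by
  rw [AddSubgroup.coe_sub, sqNorm_sub, T.nu, T.nx, H16.dotInt_comm, T.ux]; norm_num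

theorem cg_xu (v : leechLattice) : Cg (v + (x - u)) (v + x + u) := cg_iff.2 ⟨-u, by abel⟩

theorem Fy.short (h : Fy u x γ κ) (T : Tg u x) (a : (16 : ℤ) ∣ dotInt (v : GolayPt → ℤ) u)
    (a' : (16 : ℤ) ∣ dotInt (v : GolayPt → ℤ) x) (b : Cg (γ • v + v) w) (c : sqNorm (w : GolayPt → ℤ) = 32)
    (d : dotInt (w : GolayPt → ℤ) u = 0) (d' : dotInt (w : GolayPt → ℤ) x = 0) : κ • w = w ∨ κ • w = -w := by
  have k1 := dotInt_co0 κ w u
  rw [h.fu, d] at k1
  have k2 : dotInt ((κ • w : leechLattice) : GolayPt → ℤ) x = 0 := by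
    have := dotInt_co0 κ w x
    rcases h.fx with e | e <;> rw [e, d'] at this
    · exact this
    · rw [AddSubgroup.coe_sub, dotInt_sub_right] at this; omega
  have key : ∀ m : leechLattice, sqNorm (m : GolayPt → ℤ) = 32 →
      dotInt ((κ • w : leechLattice) : GolayPt → ℤ) m = 0 → ¬ Cg (κ • w + m) w := fun m h1 h2 e => by
    have k : sqNorm ((κ • w + m : leechLattice) : GolayPt → ℤ) = 64 := by
      rw [AddSubgroup.coe_add, sqNorm_add, sqNorm_co0]; omega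
    have := e.norm_eq (by omega) (by omega)
    omega
  rcases h.fix v w a a' b (by rw [c]) with e | e | e | e
  · rcases e.short (by rw [sqNorm_co0]; omega) (by omega) with e | e | e
    exacts [Or.inl e, Or.inr e, by omega]
  · exact absurd e (key _ T.nu k1)
  · exact absurd e (key _ T.nx k2)
  · exact absurd ((cg_xu _).trans e) (key _ T.nd (by rw [AddSubgroup.coe_sub, dotInt_sub_right]; omega))

/-! ### outer involutions -/

theorem Fy.outer (h : Fy u x γ κ) (T : Tg u x) (h2 : γ * γ = 1) (hu : γ • u = u) (hx : γ • x = u - x)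
    {a : leechLattice} (a1 : γ • a = a) (a2 : (16 : ℤ) ∣ dotInt (a : GolayPt → ℤ) u)
    (a3 : ¬ (16 : ℤ) ∣ dotInt (a : GolayPt → ℤ) x) : Fx u γ κ := by
  refine ⟨h.fu, fun v w b c d => ?_⟩
  have k : Cm u x (κ • w) w := by
    by_cases e : (16 : ℤ) ∣ dotInt (v : GolayPt → ℤ) x
    · exact h.fix v w b e c d
    have := eight_dvd_dotInt v.2 x.2
    have := eight_dvd_dotInt a.2 x.2
    refine h.fix (v + a) w ?_ ?_ (Cg.trans (cg_iff.2 ⟨a, by rw [smul_add, a1]; abel⟩) c) d <;>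
      rw [AddSubgroup.coe_add, H16.dotInt_add_left] <;> omega
  have g1 : Cg (γ • w) w := by
    have := c.smul γ
    rw [smul_add, ← mul_smul, h2, one_smul, add_comm] at this
    exact this.symm.trans c
  have g2 : Cg (γ • κ • w) (κ • w) := by
    rw [← mul_smul, ← h.comm, mul_smul]; exact g1.smul κ
  have key : ∀ m : leechLattice, Cg (γ • m) (m + u) → ¬ Cg (κ • w + m) w := fun m h1 e => by
    have e' := (e.smul γ).trans g1
    rw [smul_add] at e'
    obtain ⟨t, ht⟩ := cg_iff.1 (((g2.add h1).symm.trans e').trans e.symm)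
    exact Mon.not_cg_zero (Or.inl T.nu) (Cg.symm (cg_iff.2 ⟨t, by
      rw [← add_assoc] at ht; rw [zero_add]; exact add_left_cancel ht⟩))
  rcases k with e | e | e | e
  exacts [Or.inl e, Or.inr e, absurd e (key _ (cg_iff.2 ⟨-x, by rw [hx]; abel⟩)),
    absurd (add_assoc _ x u ▸ e) (key _ (cg_iff.2 ⟨-x, by rw [smul_add, hx, hu]; abel⟩))]

theorem outer_eps {c : Finset GolayPt} {hc : c ∈ code} (h : Fy vUP x (eps c hc) κ) (T : Tg vUP x)
    (hu : eps c hc ∈ Stab vUP) (hx : eps c hc • x = vUP - x) {t : GolayPt}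
    (ht : t ∉ c ∧ t ≠ pt 0 ∧ t ≠ pt 23) : Fx vUP (eps c hc) κ := by
  have n := ((eps_mem_stab hc).1 hu).2
  have k : ∀ p, p ∉ c → 2 * (x : GolayPt → ℤ) p = (vUP : GolayPt → ℤ) p := fun p hp => by
    have := eps_smul_apply hc x p
    rw [hx, if_neg hp, AddSubgroup.coe_sub, Pi.sub_apply] at this
    omega
  have k1 := k _ n
  have k2 := k _ ht.1
  rw [UP_apply, if_pos rfl] at k1
  rw [UP_apply, if_neg ht.2.2, if_neg ht.2.1] at k2
  refine h.outer T (eps_mul_self _) hu hx (a := pp (pt 23) t) ((eps_fix_iff hc _).2 fun p hp => ?_) ?_ ?_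
  · rw [pp_apply, if_neg fun e : p = pt 23 => n (e ▸ hp), if_neg fun e : p = t => ht.1 (e ▸ hp)]; rfl
  · simp only [H22.BF.dot_UP, pp_apply, if_neg ht.2.1.symm, if_neg ht.2.2.symm,
      if_neg (show pt 0 ≠ pt 23 by decide +kernel)]
    norm_num
  · rw [dot_pp]; omega

/-! ### inner involutions of dodecad type -/

theorem Fy.pair {c m : Finset GolayPt} {hc : c ∈ code} (h : Fy vUP x (eps c hc) κ) (T : Tg vUP x)
    (x0 : ∀ k ∈ c, (x : GolayPt → ℤ) k = 0) (x4 : ∀ k, (4 : ℤ) ∣ (x : GolayPt → ℤ) k) (hm : m ∈ code)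
    (xm : (16 : ℤ) ∣ dotInt (ind2 m hm : GolayPt → ℤ) x)
    {p q t : GolayPt} (n : q ≠ p) (e : ∀ k ∈ c, k ∈ m ↔ k = p ∨ k = q)
    (hp : p ∈ c ∧ p ≠ pt 0 ∧ p ≠ pt 23) (hq : q ∈ c ∧ q ≠ pt 0 ∧ q ≠ pt 23)
    (ht : t ∉ c ∧ t ≠ pt 0 ∧ t ≠ pt 23) (hm' : pt 0 ∈ m ↔ pt 23 ∈ m) :
    (κ • pp p q = pp p q ∨ κ • pp p q = -pp p q) ∧ (κ • pm p q = pm p q ∨ κ • pm p q = -pm p q) := by
  have d1 : dotInt (ind2 m hm : GolayPt → ℤ) vUP = 0 := by
    rw [H22.BF.dot_UP]; simp only [ind2, rep_zero, ind_apply, hm', sub_self]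
  have d2 : ∀ a b : GolayPt, a ≠ pt 0 ∧ a ≠ pt 23 → b ≠ pt 0 ∧ b ≠ pt 23 →
      dotInt (pp a b : GolayPt → ℤ) vUP = 0 ∧ dotInt (pm a b : GolayPt → ℤ) vUP = 0 := fun a b ha hb => by
    simp only [H22.BF.dot_UP, pp_apply, pm_apply, if_neg ha.1.symm, if_neg ha.2.symm, if_neg hb.1.symm,
      if_neg hb.2.symm]
    norm_num
  have := x4 q
  have := x4 t
  refine ⟨h.short T (v := ind2 m hm) (by rw [d1]; norm_num) xm (cg_eps hc _ _ fun k => ?_)
      (norm_pp n.symm) (d2 p q hp.2 hq.2).1 (by rw [dot_pp, x0 p hp.1, x0 q hq.1]; rfl),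
    h.short T (v := ind2 m hm - pp q t) (by
      rw [AddSubgroup.coe_sub, dotInt_sub_left, d1, (d2 q t hq.2 ht.2).1]; norm_num)
      (by rw [AddSubgroup.coe_sub, dotInt_sub_left, dot_pp]; omega)
      (cg_eps hc _ _ fun k => ?_) (norm_pm n.symm) (d2 p q hp.2 hq.2).2
      (by rw [dot_pm, x0 p hp.1, x0 q hq.1]; rfl)⟩
  · simp only [pp_apply, ind2, rep_zero, ind_apply]
    by_cases h1 : k ∈ c
    · simp only [if_pos h1, e k h1]
      by_cases a : k = p <;> by_cases b : k = q <;> simp_all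
    · rw [if_neg h1, if_neg fun e : k = p => h1 (e ▸ hp.1), if_neg fun e : k = q => h1 (e ▸ hq.1)]; rfl
  · simp only [pm_apply, AddSubgroup.coe_sub, Pi.sub_apply, pp_apply, ind2, rep_zero, ind_apply]
    by_cases h1 : k ∈ c
    · simp only [if_pos h1, e k h1, if_neg fun e : k = t => ht.1 (e ▸ h1)]
      by_cases a : k = p <;> by_cases b : k = q <;> simp_all
    · rw [if_neg h1, if_neg fun e : k = p => h1 (e ▸ hp.1), if_neg fun e : k = q => h1 (e ▸ hq.1)]; rfl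

/-- the triples in the dodecad -/
def TAB : List (ℕ × ℕ × ℕ × ℕ × List ℕ) :=
  [(14, 1, 2, 3, [5508118, 6554826]), (38, 1, 2, 5, [5508118, 2624690]), (16390, 1, 2, 14, [5508118, 5785794]),
  (131078, 1, 2, 17, [5508118, 4063314]), (42, 1, 3, 5, [6554826, 2624690]), (16394, 1, 3, 14, [6554826,
  5785794]), (131082, 1, 3, 17, [6554826, 4063314]), (16418, 1, 5, 14, [2624690, 5785794]), (131106, 1, 5, 17,
  [2624690, 4063314]), (147458, 1, 14, 17, [5785794, 4063314]), (44, 2, 3, 5, [3147996, 8126628]), (16396, 2, 3,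
  14, [3147996, 804052]), (131084, 2, 3, 17, [3147996, 6949956]), (16420, 2, 5, 14, [8126628, 804052]), (131108,
  2, 5, 17, [8126628, 6949956]), (147460, 2, 14, 17, [804052, 6949956]), (16424, 3, 5, 14, [4982904, 3951624]),
  (131112, 3, 5, 17, [4982904, 5899416]), (147464, 3, 14, 17, [3951624, 5899416]), (147488, 5, 14, 17, [7357552,
  1445088]), (4864, 8, 9, 12, [7079696, 2890176]), (8960, 8, 9, 13, [7079696, 1584464]), (33536, 8, 9, 15,
  [7079696, 5538256]), (66304, 8, 9, 16, [7079696, 7409024]), (12544, 8, 12, 13, [2890176, 1584464]), (37120, 8,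
  12, 15, [2890176, 5538256]), (69888, 8, 12, 16, [2890176, 7409024]), (41216, 8, 13, 15, [1584464, 5538256]),
  (73984, 8, 13, 16, [1584464, 7409024]), (98560, 8, 15, 16, [5538256, 7409024]), (12800, 9, 12, 13, [4202192,
  7612992]), (37376, 9, 12, 15, [4202192, 3704512]), (70144, 9, 12, 16, [4202192, 1903248]), (41472, 9, 13, 15,
  [7612992, 3704512]), (74240, 9, 13, 16, [7612992, 1903248]), (98816, 9, 15, 16, [3704512, 1903248]), (45056,
  12, 13, 15, [3421328, 7903248]), (77824, 12, 13, 16, [3421328, 6100032]), (102400, 12, 15, 16, [7903248,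
  6100032]), (106496, 13, 15, 16, [5024896, 6889680])]

theorem tab_ok : ∀ t ∈ TAB, Dt 258862 t.1 t.2.1 4 t.2.2.1 t.2.2.2.1 t.2.2.2.2 ∧
    t.2.1 ∈ [1, 2, 3, 5, 8, 9, 12, 13] := by decide +kernel

set_option synthInstance.maxSize 2048 in
theorem tab_cov : ∀ j, j ∉ ofMask 258862 → j ≠ pt 0 → j ≠ pt 23 → ∀ p, p ∈ ofMask 258862 → ∃ t ∈ TAB,
    p ∈ ofMask t.1 ∧ ∀ m ∈ t.2.2.2.2, (j ∈ ofMask m ↔ pt 0 ∈ ofMask m) := by decide +kernel

theorem halves : ∀ (l : List leechLattice) (K : Subgroup Co0), (∀ κ ∈ K, ∀ w ∈ l, κ • w = w ∨ κ • w = -w) →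
    (∀ κ ∈ K, (∀ w ∈ l, κ • w = w) → κ = 1) → Nat.card K ≤ 2 ^ l.length
  | [], K, _, h => by rw [show K = ⊥ from eq_bot_iff.2 fun κ hκ => h κ hκ (by simp), card_bot]; rfl
  | w :: l, K, h1, h2 => by
    have a := half (K := K) fun κ hκ => h1 κ hκ w List.mem_cons_self
    have b := halves l (K ⊓ Stab w) (fun κ hκ v hv => h1 κ hκ.1 v (List.mem_cons_of_mem _ hv))
      fun κ hκ e => h2 κ hκ.1 (List.forall_mem_cons.2 ⟨hκ.2, e⟩)
    rw [List.length_cons, pow_succ]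
    omega

theorem eq_one_of_dod (fx : κ • vUP = vUP) (a3 : ∀ q ∈ ofMask 258862, κ • e8 q = e8 q) : κ = 1 := by
  obtain ⟨σ, hσ, c, hc, rfl, f⟩ := exists_mono (p := pt 1) (by decide +kernel) fun q hq => Or.inl (a3 q hq)
  obtain ⟨x, x1, x2⟩ := exists_inj_into (s := ofMask 258862) (k := 5) (by rw [dod_mem.2]; norm_num)
  obtain rfl := eq_one_of_fix_dodecad hσ dod_mem (smul_eq_of_fix f) x x1 x2 fun i => f _ (x2 i)
  have n0 := not_mem_of_fix fx (Or.inl rfl) rfl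
  have n1 : ∀ q ∈ ofMask 258862, q ∉ c := fun q hq n => by
    have := a3 q hq
    rw [mono_smul_e8, f q hq, if_pos n] at this
    exact e8_ne_neg _ _ this.symm
  obtain ⟨w, hw, rfl⟩ := exists_cw_of_mem_codeSets hc
  have c0 : allLt2 64 64 (fun w => !(Nat.beq (Nat.land (cw w) 258863) 0) || Nat.beq (cw w) 0) = true := by
    decide +kernel
  have c1 := allLt2_iff.1 c0 w hw
  have c2 : Nat.land (cw w) 258863 = 0 := by
    refine ofMask_inj (lt_of_le_of_lt Nat.and_le_right (by norm_num)) (by norm_num) ?_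
    rw [ofMask_land, ofMask_zero]
    refine Finset.eq_empty_of_forall_notMem fun q hq => ?_
    obtain ⟨b1, b2⟩ := Finset.mem_inter.1 hq
    rcases (by decide +kernel : ∀ q, q ∈ ofMask 258863 → q ∈ ofMask 258862 ∨ q = pt 0) q b2 with b | rfl
    exacts [n1 q b b1, n0 b1]
  rw [c2] at c1
  have c3 : cw w = 0 := by simpa using c1
  refine co0_ext fun i => ?_
  rw [mono_smul_e8, c3, ofMask_zero, if_neg (Finset.notMem_empty _), one_smul]; rfl

theorem shape_dod (T : Tg vUP x) (x0 : ∀ k ∈ ofMask 258862, (x : GolayPt → ℤ) k = 0) :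
    ∃ j, j ∉ ofMask 258862 ∧ j ≠ pt 0 ∧ j ≠ pt 23 ∧ ∀ m (hm : m ∈ code), (pt 0 ∈ m ↔ pt 23 ∈ m) →
      (j ∈ m ↔ pt 0 ∈ m) → (16 : ℤ) ∣ dotInt (ind2 m hm : GolayPt → ℤ) x := by
  have x4 := four_dvd_of_supp T.nx dod_mem x0
  have d := T.ux
  rw [H16.dotInt_comm, H22.BF.dot_UP] at d
  have key : ∀ a j s t, (a = pt 0 ∨ a = pt 23) → j ≠ pt 0 → j ≠ pt 23 → (s = 1 ∨ s = -1) → (t = 1 ∨ t = -1) →
      (x : GolayPt → ℤ) = v44 a j s t → j ∉ ofMask 258862 ∧ j ≠ pt 0 ∧ j ≠ pt 23 ∧ ∀ m (hm : m ∈ code),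
      (pt 0 ∈ m ↔ pt 23 ∈ m) → (j ∈ m ↔ pt 0 ∈ m) → (16 : ℤ) ∣ dotInt (ind2 m hm : GolayPt → ℤ) x := by
    intro a j s t ha h0 h1 hs ht e
    refine ⟨fun hj => ?_, h0, h1, fun m hm b c => ?_⟩
    · have := x0 j hj
      rw [e, v44_apply, if_pos rfl, if_neg (by rcases ha with rfl | rfl <;> assumption)] at this
      omega
    · have : a ∈ m ↔ j ∈ m := by rcases ha with rfl | rfl <;> tauto
      rw [H16.dotInt_comm, e, dotInt_v44]
      simp only [ind2, rep_zero, ind_apply, this]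
      split_ifs <;> omega
  rcases min_shape x.2 T.nx with ⟨i, j, n, s, t, hs, ht, e⟩ | ⟨o, ho, s, -, -, e⟩ | ⟨c, -, j, e⟩
  · rw [e, v44_apply, v44_apply] at d
    by_cases a : i = pt 0 ∨ i = pt 23
    · refine ⟨j, key i j s t a ?_ ?_ hs ht e⟩ <;> rintro rfl <;> rcases a with rfl | rfl <;>
        simp only [n, n.symm, if_true, if_false, ne_eq, not_true] at d n <;> omega
    · push Not at a
      rw [if_neg a.1.symm, if_neg a.2.symm] at d
      refine ⟨i, key j i t s ?_ a.1 a.2 ht hs (e.trans (v44_comm _ _ _ _))⟩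
      by_contra b
      push Not at b
      rw [if_neg b.1.symm, if_neg b.2.symm] at d
      omega
  · obtain ⟨p, hp⟩ : o.Nonempty := Finset.card_pos.1 (by rw [ho.2]; norm_num)
    have := x4 p
    rw [e, oct_apply, if_pos hp] at this
    split_ifs at this <;> omega
  · have := x4 j
    rw [e, odd_apply, if_pos rfl] at this
    split_ifs at this <;> omega

theorem bound_dod {K : Subgroup Co0} (T : Tg vUP x) (hx : eps _ dod_mem.1 • x = x)
    (h : ∀ κ ∈ K, Fy vUP x (eps _ dod_mem.1) κ) : Nat.card K ≤ 256 := by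
  have x0 := (eps_fix_iff _ _).1 hx
  obtain ⟨j, j1, j2, j3, j4⟩ := shape_dod T x0
  have s : ∀ κ ∈ K, ∀ p ∈ ofMask 258862, ∃ b ∈ [1, 2, 3, 5, 8, 9, 12, 13],
      (κ • e8 p = e8 p ∧ κ • e8 (pt b) = e8 (pt b)) ∨ κ • e8 p = -e8 p ∧ κ • e8 (pt b) = -e8 (pt b) := by
    intro κ hκ p hp
    obtain ⟨t, ht, a1, a2⟩ := tab_cov j j1 j2 j3 p hp
    obtain ⟨⟨d1, d2, d3, d4, d5⟩, b⟩ := tab_ok t ht
    refine ⟨_, b, (all_sign (κ := κ) (fun q hq n => ?_) d4).imp (fun e => ⟨e _ a1, e _ d1⟩) fun e => ⟨e _ a1, e _ d1⟩⟩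
    obtain ⟨m, hm, a, b, e⟩ := d5 q hq n
    exact (h κ hκ).pair T x0 (four_dvd_of_supp T.nx dod_mem x0) (ofMask_mem_of_isCode a)
      (j4 _ _ b (a2 m hm)) n e (d2 _ d1) (d2 _ hq) d3 b
  refine halves ([1, 2, 3, 5, 8, 9, 12, 13].map fun b => e8 (pt b)) K (fun κ hκ => ?_) fun κ hκ e => ?_
  · refine List.forall_mem_map.2 fun b hb => ?_
    obtain ⟨_, -, k⟩ := s κ hκ (pt b) (by revert b; decide +kernel)
    exact k.imp (·.1) (·.1)
  · refine eq_one_of_dod (h κ hκ).fu fun q hq => ?_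
    obtain ⟨b, hb, k | k⟩ := s κ hκ q hq
    · exact k.1
    · exact absurd ((List.forall_mem_map.1 e b hb).symm.trans k.2) (e8_ne_neg _ _)

theorem impure_dod {D : Finset GolayPt} (hD : D ∈ dodecads) (T : Tg u x) :
    ∃ v : leechLattice, (16 : ℤ) ∣ dotInt (v : GolayPt → ℤ) u ∧ (16 : ℤ) ∣ dotInt (v : GolayPt → ℤ) x ∧
      ¬ (32 : ℤ) ∣ sqNorm ((eps D hD.1 • v + v : leechLattice) : GolayPt → ℤ) := by
  by_contra H
  push Not at H
  have n := sqNorm_e8 none
  suffices k : ∀ v : leechLattice, (32 : ℤ) ∣ sqNorm ((eps D hD.1 • v + v : leechLattice) : GolayPt → ℤ) →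
      (16 : ℤ) ∣ dotInt (e8 none : GolayPt → ℤ) v by
   rcases T.dual (e8 none) (fun v a b => k v (H v a b)) with e | e | e | e
   · exact Mon.not_cg_zero (Or.inr n) e
   · have := e.norm_eq (by rw [zero_add, T.nu]; norm_num) n.le
     rw [zero_add, T.nu] at this; omega
   · have := e.norm_eq (by rw [zero_add, T.nx]; norm_num) n.le
     rw [zero_add, T.nx] at this; omega
   · have := ((cg_xu 0).trans e).norm_eq (by rw [zero_add, T.nd]; norm_num) n.le
     rw [zero_add, T.nd] at this; omega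
  intro v k
  have cD : Dᶜ.card = 12 := by rw [Finset.card_compl, hD.2, card_golayPt]
  rw [coe_e8, dotInt_single_left]
  by_contra o
  have c : (32 : ℤ) ∣ ∑ i, (((eps D hD.1 • v + v : leechLattice) : GolayPt → ℤ) i ^ 2 - 4 * ind Dᶜ i) :=
    Finset.dvd_sum fun i _ => by
      rw [AddSubgroup.coe_add, Pi.add_apply, eps_smul_apply, ind_apply]
      by_cases hi : i ∈ D
      · simp [hi]
      · rw [if_neg hi, if_pos (Finset.mem_compl.2 hi)]
        have := two_dvd_sub_of_mem v.2 i none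
        obtain ⟨r, hr⟩ : ∃ r, (v : GolayPt → ℤ) i = 2 * r + 1 := ⟨(v : GolayPt → ℤ) i / 2, by omega⟩
        obtain ⟨s, hs⟩ := Int.even_mul_succ_self r
        exact ⟨s, by rw [hr]; linear_combination 16 * hs⟩
  rw [Finset.sum_sub_distrib, ← sqNorm_def, ← Finset.mul_sum, sum_ind, cD] at c
  omega

theorem eqns_FusA : True := by
  have := @Cm.eq_1
  have := @TAB.eq_1
  trivial

end H22.EF
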