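import Mathlib
import Cfsg.Agent.Lib.ERec.FusA

/-!
Involutions of `U6(2).2` inside `Co2`: octad type, and the case division.
-/

set_option autoImplicit false
set_option maxRecDepth 100000

namespace H22.EF

open Cfsg H15 H16 H95 H74.Co1 H30.K H16.P8 Subgroup H75.WC H12.Co2 H22.BF
open scoped Pointwise symmDiff

variable {u x v w : leechLattice} {γ κ : Co0}

theorem off_zero (h : eO • w = -w) (k : GolayPt) (hk : k ∉ O0) : (w : GolayPt → ℤ) k = 0 := by
  have := eps_smul_apply oct0_mem.1 w k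
  rw [h, if_neg hk, AddSubgroup.coe_neg, Pi.neg_apply] at this
  omega

theorem norm_on (h : eO • w = -w) : (32 : ℤ) ∣ sqNorm (w : GolayPt → ℤ) := by
  have z := off_zero h
  rcases (mem_leech_iff' _).1 w.2 with ⟨c, hc, e⟩ | ⟨c, -, e⟩
  · have sub : c ⊆ O0 := fun k hk => by
      by_contra n
      have := e.1 k
      rw [z k n, ind_of_mem hk] at this
      omega
    have c8 := Finset.card_le_card sub
    rw [oct0_mem.2] at c8
    rcases card_of_mem_code hc with k | k | k | k | k
    · rw [Finset.card_eq_zero.1 k] at e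
      exact e.norm_empty
    · obtain rfl : c = O0 := Finset.eq_of_subset_of_card_le sub (by rw [k, oct0_mem.2])
      have e1 := e.add (cong_rep 0 oct0_mem.1).neg
      rw [symmDiff_self, neg_zero, add_zero] at e1
      have e2 := Cong.norm_empty e1
      have e3 : dotInt (w : GolayPt → ℤ) (rep 0 O0) = 2 * ∑ i, (w : GolayPt → ℤ) i := by
        rw [dotInt_def, Finset.mul_sum]
        refine Finset.sum_congr rfl fun i _ => ?_
        simp only [rep_zero, ind_apply]
        split_ifs with hi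
        · ring
        · rw [z i hi]; ring
      have e4 := e.2
      rw [sqNorm_add, H16.sqNorm_neg, sqNorm_rep_zero, H16.dotInt_neg_right, e3, k] at e2
      omega
    all_goals omega
  · have := e.1 (pt 4)
    rw [z _ (by decide +kernel), ind_apply] at this
    split_ifs at this <;> omega

theorem dot_on (h : eO • w = -w) (h' : eO • v = -v) : (16 : ℤ) ∣ dotInt (w : GolayPt → ℤ) v := by
  have a := norm_on h
  have b := norm_on h'
  have c := norm_on (w := w + v) (by rw [smul_add, h, h', neg_add])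
  rw [AddSubgroup.coe_add, sqNorm_add] at c
  omega

theorem norm_off (t : leechLattice) : sqNorm ((t + eO • t : leechLattice) : GolayPt → ℤ) ≠ 32 := fun hn => by
  have k : ∀ i, ((t + eO • t : leechLattice) : GolayPt → ℤ) i = if i ∈ O0 then 0 else 2 * (t : GolayPt → ℤ) i :=
    fun i => by
      rw [AddSubgroup.coe_add, Pi.add_apply, eps_smul_apply]
      split_ifs <;> ring
  rcases min_shape (t + eO • t).2 hn with ⟨i, j, n, s, r, hs, hr, e⟩ | ⟨o, ho, s, -, -, e⟩ | ⟨c, -, j, e⟩
  · have a := k i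
    rw [e, v44_apply, if_pos rfl, if_neg n] at a
    have i0 : i ∉ O0 := fun h => by rw [if_pos h] at a; omega
    rw [if_neg i0] at a
    rcases (mem_leech_iff' _).1 t.2 with ⟨c, hc, f⟩ | ⟨c, -, f⟩
    · have ic : i ∈ c := by
        by_contra h
        have := f.1 i
        rw [ind_of_notMem h] at this
        omega
      have sub : c ⊆ c ∩ O0 ∪ {i, j} := fun p hp => by
        by_contra h
        simp only [Finset.mem_union, Finset.mem_inter, Finset.mem_insert, Finset.mem_singleton, not_or,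
          hp, true_and] at h
        have b := k p
        have := f.1 p
        rw [e, v44_apply, if_neg h.1, if_neg h.2.1, if_neg h.2.2] at b
        rw [ind_of_mem hp] at this
        omega
      have c1 := (Finset.card_le_card sub).trans (Finset.card_union_le _ _)
      have c2 := Finset.card_le_two (a := i) (b := j)
      have c3 := H16.card_symmDiff_add c O0
      have c4 : 8 ≤ c.card := not_lt.1 fun h => by
        rw [eq_empty_of_card_lt hc h] at ic; exact Finset.notMem_empty _ ic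
      rw [oct0_mem.2] at c3
      have c5 := eq_empty_of_card_lt (symmDiff_mem_code hc oct0_mem.1) (show (c ∆ O0).card < 8 by omega)
      rw [Finset.symmDiff_eq_empty.1 c5] at ic
      exact i0 ic
    · have := f.1 i
      omega
  · obtain ⟨p, hp⟩ : o.Nonempty := Finset.card_pos.1 (by rw [ho.2]; norm_num)
    obtain ⟨q, -, hq⟩ := Finset.exists_mem_notMem_of_card_lt_card (s := o ∪ O0) (t := Finset.univ) (by
      have := Finset.card_union_le o O0
      rw [ho.2, oct0_mem.2] at this
      rw [Finset.card_univ, card_golayPt]; omega)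
    rw [Finset.mem_union, not_or] at hq
    have a := k p
    have b := k q
    have := two_dvd_sub_of_mem t.2 p q
    rw [e, oct_apply, if_pos hp] at a
    rw [e, oct_apply, if_neg hq.1, if_neg hq.2] at b
    split_ifs at a <;> omega
  · have a := k (pt 0)
    rw [e, odd_apply, if_pos pt0_mem] at a
    split_ifs at a <;> omega

theorem cg_of_dots {d : leechLattice} (h1 : ∀ q ∈ O0, q ≠ pt 0 → (16 : ℤ) ∣ dotInt (pp (pt 0) q : GolayPt → ℤ) d)
    (h2 : (16 : ℤ) ∣ dotInt (ind2 O0 oct0_mem.1 : GolayPt → ℤ) d) : Cg (eO • d) d := by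
  have s : dotInt (ind2 O0 oct0_mem.1 : GolayPt → ℤ) d = 2 * ∑ i ∈ O0, (d : GolayPt → ℤ) i := by
    rw [← sum_ind_mul, dotInt_def, Finset.mul_sum]
    exact Finset.sum_congr rfl fun i _ => by simp only [ind2, rep_zero]; ring
  have a : ∀ q ∈ O0.erase (pt 0), (4 : ℤ) ∣ (d : GolayPt → ℤ) (pt 0) + (d : GolayPt → ℤ) q := fun q hq => by
    have := h1 q (Finset.mem_erase.1 hq).2 (Finset.mem_erase.1 hq).1
    rw [dot_pp] at this
    omega
  have b := Finset.dvd_sum a
  have c := Finset.add_sum_erase O0 (d : GolayPt → ℤ) pt0_mem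
  rw [Finset.sum_add_distrib, Finset.sum_const, Finset.card_erase_of_mem pt0_mem, oct0_mem.2, nsmul_eq_mul] at b
  have a' : ∀ q ∈ O0, (4 : ℤ) ∣ (d : GolayPt → ℤ) (pt 0) + (d : GolayPt → ℤ) q := fun q hq => by
    by_cases e : q = pt 0
    · rw [e]; push_cast at b; omega
    · exact a q (Finset.mem_erase.2 ⟨e, hq⟩)
  have a0 := a' _ pt0_mem
  have s8 : (8 : ℤ) ∣ ∑ i, ind O0 i * (d : GolayPt → ℤ) i - 4 * 0 := by rw [sum_ind_mul]; omega
  have m : (fun i => ind O0 i * (d : GolayPt → ℤ) i) ∈ leechLattice := by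
    by_cases e : (4 : ℤ) ∣ (d : GolayPt → ℤ) (pt 0)
    · refine Cong.mem (m := 0) ⟨fun i => ?_, s8⟩ empty_mem_code
      simp only [ind_apply, if_neg (Finset.notMem_empty i)]
      split_ifs with hi
      · have := a' i hi; omega
      · norm_num
    · refine Cong.mem (m := 0) ⟨fun i => ?_, s8⟩ oct0_mem.1
      simp only [ind_apply]
      split_ifs with hi
      · have := a' i hi; omega
      · norm_num
  refine cg_iff.2 ⟨-⟨_, m⟩, Subtype.ext (funext fun i => ?_)⟩
  simp only [AddSubgroup.coe_add, AddSubgroup.coe_neg, Pi.add_apply, Pi.neg_apply, eps_smul_apply, ind_apply]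
  split_ifs <;> ring

theorem exists_f : ∃ f : leechLattice → O0 → Bool, ∀ v w, f v = f w → Cg (eO • v + v) (eO • w + w) := by
  refine ⟨fun v q => decide ((16 : ℤ) ∣ dotInt
    ((if (q : GolayPt) = pt 0 then ind2 O0 oct0_mem.1 else pp (pt 0) q : leechLattice) : GolayPt → ℤ) v),
    fun v w e => ?_⟩
  have k : ∀ q : O0, (16 : ℤ) ∣ dotInt ((if (q : GolayPt) = pt 0 then ind2 O0 oct0_mem.1 else pp (pt 0) q :
      leechLattice) : GolayPt → ℤ) (v - w : leechLattice) := fun q => by
    have a := decide_eq_decide.1 (congrFun e q)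
    generalize (if (q : GolayPt) = pt 0 then ind2 O0 oct0_mem.1 else pp (pt 0) q) = t at a
    have := eight_dvd_dotInt t.2 v.2
    have := eight_dvd_dotInt t.2 w.2
    rw [AddSubgroup.coe_sub, dotInt_sub_right]
    omega
  obtain ⟨t, ht⟩ := cg_iff.1 (cg_of_dots (d := v - w) (fun q hq n => by simpa only [if_neg n] using k ⟨q, hq⟩)
    (by simpa only [if_true] using k ⟨_, pt0_mem⟩))
  rw [smul_sub, sub_eq_iff_eq_add] at ht
  exact cg_iff.2 ⟨t + v - w, by rw [ht]; abel⟩

theorem eO_sq : eO * eO = 1 := eps_mul_self _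

theorem anti (v : leechLattice) : eO • (v - eO • v) = -(v - eO • v) := by
  rw [smul_sub, ← mul_smul, eO_sq, one_smul, neg_sub]

theorem adj_p (v w : leechLattice) : dotInt ((v - eO • v : leechLattice) : GolayPt → ℤ) w =
    dotInt (v : GolayPt → ℤ) (w - eO • w : leechLattice) := by
  rw [AddSubgroup.coe_sub, AddSubgroup.coe_sub, dotInt_sub_left, dotInt_sub_right, dotInt_co0_left,
    inv_eq_of_mul_eq_one_right eO_sq]

theorem Fy.neg (h : Fy u x (negCo0 * γ) κ) : Fy u x γ κ :=
  ⟨h.fu, h.fx, by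
    have := h.comm
    rwa [← mul_assoc, neg_comm, mul_assoc, mul_assoc, mul_right_inj] at this, fun v w a a' b c => h.fix v w a a' (Cg.trans (by
    rw [mul_smul, negCo0_smul]; exact (cg_neg _).symm.add (Cg.refl v)) b) c⟩

theorem no_shift (T : Tg u x) (s : (eO • u = u ∧ eO • x = x) ∨ (eO • u = -u ∧ eO • x = -x))
    (c : κ * eO = eO * κ) (hu : κ • u = u) (hx : κ • x = x) (hw : eO • w = -w) (h : Cm u x (κ • w) w) :
    Cg (κ • w) w := by
  have hk : eO • κ • w = -(κ • w) := by rw [← mul_smul, ← c, mul_smul, hw, smul_neg]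
  rcases s with s | s
  · have key : ∀ m : leechLattice, eO • m = m → sqNorm (m : GolayPt → ℤ) = 32 → ¬ Cg (κ • w + m) w :=
      fun m h1 h2 e => by
      obtain ⟨t, ht⟩ := cg_iff.1 e
      have := congrArg (eO • ·) ht
      simp only [smul_add, hk, h1, hw] at this
      refine norm_off t (h2 ▸ congrArg (fun y : leechLattice => sqNorm (y : GolayPt → ℤ)) ?_)
      refine Subtype.ext (funext fun i => ?_)
      have a := congrFun (congrArg Subtype.val ht) i
      have b := congrFun (congrArg Subtype.val this) i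
      simp only [AddSubgroup.coe_add, AddSubgroup.coe_neg, Pi.add_apply, Pi.neg_apply] at a b ⊢
      omega
    rcases h with e | e | e | e
    exacts [e, absurd e (key _ s.1 T.nu), absurd e (key _ s.2 T.nx),
      absurd ((cg_xu _).trans e) (key _ (by rw [smul_sub, s.1, s.2]) T.nd)]
  · have key : ∀ m y : leechLattice, eO • m = -m → eO • y = -y → κ • y = y → Cg (κ • w + m) w →
        (32 : ℤ) ∣ dotInt (m : GolayPt → ℤ) y := fun m y h1 h2 h3 e => by
      obtain ⟨t, ht⟩ := cg_iff.1 e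
      have := congrArg (eO • ·) ht
      simp only [smul_add, hk, h1, hw] at this
      have a : eO • t = -t := Subtype.ext (funext fun i => by
        have a := congrFun (congrArg Subtype.val ht) i
        have b := congrFun (congrArg Subtype.val this) i
        simp only [AddSubgroup.coe_add, AddSubgroup.coe_neg, Pi.add_apply, Pi.neg_apply] at a b ⊢
        omega)
      have b := dot_on a h2
      have d := dotInt_co0 κ w y
      have f := congrArg (fun r : leechLattice => dotInt (r : GolayPt → ℤ) y) ht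
      simp only [AddSubgroup.coe_add, H16.dotInt_add_left] at f
      rw [h3] at d
      omega
    have d := T.ux
    have d' := H16.dotInt_comm (x : GolayPt → ℤ) u
    rcases h with e | e | e | e
    · exact e
    · have := key _ _ s.1 s.2 hx e; omega
    · have := key _ _ s.2 s.1 hu e; omega
    · have := key _ _ (by rw [smul_add, s.1, s.2, neg_add]) s.1 hu (add_assoc _ x u ▸ e)
      rw [AddSubgroup.coe_add, H16.dotInt_add_left, dotInt_self, T.nu] at this
      omega

theorem mem_fixW (T : Tg u x) (s : (eO • u = u ∧ eO • x = x) ∨ (eO • u = -u ∧ eO • x = -x))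
    (h : Fy u x eO κ) (h' : Fy u x eO κ⁻¹) (hx : κ • x = x) : κ ∈ FixW eO := by
  have cp : ∀ v, Cg (eO • v + v) (v - eO • v) := fun v => cg_iff.2 ⟨eO • v, by abel⟩
  rintro y ⟨v, hv⟩
  have e := (cp v).symm.trans hv
  refine ((e.smul κ).symm.trans (no_shift T s h.comm h.fu hx (anti v) ?_)).trans e
  have := T.dual (v - eO • v - κ • (v - eO • v)) fun w a b => by
    obtain ⟨t, ht⟩ := cg_iff.1 (no_shift T s h'.comm h'.fu (inv_smul_eq_iff.2 hx.symm) (anti w)
      (h'.fix w _ a b (cp w) (norm_on (anti w))))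
    have := eight_dvd_dotInt v.2 t.2
    rw [AddSubgroup.coe_sub, dotInt_sub_left, dotInt_co0_left, adj_p, adj_p, ← mul_smul, ← h'.comm, mul_smul,
      ← smul_sub, ht]
    simp only [AddSubgroup.coe_add, H16.dotInt_add_right]
    omega
  have k : ∀ m, Cg m (v - eO • v - κ • (v - eO • v)) → Cg (κ • (v - eO • v) + m) (v - eO • v) := fun m e => by
    have := (Cg.refl (κ • (v - eO • v))).add e
    rwa [add_sub_cancel] at this
  refine this.imp (fun e => ?_) (Or.imp (fun e => ?_) (Or.imp (fun e => ?_) fun e => ?_)) <;>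
    simpa only [zero_add, add_zero, add_assoc] using k _ e

theorem half' {K : Subgroup Co0} (h : ∀ κ ∈ K, κ • x = x ∨ κ • x = w) :
    Nat.card K ≤ 2 * Nat.card (K ⊓ Stab x : Subgroup Co0) :=
  card_le_two_mul inf_le_left fun a ha b hb n1 n2 => ⟨K.mul_mem (K.inv_mem ha) hb, by
    have e1 := (h a ha).resolve_left fun e => n1 ⟨ha, e⟩
    have e2 := (h b hb).resolve_left fun e => n2 ⟨hb, e⟩
    show (a⁻¹ * b) • x = x
    rw [mul_smul, e2, ← e1, inv_smul_smul]⟩

theorem bound_oct {K : Subgroup Co0} (T : Tg u x)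
    (s : (eO • u = u ∧ eO • x = x) ∨ (eO • u = -u ∧ eO • x = -x)) (h : ∀ κ ∈ K, Fy u x eO κ) :
    Nat.card K ≤ 1024 := by
  have a := half' fun κ hκ => (h κ hκ).fx
  have b : Nat.card (K ⊓ Stab x : Subgroup Co0) ≤ 512 :=
    (Nat.card_le_card_of_injective (fun κ : (K ⊓ Stab x : Subgroup Co0) => (⟨mk1 κ, fixW_oct
      (mem_fixW T s (h _ κ.2.1) (h _ (K.inv_mem κ.2.1)) κ.2.2)⟩ : Q0)) fun a b e => Subtype.ext
      ((mk1_eq_iff.1 (congrArg Subtype.val e)).resolve_right fun f => by
        have := (h _ a.2.1).fu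
        rw [f, mul_smul, (h _ b.2.1).fu, negCo0_smul] at this
        exact ne_neg_of_norm (by rw [T.nu]; norm_num) this.symm)).trans
      (card_NO ▸ Nat.card_le_card_of_surjective _ (mk1.subgroupMap_surjective _))
  omega

/-- the two types of involutions -/
def Ty (u x : leechLattice) (γ : Co0) : Prop :=
  ((∀ K : Subgroup Co0, (∀ κ ∈ K, Fy u x γ κ) → Nat.card K ≤ 1024) ∧
    ∃ f : leechLattice → O0 → Bool, ∀ v w, f v = f w → Cg (γ • v + v) (γ • w + w)) ∨
  ((∀ K : Subgroup Co0, (∀ κ ∈ K, Fy u x γ κ) → Nat.card K ≤ 256) ∧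
    ∃ v : leechLattice, (16 : ℤ) ∣ dotInt (v : GolayPt → ℤ) u ∧ (16 : ℤ) ∣ dotInt (v : GolayPt → ℤ) x ∧
      ¬ (32 : ℤ) ∣ sqNorm ((γ • v + v : leechLattice) : GolayPt → ℤ))

theorem bound_conj (g : Co0) {n : ℕ}
    (h : ∀ K : Subgroup Co0, (∀ κ ∈ K, Fy (g • u) (g • x) (g * γ * g⁻¹) κ) → Nat.card K ≤ n)
    (K : Subgroup Co0) (hK : ∀ κ ∈ K, Fy u x γ κ) : Nat.card K ≤ n := by
  rw [← card_map_of_injective (K := K) (f := (MulAut.conj g).toMonoidHom) (MulAut.conj g).injective]
  refine h _ ?_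
  rintro _ ⟨κ, hκ, rfl⟩
  exact (hK κ hκ).conj g

theorem f_conj (g : Co0)
    (h : ∃ f : leechLattice → O0 → Bool, ∀ v w, f v = f w → Cg ((g * γ * g⁻¹) • v + v) ((g * γ * g⁻¹) • w + w)) :
    ∃ f : leechLattice → O0 → Bool, ∀ v w, f v = f w → Cg (γ • v + v) (γ • w + w) := by
  obtain ⟨f, hf⟩ := h
  refine ⟨fun v => f (g • v), fun v w e => ?_⟩
  simpa only [mul_smul, inv_smul_smul, smul_add] using (hf _ _ e).smul g⁻¹

theorem Ty.of_conj (g : Co0) (h : Ty (g • u) (g • x) (g * γ * g⁻¹)) : Ty u x γ := by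
  refine h.imp (fun h => ⟨bound_conj g h.1, f_conj g h.2⟩) fun ⟨h, v, a, b, c⟩ =>
    ⟨bound_conj g h, g⁻¹ • v, by rwa [dotInt_co0_left, inv_inv], by rwa [dotInt_co0_left, inv_inv], ?_⟩
  rwa [← sqNorm_co0 g, smul_add, smul_inv_smul, ← mul_smul, ← mul_smul]

theorem neg_eO : negCo0 * eO = eps _ (compl_mem_codeSets oct0_mem.1) := co0_ext fun i => by
  rw [mul_smul, negCo0_smul, eps_smul_e8, eps_smul_e8]
  by_cases a : i ∈ O0
  · rw [if_pos a, if_neg (by simpa using a), neg_neg]
  · rw [if_neg a, if_pos (by simpa using a)]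

theorem ty_UP (T : Tg vUP x) (hγ : γ ∈ Stab vUP) (hx : γ • x = x ∨ γ • x = vUP - x) (h2 : γ * γ = 1)
    (h1 : γ ≠ 1) : Ty vUP x γ := by
  have key : ∀ d (hd : d ∈ code), (∃ g ∈ Stab vUP, g * γ * g⁻¹ = eps d hd) →
      (∀ x, Tg vUP x → (eps d hd • x = x ∨ eps d hd • x = vUP - x) → Ty vUP x (eps d hd)) → Ty vUP x γ := by
    rintro d hd ⟨g, hg, e⟩ b
    have t := T.conj g
    refine Ty.of_conj g ?_
    rw [mem_Stab.1 hg] at t ⊢
    rw [e]
    refine b _ t ?_
    rw [← e, mul_smul, inv_smul_smul, mul_smul]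
    exact hx.imp (congrArg _) fun f => by rw [f, smul_sub, mem_Stab.1 hg]
  have out : ∀ d (hd : d ∈ code), eps d hd ∈ Stab vUP → d ≠ ∅ → ∀ t, t ∉ d ∧ t ≠ pt 0 ∧ t ≠ pt 23 → ∀ x, Tg vUP x →
      eps d hd • x = vUP - x → ∀ K : Subgroup Co0, (∀ κ ∈ K, Fy vUP x (eps d hd) κ) → Nat.card K ≤ 1024 :=
    fun d hd a n t ht x T e K hK => (bound_UP a (eps_mul_self _) (fun f => n (eps_inj (f.trans eps_empty.symm)))
      fun κ hκ => outer_eps (hK κ hκ) T a e ht).trans (by norm_num)
  obtain ⟨g, hg, c, hc, e⟩ := cls_eps hγ h2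
  have m : eps c hc ∈ Stab vUP := e ▸ mul_mem (mul_mem hg hγ) (inv_mem hg)
  have tr : ∀ d (hd : d ∈ code), eps d hd ∈ Stab vUP → c.card = d.card →
      ∃ g ∈ Stab vUP, g * γ * g⁻¹ = eps d hd := fun d hd a b => by
    obtain ⟨k, hk, e'⟩ := eps_conj_of_card hc hd m a b
    exact ⟨k * g, mul_mem hk hg, by rw [← e', ← e]; group⟩
  rcases card_of_mem_code hc with k | k | k | k | k
  · obtain rfl := Finset.card_eq_zero.1 k
    rw [eps_empty, mul_inv_eq_one, mul_eq_left] at e
    exact absurd e h1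
  · have a : eps _ oct1_mem.1 ∈ Stab vUP := (eps_mem_stab _).2 (by decide +kernel)
    obtain ⟨σ, hσ, s⟩ := M24_trans_octads oct1_mem oct0_mem
    have s' : permHom ⟨σ, hσ⟩ * eps _ oct1_mem.1 * (permHom ⟨σ, hσ⟩)⁻¹ = eO := by
      rw [conj_eps]; congr 1
    refine key _ _ (tr _ oct1_mem.1 a (k.trans oct1_mem.2.symm)) fun x T hx =>
      Or.inl ⟨?_, f_conj _ (s' ▸ exists_f)⟩
    rcases hx with hx | hx
    · refine bound_conj (permHom ⟨σ, hσ⟩) fun K hK => bound_oct (T.conj _) (Or.inl ⟨?_, ?_⟩) (s' ▸ hK)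
      · rw [← s', mul_smul, inv_smul_smul, mul_smul, mem_Stab.1 a]
      · rw [← s', mul_smul, inv_smul_smul, mul_smul, hx]
    · exact out _ _ a (by decide +kernel) (pt 1) (by decide +kernel) x T hx
  · have a : eps _ dod_mem.1 ∈ Stab vUP := (eps_mem_stab _).2 (by decide +kernel)
    refine key _ _ (tr _ dod_mem.1 a (k.trans dod_mem.2.symm)) fun x T hx =>
      Or.inr ⟨fun K hK => ?_, impure_dod dod_mem T⟩
    rcases hx with hx | hx
    · exact bound_dod T hx hK
    · exact (bound_C fun κ hκ => outer_eps (hK κ hκ) T a hx (t := pt 4) (by decide +kernel)).trans (by norm_num)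
  · have hd : O0ᶜ ∈ code := compl_mem_codeSets oct0_mem.1
    have a : eps _ hd ∈ Stab vUP := (eps_mem_stab _).2 (by decide +kernel)
    refine key _ hd (tr _ hd a (k.trans (by decide +kernel))) fun x T hx => Or.inl ⟨?_, ?_⟩
    · rcases hx with hx | hx
      · rw [← neg_eO] at a hx ⊢
        refine fun K hK => bound_oct T (Or.inr ⟨?_, ?_⟩) fun κ hκ => (hK κ hκ).neg
        · rwa [mem_Stab, mul_smul, negCo0_smul, neg_eq_iff_eq_neg] at a
        · rwa [mul_smul, negCo0_smul, neg_eq_iff_eq_neg] at hx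
      · exact out _ _ a (by decide +kernel) (pt 1) (by decide +kernel) x T hx
    · obtain ⟨f, hf⟩ := exists_f
      refine ⟨f, fun v w e => ?_⟩
      rw [← neg_eO, mul_smul, mul_smul, negCo0_smul, negCo0_smul]
      exact (((cg_neg _).symm.add (Cg.refl v)).trans (hf v w e)).trans ((cg_neg _).add (Cg.refl w))
  · have := ((eps_mem_stab hc).1 m).1
    rw [Finset.eq_univ_of_card c (k.trans card_golayPt.symm)] at this
    exact absurd (Finset.mem_univ _) this

theorem ty (T : Tg u x) (hγ : γ • u = u) (hx : γ • x = x ∨ γ • x = u - x) (h2 : γ * γ = 1) (h1 : γ ≠ 1) :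
    Ty u x γ := by
  obtain ⟨g, hg⟩ := min_trans (mem_Min.2 T.nu) (mem_Min.2 norm_UP)
  refine Ty.of_conj g ?_
  have t := T.conj g
  rw [hg] at t ⊢
  refine ty_UP t (by rw [mem_Stab, ← hg, mul_smul, inv_smul_smul, mul_smul, hγ]) ?_ (conj_sq h2)
    fun e => h1 (by rwa [mul_inv_eq_one, mul_eq_left] at e)
  rw [← hg, mul_smul, inv_smul_smul, mul_smul, ← smul_sub]
  exact hx.imp (congrArg _) (congrArg _)

theorem eqns_FusB : True := by
  have := @Ty.eq_1
  trivial

end H22.EF
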