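import Mathlib
import Cfsg.Agent.Lib.BRec.ClsCo
import Cfsg.Agent.Lib.M24Geom.Six

/-!
Elementary abelian groups of permutations normalised by three subgroups of `M24`.
-/

set_option autoImplicit false
set_option maxRecDepth 100000

namespace H26.EC

open Cfsg Subgroup H15 H16 H95 H30.K H16.P8 H99.BC
open scoped Pointwise

/-- three different cosets -/
theorem three_le {Γ : Type*} [Group Γ] {P X : Subgroup Γ} [Finite X] (h : P ≤ X) {a b : Γ}
    (ha : a ∈ X) (hb : b ∈ X) (na : a ∉ P) (nb : b ∉ P) (nab : a⁻¹ * b ∉ P) :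
    3 * Nat.card P ≤ Nat.card X := by
  have h1 := card_mul_index (P.subgroupOf X)
  rw [Nat.card_congr (subgroupOfEquivOfLe h).toEquiv] at h1
  have h2 : 3 ≤ (P.subgroupOf X).index := by
    have := Nat.card_le_card_of_injective _
      (injective_vec3 (a := ((1 : X) : X ⧸ P.subgroupOf X)) (b := (⟨a, ha⟩ : X)) (c := (⟨b, hb⟩ : X))
        (fun e => na (by simpa [mem_subgroupOf] using QuotientGroup.eq.1 e))
        (fun e => nb (by simpa [mem_subgroupOf] using QuotientGroup.eq.1 e))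
        (fun e => nab (by simpa [mem_subgroupOf] using QuotientGroup.eq.1 e)))
    rwa [Nat.card_eq_fintype_card, Fintype.card_fin] at this
  nlinarith

theorem injective_vec6 {α : Type*} {a b c d e f : α} (h : [a, b, c, d, e, f].Nodup) :
    Function.Injective ![a, b, c, d, e, f] := by
  rw [← List.nodup_ofFn]; simpa using h

/-- an elementary abelian group normalised by the stabiliser of an octad and two of its points -/
theorem fix_oct2 {o : Finset GolayPt} (ho : o ∈ octads) {i j : GolayPt} (hi : i ∈ o) (hj : j ∈ o)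
    (ij : i ≠ j) {S : Subgroup (Equiv.Perm GolayPt)} (hS : S ≤ M24) (sq : ∀ x ∈ S, x * x = 1)
    (pres : ∀ σ ∈ S, ∀ p ∈ o, σ p ∈ o) (pres' : ∀ σ ∈ S, ∀ p, p = i ∨ p = j → σ p = i ∨ σ p = j)
    (conj : ∀ τ ∈ M24, τ • o = o → τ i = i → τ j = j → ∀ σ ∈ S, τ * σ * τ⁻¹ ∈ S) :
    ∀ σ ∈ S, ∀ p ∈ o, σ p = p := by
  have inv : ∀ σ ∈ S, ∀ p, σ (σ p) = p := fun σ h p => by
    rw [← Equiv.Perm.mul_apply, sq σ h]; rfl
  have out : ∀ σ ∈ S, ∀ p, ¬ (p = i ∨ p = j) → ¬ (σ p = i ∨ σ p = j) := fun σ h p n f =>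
    n (inv σ h p ▸ pres' σ h _ f)
  have P1 : ∀ σ ∈ S, ∀ a ∈ o, ¬ (a = i ∨ a = j) → σ a = a → ∀ c ∈ o, ¬ (c = i ∨ c = j) → σ c = c := by
    intro σ hσ a ha a1 e c hc c1
    by_contra n
    have ac : a ≠ c := fun f => n (f ▸ e)
    have c2 := out σ hσ c c1
    rw [not_or] at a1 c1 c2
    obtain ⟨τ, hτ, t0, t⟩ := M24_trans_octad_flag_le ho ho (k := 4) (by norm_num) ![i, j, c, σ c]
      ![i, j, a, c] (injective_vec4 ij (Ne.symm c1.1) (Ne.symm c2.1) (Ne.symm c1.2) (Ne.symm c2.2) (Ne.symm n))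
      (injective_vec4 ij (Ne.symm a1.1) (Ne.symm c1.1) (Ne.symm a1.2) (Ne.symm c1.2) ac)
      (fun k => by fin_cases k; exacts [hi, hj, hc, pres σ hσ c hc])
      (fun k => by fin_cases k; exacts [hi, hj, ha, hc])
    have t1 : τ c = a := t 2
    have t2 : τ (σ c) = c := t 3
    have k : (τ * σ * τ⁻¹) a = c := by
      rw [Equiv.Perm.mul_apply, Equiv.Perm.inv_eq_iff_eq.2 t1.symm, Equiv.Perm.mul_apply, t2]
    have := congrArg (· a) (comm_of_sq sq hσ (conj τ hτ t0 (t 0) (t 1) σ hσ))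
    simp only [Equiv.Perm.mul_apply σ, Equiv.Perm.mul_apply _ σ, k, e] at this
    exact n this
  have ex : ∀ l : List GolayPt, l.length < 8 → ∃ c ∈ o, c ∉ l := fun l hl => by
    by_contra! h
    have := Finset.card_le_card (show o ⊆ l.toFinset from fun c hc => List.mem_toFinset.2 (h c hc))
    have := List.toFinset_card_le l
    have := ho.2
    omega
  have six : ∀ σ ∈ S, ∀ a ∈ o, ¬ (a = i ∨ a = j) → σ a = a := by
    intro σ hσ a ha a1
    by_contra n
    obtain ⟨c, hc, c1⟩ := ex [i, j, a, σ a] (by simp)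
    obtain ⟨d, hd, d1⟩ := ex [i, j, a, σ a, c, σ c] (by simp)
    simp only [List.mem_cons, List.not_mem_nil, or_false, not_or] at c1 d1
    have c0 : ¬ (c = i ∨ c = j) := not_or.2 ⟨c1.1, c1.2.1⟩
    have n1 : c ≠ σ c := fun f => n (P1 σ hσ c hc c0 f.symm a ha a1)
    have n2 : a ≠ σ c := fun f => c1.2.2.2 (by rw [f, inv σ hσ])
    have n3 : σ a ≠ σ c := fun f => c1.2.2.1 (σ.injective f).symm
    have a2 := not_or.1 (out σ hσ a a1)
    have c2 := not_or.1 (out σ hσ c c0)
    have a3 := not_or.1 a1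
    obtain ⟨τ, hτ, t0, t⟩ := H96.Geo.M24_trans_octad_flag6 ho ho ![i, j, a, σ a, c, σ c] ![i, j, a, σ a, c, d]
      (injective_vec6 (by simp only [List.nodup_cons, List.mem_cons, List.not_mem_nil]; tauto))
      (injective_vec6 (by simp only [List.nodup_cons, List.mem_cons, List.not_mem_nil]; tauto))
      (fun k => by fin_cases k; exacts [hi, hj, ha, pres σ hσ a ha, hc, pres σ hσ c hc])
      (fun k => by fin_cases k; exacts [hi, hj, ha, pres σ hσ a ha, hc, hd])
    have t1 : τ a = a := t 2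
    have t2 : τ (σ a) = σ a := t 3
    have t3 : τ c = c := t 4
    have t4 : τ (σ c) = d := t 5
    have k : ∀ x, τ x = x → (σ * (τ * σ * τ⁻¹)) x = σ (τ (σ x)) := fun x h => by
      simp only [Equiv.Perm.mul_apply, Equiv.Perm.inv_eq_iff_eq.2 h.symm]
    have := P1 _ (S.mul_mem hσ (conj τ hτ t0 (t 0) (t 1) σ hσ)) a ha a1
      (by rw [k a t1, t2, inv σ hσ]) c hc c0
    rw [k c t3, t4] at this
    exact d1.2.2.2.2.2 (by rw [← this, inv σ hσ])
  intro σ hσ
  refine H96.Geo.fix_octad_of_six (hS hσ) ho (E := (o.erase i).erase j)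
    ((Finset.erase_subset _ _).trans (Finset.erase_subset _ _)) ?_ fun p hp => ?_
  · rw [Finset.card_erase_of_mem (Finset.mem_erase.2 ⟨ij.symm, hj⟩), Finset.card_erase_of_mem hi, ho.2]
  · simp only [Finset.mem_erase] at hp
    exact six σ hσ p hp.2.2 (not_or.2 ⟨hp.2.1, hp.1⟩)

/-- an elementary abelian group normalised by `M21`, fixing `1` and the duad, is trivial -/
theorem eq_one_tri {S : Subgroup (Equiv.Perm GolayPt)} (hS : S ≤ M24) (sq : ∀ x ∈ S, x * x = 1)
    (pres : ∀ σ ∈ S, ∀ p, p = none ∨ p = some 0 → σ p = none ∨ σ p = some 0)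
    (one : ∀ σ ∈ S, σ (some 1) = some 1)
    (conj : ∀ τ ∈ M21, ∀ σ ∈ S, τ * σ * τ⁻¹ ∈ S) : ∀ σ ∈ S, σ = 1 := by
  intro σ hσ
  have inv : ∀ p, σ (σ p) = p := fun p => by rw [← Equiv.Perm.mul_apply, sq σ hσ]; rfl
  have := isSimple_M21
  have hn : (S.subgroupOf M21).Normal := ⟨fun x hx τ => conj τ τ.2 x hx⟩
  have hb := eq_bot_of_simple (by rw [card_M21]; norm_num) (S.subgroupOf M21)
    fun x hx => Subtype.ext (sq x hx)
  have key : ∀ a, ¬ (a = none ∨ a = some 0) → a ≠ some 1 → σ a = a := by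
    intro a ha a1
    by_contra n
    have hb' : ¬ (σ a = none ∨ σ a = some 0) := fun f => ha (inv a ▸ pres σ hσ _ f)
    have b1 : σ a ≠ some 1 := fun f => a1 (by rw [← inv a, f, one σ hσ])
    obtain ⟨c, c1⟩ : ∃ c : GolayPt, c ∉ [none, some 0, some 1, a, σ a] := by
      by_contra! h
      have := Finset.card_le_card (show (Finset.univ : Finset GolayPt) ⊆
        [none, some 0, some 1, a, σ a].toFinset from fun c _ => List.mem_toFinset.2 (h c))
      have := this.trans (List.toFinset_card_le _)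
      revert this
      simp only [List.length_cons, List.length_nil]
      decide
    simp only [List.mem_cons, List.not_mem_nil, or_false, not_or] at c1 ha hb'
    have n0 : (none : GolayPt) ≠ some 0 := by decide
    have n1 : (none : GolayPt) ≠ some 1 := by decide
    have n2 : (some 0 : GolayPt) ≠ some 1 := by decide
    obtain ⟨τ, hτ, t1, t2, t0, t3, t4⟩ := M24_trans5' n0 n1 (Ne.symm ha.1) (Ne.symm hb'.1) n2 (Ne.symm ha.2)
      (Ne.symm hb'.2) (Ne.symm a1) (Ne.symm b1) (Ne.symm n) n0 n1 (Ne.symm ha.1) (Ne.symm c1.1) n2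
      (Ne.symm ha.2) (Ne.symm c1.2.1) (Ne.symm a1) (Ne.symm c1.2.2.1) (Ne.symm c1.2.2.2.1)
    have m := S.mul_mem hσ (conj τ ⟨⟨⟨hτ, t1⟩, t2⟩, t0⟩ σ hσ)
    have k : ∀ x, τ x = x → (σ * (τ * σ * τ⁻¹)) x = σ (τ (σ x)) := fun x h => by
      simp only [Equiv.Perm.mul_apply, Equiv.Perm.inv_eq_iff_eq.2 h.symm]
    have f : ∀ x, x = none ∨ x = some 0 → τ x = x := by rintro x (rfl | rfl); exacts [t1, t2]
    have f' : ∀ x, x = none ∨ x = some 0 → (σ * (τ * σ * τ⁻¹)) x = x := fun x h => by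
      rw [k x (f x h), f _ (pres σ hσ x h), inv]
    have e : (⟨_, ⟨⟨hS m, f' _ (Or.inl rfl)⟩, f' _ (Or.inr rfl)⟩, one _ m⟩ : M21) = 1 :=
      mem_bot.1 (hb ▸ m)
    have := congrArg (fun x : M21 => (x : Equiv.Perm GolayPt) a) e
    simp only [k a t3, t4] at this
    exact c1.2.2.2.2 (by rw [← (show σ c = a from this), inv])
  have ho : ofMask oct1 ∈ octads := ofMask_mem_octads (by decide +kernel)
  refine fixSet_octad_eq_one ho (mem_fixSet.2 ⟨hS hσ, fun p hp => key p ?_ ?_⟩) (p := some 1)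
    (by decide +kernel) (one σ hσ)
  · revert p; decide +kernel
  · revert p; decide +kernel

/-! ### three tetrads of a sextet -/

/-- two hexacode words of weight six, their product, and an element of order three -/
def aC : ℕ := 714687808069978514226414409217018881
def bC : ℕ := 222521510211855271950402112419037282
def cC : ℕ := 594058443642639447269110080197362755
def tC : ℕ := 714698224992095160392432169783430208

/-- the points of the three tetrads -/
def tet (k : Fin 3) (i : Fin 4) : GolayPt := pt (![![0, 1, 2, 3], ![5, 14, 23, 17], ![4, 7, 12, 10]] k i)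

theorem a_in : inM24 aC = true := by decide +kernel
theorem b_in : inM24 bC = true := by decide +kernel
theorem c_in : inM24 cC = true := by decide +kernel
theorem t_in : inM24 tC = true := by decide +kernel

theorem tet_inj (k : Fin 3) : Function.Injective (tet k) := by revert k; decide +kernel

theorem a_tet (k : Fin 3) (i : Fin 4) : permOf aC (tet k i) = tet k (![1, 0, 3, 2] i) := by
  rw [permOf_apply (okP_of_inM24 a_in)]; revert k i; decide +kernel
theorem b_tet (k : Fin 3) (i : Fin 4) : permOf bC (tet k i) = tet k (![2, 3, 0, 1] i) := by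
  rw [permOf_apply (okP_of_inM24 b_in)]; revert k i; decide +kernel
theorem t_tet (k : Fin 3) (i : Fin 4) : permOf tC (tet k i) = tet k (![0, 2, 3, 1] i) := by
  rw [permOf_apply (okP_of_inM24 t_in)]; revert k i; decide +kernel

theorem inv_a_mul_b : (permOf aC)⁻¹ * permOf bC = permOf cC := by
  rw [permOf_inv_of_mul (okP_of_inM24 a_in) (okP_of_inM24 a_in) (by decide +kernel)]
  exact permOf_mul_eq (okP_of_inM24 a_in) (okP_of_inM24 b_in) (by decide +kernel)

theorem eq_one_of_tet {ρ : Equiv.Perm GolayPt} (hρ : ρ ∈ M24) (h : ∀ k i, ρ (tet k i) = tet k i) : ρ = 1 := by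
  have c : ∀ p ∈ O0, ∃ k i, p = tet k i := by decide +kernel
  refine fixSet_octad_eq_one oct0_mem (mem_fixSet.2 ⟨hρ, fun p hp => ?_⟩) (p := tet 2 0)
    (by decide +kernel) (h 2 0)
  obtain ⟨k, i, rfl⟩ := c p hp
  exact h k i

/-- the permutations that keep the tetrads and commute with the two words -/
def XX : Subgroup (Equiv.Perm GolayPt) where
  carrier := {σ | σ ∈ M24 ∧ (∀ k i, ∃ j, σ (tet k i) = tet k j) ∧
    σ * permOf aC = permOf aC * σ ∧ σ * permOf bC = permOf bC * σ}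
  one_mem' := ⟨one_mem _, fun _ i => ⟨i, rfl⟩, by simp, by simp⟩
  mul_mem' := by
    rintro σ τ ⟨h1, h2, h3, h4⟩ ⟨k1, k2, k3, k4⟩
    refine ⟨mul_mem h1 k1, fun k i => ?_, Commute.mul_left h3 k3, Commute.mul_left h4 k4⟩
    obtain ⟨j, e⟩ := k2 k i
    rw [Equiv.Perm.mul_apply, e]
    exact h2 k j
  inv_mem' := by
    rintro σ ⟨h1, h2, h3, h4⟩
    refine ⟨inv_mem h1, fun k i => ?_, Commute.inv_left h3, Commute.inv_left h4⟩
    choose f hf using h2 k
    obtain ⟨j, rfl⟩ := Finite.surjective_of_injective (f := f)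
      (fun a b e => tet_inj k (σ.injective (by rw [hf, hf, e]))) i
    exact ⟨j, by rw [← hf]; simp⟩

theorem a_mem_XX : permOf aC ∈ XX :=
  ⟨permOf_mem_M24 a_in, fun k i => ⟨_, a_tet k i⟩, rfl, by
    rw [permOf_mul_eq (okP_of_inM24 a_in) (okP_of_inM24 b_in) (c := cC) (by decide +kernel),
      permOf_mul_eq (okP_of_inM24 b_in) (okP_of_inM24 a_in) (c := cC) (by decide +kernel)]⟩

theorem b_mem_XX : permOf bC ∈ XX := ⟨permOf_mem_M24 b_in, fun k i => ⟨_, b_tet k i⟩, a_mem_XX.2.2.2.symm, rfl⟩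

theorem card_XX : Nat.card XX ≤ 64 := by
  choose f hf using fun (σ : XX) k => σ.2.2.1 k 0
  refine (Nat.card_le_card_of_injective f fun σ τ e => ?_).trans (by simp)
  have m := XX.mul_mem (XX.inv_mem τ.2) σ.2
  have h0 : ∀ k, ((τ : Equiv.Perm GolayPt)⁻¹ * σ) (tet k 0) = tet k 0 := fun k => by
    rw [Equiv.Perm.mul_apply, hf, e, ← hf]; simp
  refine Subtype.ext (inv_mul_eq_one.1 (eq_one_of_tet m.1 fun k i => ?_)).symm
  have ha := fun p => congrArg (· p) m.2.2.1
  have hb := fun p => congrArg (· p) m.2.2.2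
  generalize (τ : Equiv.Perm GolayPt)⁻¹ * σ = ρ at h0 ha hb
  simp only [Equiv.Perm.mul_apply] at ha hb
  have h1 : ρ (tet k 1) = tet k 1 := by simpa [h0, a_tet] using ha (tet k 0)
  fin_cases i
  · exact h0 k
  · exact h1
  · simpa [h0, b_tet] using hb (tet k 0)
  · simpa [h1, b_tet] using hb (tet k 1)

theorem le_XX {S : Subgroup (Equiv.Perm GolayPt)} (hS : S ≤ M24) (sq : ∀ x ∈ S, x * x = 1)
    (pres : ∀ σ ∈ S, ∀ k i, ∃ j, σ (tet k i) = tet k j)
    (conj : ∀ σ ∈ S, permOf tC * σ * (permOf tC)⁻¹ ∈ S) : S ≤ XX := by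
  intro σ hσ
  have loc : ∀ f : Fin 4 → Fin 4, (∀ i, f (f i) = i) →
      (∀ i, f (![0, 2, 3, 1] (f (![0, 3, 1, 2] i))) = ![0, 2, 3, 1] (f (![0, 3, 1, 2] (f i)))) →
      ∀ i, f (![1, 0, 3, 2] i) = ![1, 0, 3, 2] (f i) ∧ f (![2, 3, 0, 1] i) = ![2, 3, 0, 1] (f i) := by
    decide +kernel
  have ti : ∀ k i, (permOf tC)⁻¹ (tet k i) = tet k (![0, 3, 1, 2] i) := fun k i => by
    rw [Equiv.Perm.inv_eq_iff_eq, t_tet]; congr 1; revert i; decide
  have key : ∀ k i, σ (permOf aC (tet k i)) = permOf aC (σ (tet k i)) ∧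
      σ (permOf bC (tet k i)) = permOf bC (σ (tet k i)) := fun k i => by
    choose f hf using pres σ hσ k
    have := loc f (fun i => tet_inj k (by rw [← hf, ← hf, ← Equiv.Perm.mul_apply, sq σ hσ]; rfl))
      (fun i => tet_inj k (by
        simpa only [Equiv.Perm.mul_apply, hf, t_tet, ti] using
          congrArg (· (tet k i)) (comm_of_sq sq hσ (conj σ hσ)))) i
    simp only [a_tet, b_tet, hf, this.1, this.2, and_self]
  have fin : ∀ α ∈ M24, (∀ k i, σ (α (tet k i)) = α (σ (tet k i))) → σ * α = α * σ := fun α hα h =>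
    (inv_mul_eq_one.1 (eq_one_of_tet (mul_mem (inv_mem (mul_mem hα (hS hσ))) (mul_mem (hS hσ) hα))
      fun k i => by rw [Equiv.Perm.mul_apply, Equiv.Perm.inv_eq_iff_eq]; exact h k i)).symm
  exact ⟨hS hσ, pres σ hσ, fin _ (permOf_mem_M24 a_in) fun k i => (key k i).1,
    fin _ (permOf_mem_M24 b_in) fun k i => (key k i).2⟩

theorem card_le_tet {S : Subgroup (Equiv.Perm GolayPt)} (hS : S ≤ M24) (sq : ∀ x ∈ S, x * x = 1)
    (pres : ∀ σ ∈ S, ∀ k i, ∃ j, σ (tet k i) = tet k j)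
    (conj : ∀ σ ∈ S, permOf tC * σ * (permOf tC)⁻¹ ∈ S) (na : permOf aC ∉ S) (nb : permOf bC ∉ S)
    (nc : permOf cC ∉ S) : Nat.card S ≤ 21 := by
  have := three_le (le_XX hS sq pres conj) a_mem_XX b_mem_XX na nb (inv_a_mul_b ▸ nc)
  have := card_XX
  omega

theorem eqns_ERecClsP : True := by
  have := @aC.eq_1
  have := @bC.eq_1
  have := @cC.eq_1
  have := @tC.eq_1
  have := @tet.eq_1
  have := @XX.eq_1
  trivial

end H26.EC
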