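import Mathlib
import Cfsg.Agent.Lib.ERec.ClsP

/-!
Normal elementary abelian 2-subgroups of three point stabilisers of `U6(2)` in `Co0`.
-/

set_option autoImplicit false
set_option maxRecDepth 100000

namespace H26.EC

open Cfsg Subgroup H15 H16 H95 H30.K H16.P8 H99.BC
open scoped Pointwise symmDiff

/-- an elementary abelian group fixing `u`, `x` and the class of `v`, normal in the stabiliser -/
structure Dt (N : Subgroup Co0) (u x v : leechLattice) : Prop where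
  sq : ∀ r ∈ N, r * r = 1
  fix : ∀ r ∈ N, r • u = u ∧ r • x = x ∧ Cg (r • v) v
  conj : ∀ g : Co0, g • u = u → g • x = x → Cg (g • v) v → ∀ r ∈ N, g * r * g⁻¹ ∈ N
  good : ∀ r ∈ N, ∀ a : leechLattice, (16 : ℤ) ∣ dotInt (a : GolayPt → ℤ) u →
    (16 : ℤ) ∣ dotInt (a : GolayPt → ℤ) x → (16 : ℤ) ∣ dotInt (a : GolayPt → ℤ) v →
    (16 : ℤ) ∣ dotInt ((r • a : leechLattice) : GolayPt → ℤ) a

variable {N : Subgroup Co0} {u x v w m : leechLattice}

theorem dvd_cg {a : leechLattice} (e : Cg v w) (h : (16 : ℤ) ∣ dotInt (a : GolayPt → ℤ) v) :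
    (16 : ℤ) ∣ dotInt (a : GolayPt → ℤ) w := by
  obtain ⟨t, rfl⟩ := cg_iff.1 e
  have := eight_dvd_dotInt a.2 t.2
  simp only [AddSubgroup.coe_add, dotInt_add_right] at h
  omega

theorem Dt.swap (D : Dt N u x v) : Dt N x u v :=
  ⟨D.sq, fun r h => ⟨(D.fix r h).2.1, (D.fix r h).1, (D.fix r h).2.2⟩, fun g a b => D.conj g b a,
    fun r h a b c => D.good r h a c b⟩

theorem Dt.cg (D : Dt N u x v) (e : Cg v w) : Dt N u x w :=
  ⟨D.sq, fun r h => ⟨(D.fix r h).1, (D.fix r h).2.1, ((e.smul r).symm.trans (D.fix r h).2.2).trans e⟩,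
    fun g a b c => D.conj g a b (((e.smul g).trans c).trans e.symm),
    fun r h a b c d => D.good r h a b c (dvd_cg e.symm d)⟩

theorem Dt.smul (D : Dt N u x v) (k : Co0) :
    Dt (N.map (MulAut.conj k).toMonoidHom) (k • u) (k • x) (k • v) := by
  have f : ∀ (g : Co0) (a : leechLattice), (k⁻¹ * g * k) • a = a ↔ g • k • a = k • a := fun g a => by
    rw [mul_smul, mul_smul, inv_smul_eq_iff]
  refine ⟨fun r h => ?_, fun r h => ?_, fun g a b c r h => mem_map_conj.2 ?_, fun r h a b c d => ?_⟩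
  · have := D.sq _ (mem_map_conj.1 h)
    rwa [show k⁻¹ * r * k * (k⁻¹ * r * k) = k⁻¹ * (r * r) * k by group, mul_assoc,
      inv_mul_eq_one, eq_comm, mul_eq_right] at this
  · obtain ⟨a, b, c⟩ := D.fix _ (mem_map_conj.1 h)
    exact ⟨(f _ _).1 a, (f _ _).1 b, by simpa [mul_smul] using c.smul k⟩
  · rw [show k⁻¹ * (g * r * g⁻¹) * k = k⁻¹ * g * k * (k⁻¹ * r * k) * (k⁻¹ * g * k)⁻¹ by group]
    exact D.conj _ ((f _ _).2 a) ((f _ _).2 b) (by simpa [mul_smul] using c.smul k⁻¹) _ (mem_map_conj.1 h)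
  · obtain ⟨a, rfl⟩ := MulAction.surjective k a
    dsimp only at b c d ⊢
    rw [dotInt_co0] at b c d
    have := D.good _ (mem_map_conj.1 h) a b c d
    rwa [← dotInt_co0 k, mul_smul, mul_smul, smul_inv_smul] at this

theorem card_conj (N : Subgroup Co0) (k : Co0) :
    Nat.card (N.map (MulAut.conj k).toMonoidHom) = Nat.card N :=
  card_map_of_injective (MulAut.conj k).injective

theorem perm_fix {τ : Equiv.Perm GolayPt} (hτ : τ ∈ M24)
    (h : ∀ i, (v : GolayPt → ℤ) (τ i) = (v : GolayPt → ℤ) i) : permHom ⟨τ, hτ⟩ • v = v :=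
  Subtype.ext (funext fun i => by
    obtain ⟨i, rfl⟩ := τ.surjective i
    exact (permHom_smul_apply ⟨τ, hτ⟩ v i).trans (h i).symm)

theorem Dt.mono (D : Dt N u x (e8 none)) {r : Co0} (h : r ∈ N) : r ∈ monoGroup :=
  mem_monoGroup_iff_cg.2 (D.fix r h).2.2

theorem Dt.pconj (D : Dt N u x (e8 none)) {τ : Equiv.Perm GolayPt} (hτ : τ ∈ M24)
    (hu : ∀ i, (u : GolayPt → ℤ) (τ i) = (u : GolayPt → ℤ) i)
    (hx : ∀ i, (x : GolayPt → ℤ) (τ i) = (x : GolayPt → ℤ) i) : ∀ σ ∈ prm N, τ * σ * τ⁻¹ ∈ prm N :=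
  prm_conj hτ (D.conj _ (perm_fix hτ hu) (perm_fix hτ hx) (mem_monoGroup_iff_cg.1 (permHom_mem _)))

theorem u0_apply (p : GolayPt) : (u0 : GolayPt → ℤ) p = if p ∈ O0 then 2 else 0 := by
  simp only [u0, rep_zero, ind_apply]
  split_ifs <;> rfl

theorem v44_pos {i j : GolayPt} (f : (x : GolayPt → ℤ) = v44 i j 1 1) (p : GolayPt) :
    (0 < (x : GolayPt → ℤ) p ↔ p = i ∨ p = j) ∧ 0 ≤ (x : GolayPt → ℤ) p := by
  rw [f, v44_apply]
  split_ifs with a b b <;> simp [a, b]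

theorem core1 (D : Dt N u0 x (e8 none)) {i j : GolayPt} (ij : i ≠ j) (hi : i ∈ O0) (hj : j ∈ O0)
    (f : (x : GolayPt → ℤ) = v44 i j 1 1) : Nat.card N ≤ 32 := by
  have k : ∀ σ hσ c hc, mono σ hσ c hc ∈ N → ∀ p ∈ O0, σ p ∈ O0 ∧ σ p ∉ c := fun σ hσ c hc a p hp =>
    (mono_fix (D.fix _ a).1 ((u0_pos p).1.2 hp) fun q => (u0_pos q).2).imp_left (u0_pos _).1.1
  have f := fix_oct2 oct0_mem hi hj ij (S := prm N) (fun _ h => h.1) (prm_sq D.sq)
    (fun σ ⟨hσ, c, hc, a⟩ p hp => (k σ hσ c hc a p hp).1)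
    (fun σ ⟨hσ, c, hc, a⟩ p hp => (v44_pos f _).1.1
      (mono_fix (D.fix _ a).2.1 ((v44_pos f p).1.2 hp) fun q => (v44_pos f q).2).1)
    fun τ hτ e ti tj => D.pconj hτ
      (fun p => by rw [u0_apply, u0_apply, if_congr (apply_mem_of_smul_eq e) rfl rfl]) fun p => by
        rw [f, v44_apply, v44_apply, 
          if_congr (τ.apply_eq_iff_eq.symm.trans (by rw [ti]) : p = i ↔ τ p = i).symm rfl rfl,
          if_congr (τ.apply_eq_iff_eq.symm.trans (by rw [tj]) : p = j ↔ τ p = j).symm rfl rfl]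
  have h1 : N ≤ NO O0 := fun x hx => by
    obtain ⟨σ, hσ, c, hc, rfl⟩ := D.mono hx
    have f' := f σ ⟨hσ, c, hc, hx⟩
    exact (mono_mem_NO hσ hc).2 ⟨f', fun p hp => f' p hp ▸ (k σ hσ c hc hx p hp).2⟩
  have : Finite Q0 := Nat.finite_of_card_ne_zero (by rw [crd0.card]; omega)
  have h2 := crd0.toL3.toES.card_le_of_elementary (n := 4) crd0.card (A := N.map mk1) (map_mono h1)
    (by rintro _ ⟨r, hr, rfl⟩; rw [← map_mul, D.sq r hr, map_one])
  have : Finite (N.map mk1) := Finite.of_injective _ (inclusion_injective (map_mono h1 : _ ≤ Q0))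
  exact (Nat.card_le_card_of_injective (fun r : N => (⟨mk1 r, mem_map_of_mem _ r.2⟩ : N.map mk1))
    fun a b e => Subtype.ext (NO_inj (h1 a.2) (h1 b.2) (congrArg Subtype.val e))).trans h2

theorem O1_mem : ofMask 5279 ∈ octads := ofMask_mem_octads (by decide +kernel)
theorem W_mem : ofMask 10558 ∈ octads := ofMask_mem_octads (by decide +kernel)

/-- twice the indicator of a second octad -/
def x1 : leechLattice := ⟨rep 0 (ofMask 5279), (cong_rep 0 O1_mem.1).mem O1_mem.1⟩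
/-- twice the indicator of an octad with three points in the first tetrad -/
def a0 : leechLattice := ⟨rep 0 (ofMask 10558), (cong_rep 0 W_mem.1).mem W_mem.1⟩

theorem x1_apply (p : GolayPt) : (x1 : GolayPt → ℤ) p = if p ∈ ofMask 5279 then 2 else 0 := by
  simp only [x1, rep_zero, ind_apply]
  split_ifs <;> rfl

theorem a0_apply (p : GolayPt) : (a0 : GolayPt → ℤ) p = if p ∈ ofMask 10558 then 2 else 0 := by
  simp only [a0, rep_zero, ind_apply]
  split_ifs <;> rfl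

theorem x1_pos (p : GolayPt) :
    (0 < (x1 : GolayPt → ℤ) p ↔ p ∈ ofMask 5279) ∧ 0 ≤ (x1 : GolayPt → ℤ) p := by
  rw [x1_apply]
  split_ifs with h <;> simp [h]

theorem code_sub {a b : ℕ} (ha : a < 2 ^ 24) (h : ofMask a ⊆ ofMask b) : Nat.land a b = a :=
  ofMask_inj (lt_of_le_of_lt Nat.and_le_left ha) ha (by rw [ofMask_land, Finset.inter_eq_left.2 h])

theorem core0 (D : Dt N u0 x1 (e8 none)) : Nat.card N ≤ 84 := by
  have k : ∀ σ hσ c hc, mono σ hσ c hc ∈ N → ∀ p ∈ O0, σ p ∈ O0 ∧ σ p ∉ c := fun σ hσ c hc a p hp =>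
    (mono_fix (D.fix _ a).1 ((u0_pos p).1.2 hp) fun q => (u0_pos q).2).imp_left (u0_pos _).1.1
  have k' : ∀ σ hσ c hc, mono σ hσ c hc ∈ N → ∀ p ∈ ofMask 5279, σ p ∈ ofMask 5279 ∧ σ p ∉ c :=
    fun σ hσ c hc a p hp =>
      (mono_fix (D.fix _ a).2.1 ((x1_pos p).1.2 hp) fun q => (x1_pos q).2).imp_left (x1_pos _).1.1
  have st : ∀ σ ∈ prm N, ∀ p, (σ p ∈ O0 ↔ p ∈ O0) ∧ (σ p ∈ ofMask 5279 ↔ p ∈ ofMask 5279) := by
    rintro σ ⟨hσ, c, hc, a⟩ p
    have e : σ (σ p) = p := by rw [← Equiv.Perm.mul_apply, prm_sq D.sq σ ⟨hσ, c, hc, a⟩]; rfl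
    exact ⟨⟨fun h => e ▸ (k σ hσ c hc a _ h).1, fun h => (k σ hσ c hc a _ h).1⟩,
      fun h => e ▸ (k' σ hσ c hc a _ h).1, fun h => (k' σ hσ c hc a _ h).1⟩
  have off : ∀ σ hσ c hc, mono σ hσ c hc ∈ N → ∀ p ∈ ofMask 8541375, p ∉ c := fun σ hσ c hc a p hp => by
    obtain ⟨p, rfl⟩ := σ.surjective p
    have s := st σ ⟨hσ, c, hc, a⟩ p
    rcases (show ∀ q ∈ ofMask 8541375, q ∈ O0 ∨ q ∈ ofMask 5279 by decide +kernel) _ hp with b | b
    exacts [(k σ hσ c hc a p (s.1.1 b)).2, (k' σ hσ c hc a p (s.2.1 b)).2]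
  have bad : ∀ n, inM24 n = true →
      (∀ p, p ∈ ofMask 10558 → fnOf n p ∈ ofMask 10558 → fnOf n p ∈ ofMask 8541375) →
      ∑ p, (if p ∈ ofMask 10558 then 2 else 0) * (if fnOf n p ∈ ofMask 10558 then (2 : ℤ) else 0) = 8 →
      permOf n ∉ prm N := by
    rintro n hn h1 h2 ⟨hσ, c, hc, a⟩
    have := D.good _ a a0 (by simp only [dotInt_def, a0_apply, u0_apply]; decide +kernel)
      (by simp only [dotInt_def, a0_apply, x1_apply]; decide +kernel)
      (by rw [dotInt_comm, coe_e8, dotInt_single_left, a0_apply]; decide +kernel)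
    rw [dotInt_def, ← Equiv.sum_comp (permOf n), Finset.sum_congr rfl (g := _) fun p _ => ?_, h2] at this
    · omega
    · rw [mono_smul_apply, a0_apply, a0_apply,
        show permOf n p = fnOf n p from permOf_apply (okP_of_inM24 hn) p]
      split_ifs with b1 b2 b3 <;> try rfl
      exact absurd b1 (off _ hσ c hc a _ (h1 p b2 b3))
  have h1 := card_le_tet (S := prm N) (fun _ h => h.1) (prm_sq D.sq)
    (fun σ h k i => (show ∀ k i q, (q ∈ O0 ↔ tet k i ∈ O0) ∧ (q ∈ ofMask 5279 ↔ tet k i ∈ ofMask 5279) →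
      ∃ j, q = tet k j by decide +kernel) k i _ (st σ h _))
    (D.pconj (permOf_mem_M24 t_in)
      (by simp only [u0_apply, permOf_apply (okP_of_inM24 t_in)]; decide +kernel)
      (by simp only [x1_apply, permOf_apply (okP_of_inM24 t_in)]; decide +kernel))
    (bad _ a_in (by decide +kernel) (by decide +kernel))
    (bad _ b_in (by decide +kernel) (by decide +kernel))
    (bad _ c_in (by decide +kernel) (by decide +kernel))
  have h2 := card_mono_filter (fun σ => σ ∈ prm N) (fun c => ∀ p ∈ ofMask 8541375, p ∉ c)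
    {g | ∃ σ hσ c hc, g = mono σ hσ c hc ∧ σ ∈ prm N ∧ ∀ p ∈ ofMask 8541375, p ∉ c}
    (by rintro _ ⟨σ, hσ, c, hc, rfl, -⟩; exact mono_mem hσ hc) fun σ hσ c hc =>
      ⟨fun ⟨τ, hτ, d, hd, e, a⟩ => by obtain ⟨rfl, rfl⟩ := mono_inj e; exact a,
        fun a => ⟨σ, hσ, c, hc, rfl, a⟩⟩
  have h3 := ncard_codeSets_filter (fun m => Nat.beq (Nat.land m 8235840) m)
    {c | c ∈ code ∧ ∀ p ∈ ofMask 8541375, p ∉ c} (fun u hu => by
      have cp : ∀ p, p ∈ ofMask 8235840 ↔ p ∉ ofMask 8541375 := by decide +kernel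
      rw [Set.mem_ofPred_eq, and_iff_right (ofMask_cw_mem hu), Nat.beq_eq]
      exact ⟨fun a => code_sub (cw_lt hu) fun p hp => (cp p).2 fun b => a p b hp,
        fun a p hp hc => (cp p).1 (ofMask_subset_of_land a hc) hp⟩) fun _ h => h.1
  rw [h3, show countLt2 64 64 (fun u => Nat.beq (Nat.land (cw u) 8235840) (cw u)) = 4 by decide +kernel,
    Nat.card_congr (Equiv.subtypeEquivRight (q := (· ∈ prm N)) fun σ => and_iff_right_of_imp fun h => h.1)]
    at h2
  have := Nat.card_le_card_of_injective _ (Set.inclusion_injective (s := N) (t :=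
    {g | ∃ σ hσ c hc, g = mono σ hσ c hc ∧ σ ∈ prm N ∧ ∀ p ∈ ofMask 8541375, p ∉ c}) fun r hr => by
      obtain ⟨σ, hσ, c, hc, rfl⟩ := D.mono hr
      exact ⟨σ, hσ, c, hc, rfl, ⟨hσ, c, hc, hr⟩, off σ hσ c hc hr⟩)
  rw [h2] at this
  exact this.trans (by omega)

/-! ### normal forms -/

theorem is44 (hn : sqNorm (m : GolayPt → ℤ) = 32) {p : GolayPt}
    (h : (m : GolayPt → ℤ) p = 4 ∨ (m : GolayPt → ℤ) p = -4) :
    ∃ i j, i ≠ j ∧ ∃ s t : ℤ, (s = 1 ∨ s = -1) ∧ (t = 1 ∨ t = -1) ∧ (m : GolayPt → ℤ) = v44 i j s t := by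
  rcases min_shape m.2 hn with f | ⟨o, -, s, -, -, f⟩ | ⟨c, -, j, f⟩
  · exact f
  · rw [f, oct_apply] at h; split_ifs at h <;> simp at h
  · rw [f, odd_apply] at h; split_ifs at h <;> simp at h

theorem isOct (hn : sqNorm (m : GolayPt → ℤ) = 32) (h : (m : GolayPt → ℤ) none = 2) :
    ∃ o ∈ octads, ∃ s ⊆ o, 2 ∣ s.card ∧ (m : GolayPt → ℤ) = sgn s (rep 0 o) := by
  rcases min_shape m.2 hn with ⟨i, j, -, s, t, -, -, f⟩ | f | ⟨c, -, j, f⟩
  · rw [f, v44_apply] at h; split_ifs at h <;> omega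
  · exact f
  · rw [f, odd_apply] at h; split_ifs at h <;> omega

theorem oct_of (hn : sqNorm (m : GolayPt → ℤ) = 32) (hp : (16 : ℤ) ∣ dotInt (m : GolayPt → ℤ) (e8 none))
    (e : Cg (e8 none + m) w) (hw : sqNorm (w : GolayPt → ℤ) = 64) :
    ∃ o ∈ octads, ∃ s ⊆ o, 2 ∣ s.card ∧ (m : GolayPt → ℤ) = sgn s (rep 0 o) := by
  rcases min_shape m.2 hn with ⟨i, j, ij, s, t, hs, ht, f⟩ | f | ⟨c, -, j, f⟩
  · exfalso
    have hs' : -s = 1 ∨ -s = -1 := by omega
    have c1 : Cg (e8 none + m) ⟨_, v44_mem i j hs' ht⟩ := by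
      refine ((show Cg (e8 none) (e8 i) from e8_sub_e8_mem _ _).add (Cg.refl _)).trans ?_
      rcases hs with rfl | rfl
      · refine cg_iff.2 ⟨e8 i, Subtype.ext (funext fun k => ?_)⟩
        simp only [AddSubgroup.coe_add, Pi.add_apply, f, v44_apply, coe_e8, Pi.single_apply]
        split_ifs <;> omega
      · refine cg_iff.2 ⟨0, Subtype.ext (funext fun k => ?_)⟩
        simp only [AddSubgroup.coe_add, Pi.add_apply, f, v44_apply, coe_e8, Pi.single_apply,
          AddSubgroup.coe_zero, Pi.zero_apply]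
        split_ifs <;> omega
    have n1 := sqNorm_v44 ij hs' ht
    have := (c1.symm.trans e).norm_eq (by simp only; omega) (by omega)
    simp only at this
    omega
  · exact f
  · rw [dotInt_comm, coe_e8, dotInt_single_left, f, odd_apply] at hp
    split_ifs at hp <;> omega

theorem mono_oct {o o' s c : Finset GolayPt} {τ : Equiv.Perm GolayPt} (hτ : τ ∈ M24) (hc : c ∈ code)
    (f : (m : GolayPt → ℤ) = sgn s (rep 0 o)) (e : τ • o = o') (h : ∀ p ∈ o', p ∈ c ↔ p ∈ τ • s) :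
    ((mono τ hτ c hc • m : leechLattice) : GolayPt → ℤ) = rep 0 o' := by
  rw [coe_mono_smul, f, signedPerm_oct, e, sgn_rep_congr (t := ∅), sgn_empty]
  ext x
  have := h x
  simp only [Finset.mem_inter, Finset.mem_symmDiff, Finset.notMem_empty]
  tauto

theorem to_u0 {o s : Finset GolayPt} (ho : o ∈ octads) (hs : s ⊆ o) (h2 : 2 ∣ s.card)
    (f : (m : GolayPt → ℤ) = sgn s (rep 0 o)) : ∃ k ∈ monoGroup, k • m = u0 := by
  obtain ⟨τ, hτ, e2⟩ := M24_trans_octads ho oct0_mem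
  have s1 : τ • s ⊆ O0 := (Finset.smul_finset_subset_smul_finset hs).trans e2.subset
  obtain ⟨c, hc, e3⟩ := exists_code_inter_eq_octad oct0_mem O0 (τ • s) subset_rfl s1
    (by rw [oct0_mem.2]; norm_num) (by rwa [Finset.inter_eq_right.2 s1, Finset.card_smul_finset])
  exact ⟨_, mono_mem hτ hc, Subtype.ext (mono_oct hτ hc f e2 fun p hp => by
    rw [← e3, Finset.mem_inter, and_iff_left hp])⟩

theorem to_x1 {o s : Finset GolayPt} (ho : o ∈ octads) (hs : s ⊆ o) (h2 : 2 ∣ s.card)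
    (f : (m : GolayPt → ℤ) = sgn s (rep 0 o)) (hd : dotInt (u0 : GolayPt → ℤ) m = 16)
    (hy : ∀ p, (u0 : GolayPt → ℤ) p - (m : GolayPt → ℤ) p ≤ 2) :
    ∃ k ∈ monoGroup, k • u0 = u0 ∧ k • m = x1 := by
  have s0 : ∀ p ∈ s, p ∉ O0 := fun p hp h => by
    have := hy p
    rw [u0_apply, f, oct_apply, if_pos h, if_pos (hs hp), if_pos hp] at this
    omega
  have h4 : (O0 ∩ o).card = 4 := by
    rw [dotInt_def, Finset.sum_congr rfl (g := fun p => 4 * (ind O0 p * ind o p)) fun p _ => ?_,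
      ← Finset.mul_sum, sum_ind_mul_ind] at hd
    · omega
    · have := s0 p
      rw [u0_apply, f, oct_apply, ind_apply, ind_apply]
      split_ifs <;> first | rfl | tauto
  obtain ⟨y, hy1, hy2⟩ := exists_inj_into h4.ge
  obtain ⟨q, q1, q2⟩ : ∃ q ∈ o, q ∉ O0 := by
    by_contra! n
    rw [Finset.inter_eq_right.2 n, ho.2] at h4
    omega
  obtain ⟨τ, hτ, e0, t, tq⟩ := M24_trans_octad_flag_out oct0_mem oct0_mem (k := 4) (by norm_num) y (tet 0)
    hy1 (tet_inj 0) (fun i => (Finset.mem_inter.1 (hy2 i)).1) (by decide +kernel) q2 (q := tet 2 0)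
    (by decide +kernel)
  have e1 : τ • o = ofMask 5279 := octad_eq_of_subset (H15.smul_mem_octads hτ ho) O1_mem (s := ofMask 31)
    (by decide +kernel) (fun p hp => by
      rcases (show ∀ p ∈ ofMask 31, p = tet 2 0 ∨ ∃ i, p = tet 0 i by decide +kernel) p hp with
        rfl | ⟨i, rfl⟩
      · exact tq ▸ Finset.smul_mem_smul_finset q1
      · exact t i ▸ Finset.smul_mem_smul_finset (Finset.mem_inter.1 (hy2 i)).2) (by decide +kernel)
  have s1 : τ • s ⊆ ofMask 5264 := fun p hp => by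
    have a := e1.subset (Finset.smul_finset_subset_smul_finset hs hp)
    obtain ⟨r, hr, rfl⟩ := Finset.mem_smul_finset.1 hp
    exact (show ∀ p ∈ ofMask 5279, p ∉ O0 → p ∈ ofMask 5264 by decide +kernel) _ a
      fun b => s0 r hr ((apply_mem_of_smul_eq e0).1 b)
  obtain ⟨c, hc, e3⟩ := exists_code_inter_eq (ofMask 8541375) (τ • s)
    (s1.trans (ofMask_subset_of_land (by decide +kernel))) fun c hc h => by
      obtain ⟨n, hn, rfl⟩ := exists_cw_of_mem_codeSets hc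
      have c2 : allLt2 64 64 (fun u => force (cw u) fun m => !(Nat.beq (Nat.land m 8541375) m) ||
          (Nat.beq (Nat.land 5264 m) 5264 || Nat.beq (Nat.land 5264 m) 0)) = true := by decide +kernel
      have := allLt2_iff.1 c2 n hn
      simp only [force_eq, Bool.or_eq_true, Bool.not_eq_true', ← Bool.not_eq_true, Nat.beq_eq] at this
      rcases this.resolve_left (not_not.2 (code_sub (cw_lt hn) h)) with a | a
      · rwa [Finset.inter_eq_right.2 (s1.trans (ofMask_subset_of_land a)), Finset.card_smul_finset]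
      · rw [Finset.eq_empty_of_forall_notMem (s := _ ∩ _) fun p hp => ?_]
        · simp
        · have := Finset.mem_inter.2 ⟨s1 (Finset.mem_inter.1 hp).2, (Finset.mem_inter.1 hp).1⟩
          rw [← ofMask_land, a, ofMask_zero] at this
          exact Finset.notMem_empty _ this
  have e4 : ∀ p ∈ ofMask 8541375, p ∈ c ↔ p ∈ τ • s := fun p hp => by
    rw [← e3, Finset.mem_inter, and_iff_left hp]
  refine ⟨_, mono_mem hτ hc, Subtype.ext (mono_oct hτ hc (sgn_empty _).symm e0 fun p hp => ?_),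
    Subtype.ext (mono_oct hτ hc f e1 fun p hp => e4 p (ofMask_subset_of_land (by decide +kernel) hp))⟩
  rw [e4 p (ofMask_subset_of_land (by decide +kernel) hp), Finset.smul_finset_empty]
  exact iff_of_false (fun a => (show ∀ p ∈ ofMask 5264, p ∉ O0 by decide +kernel) p (s1 a) hp)
    (Finset.notMem_empty _)

theorem dot_e8 (a : leechLattice) :
    dotInt (a : GolayPt → ℤ) (e8 none : leechLattice) = 8 * (a : GolayPt → ℤ) none := by
  rw [dotInt_comm, coe_e8, dotInt_single_left]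

/-- one class of type two -/
theorem case1 (D : Dt N u x v) (nu : sqNorm (u : GolayPt → ℤ) = 32) (nx : sqNorm (x : GolayPt → ℤ) = 32)
    (nv : sqNorm (v : GolayPt → ℤ) = 64) (ux : dotInt (x : GolayPt → ℤ) u = 16)
    (uv : dotInt (u : GolayPt → ℤ) v = 32) (xv : dotInt (x : GolayPt → ℤ) v = 16) : Nat.card N ≤ 32 := by
  obtain ⟨g, rfl⟩ := exists_smul_e8 nv
  obtain ⟨u, rfl⟩ := MulAction.surjective g u
  obtain ⟨x, rfl⟩ := MulAction.surjective g x
  dsimp only at D nu nx ux uv xv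
  rw [sqNorm_co0] at nu nx
  rw [dotInt_co0] at ux uv xv
  rw [dot_e8] at uv xv
  obtain ⟨o, ho, s, hs, h2, f⟩ := isOct nx (by omega)
  obtain ⟨k, hk, e⟩ := to_u0 ho hs h2 f
  have D' := ((D.smul g⁻¹).smul k).swap
  simp only [inv_smul_smul] at D'
  rw [← dotInt_co0 k, e] at ux
  rw [e] at D'
  obtain ⟨i, j, ij, s, t, hs, ht, f⟩ : ∃ i j, i ≠ j ∧ ∃ s t : ℤ, (s = 1 ∨ s = -1) ∧ (t = 1 ∨ t = -1) ∧
      ((k • u : leechLattice) : GolayPt → ℤ) = v44 i j s t := by
    obtain ⟨σ, hσ, c, hc, rfl⟩ := hk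
    exact is44 ((sqNorm_co0 _ u).trans nu) (p := σ none) (by rw [mono_smul_apply]; split_ifs <;> omega)
  rw [f, dotInt_comm, dotInt_v44, u0_apply, u0_apply] at ux
  have := core1 (D'.cg (mem_monoGroup_iff_cg.1 hk)) ij (by split_ifs at ux <;> omega)
    (by split_ifs at ux <;> omega)
    (by rw [f]; congr 1 <;> split_ifs at ux <;> omega)
  rwa [card_conj, card_conj] at this

/-- no class of type two -/
theorem case0 (D : Dt N u x v) (nu : sqNorm (u : GolayPt → ℤ) = 32) (nx : sqNorm (x : GolayPt → ℤ) = 32)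
    (nv : sqNorm (v : GolayPt → ℤ) = 64) (ux : dotInt (u : GolayPt → ℤ) x = 16)
    (uv : (16 : ℤ) ∣ dotInt (u : GolayPt → ℤ) v) (xv : (16 : ℤ) ∣ dotInt (x : GolayPt → ℤ) v)
    {w1 w2 w3 : leechLattice} (e1 : Cg (v + u) w1) (e2 : Cg (v + x) w2) (e3 : Cg (v + (u - x)) w3)
    (n1 : sqNorm (w1 : GolayPt → ℤ) = 64) (n2 : sqNorm (w2 : GolayPt → ℤ) = 64)
    (n3 : sqNorm (w3 : GolayPt → ℤ) = 64) : Nat.card N ≤ 84 := by
  obtain ⟨g, rfl⟩ := exists_smul_e8 nv
  obtain ⟨u, rfl⟩ := MulAction.surjective g u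
  obtain ⟨x, rfl⟩ := MulAction.surjective g x
  dsimp only at D nu nx ux uv xv e1 e2 e3
  rw [sqNorm_co0] at nu nx
  rw [dotInt_co0] at ux uv xv
  rw [← smul_sub] at e3
  rw [← smul_add] at e1 e2 e3
  have tr : ∀ {a b : leechLattice}, Cg (g • a) b → Cg a (g⁻¹ • b) := fun e => by
    simpa using e.smul g⁻¹
  obtain ⟨o, ho, s, hs, h2, f⟩ := oct_of nu uv (tr e1) ((sqNorm_co0 _ _).trans n1)
  obtain ⟨k, hk, e⟩ := to_u0 ho hs h2 f
  obtain ⟨σ, hσ, c, hc, rfl⟩ := id hk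
  have sh : ∀ {m : leechLattice}, (∃ o ∈ octads, ∃ s ⊆ o, 2 ∣ s.card ∧ (m : GolayPt → ℤ) = sgn s (rep 0 o)) →
      ∀ p, ((mono σ hσ c hc • m : leechLattice) : GolayPt → ℤ) p ≤ 2 := by
    rintro m ⟨o, -, s, -, -, f⟩ p
    rw [coe_mono_smul, f, signedPerm_oct, oct_apply]
    split_ifs <;> omega
  have kc := mem_monoGroup_iff_cg.1 hk
  obtain ⟨o', ho', s', hs', h2', f'⟩ := oct_of ((sqNorm_co0 (mono σ hσ c hc) x).trans nx)
    (dvd_cg kc (by rwa [dotInt_co0])) (w := mono σ hσ c hc • g⁻¹ • w2)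
    ((kc.symm.add (Cg.refl _)).trans (by rw [← smul_add]; exact (tr e2).smul _))
    ((sqNorm_co0 _ _).trans ((sqNorm_co0 _ _).trans n2))
  obtain ⟨l, hl, l1, l2⟩ := to_x1 ho' hs' h2' f' (by rw [← e, dotInt_co0, ux]) fun p => by
    have := sh (oct_of (m := u - x) (by rw [AddSubgroup.coe_sub, sqNorm_sub]; omega)
      (by rw [AddSubgroup.coe_sub, dotInt_sub_left]; exact dvd_sub uv xv) (tr e3)
      ((sqNorm_co0 _ _).trans n3)) p
    rwa [smul_sub, e] at this
  have D' := ((D.smul g⁻¹).smul (mono σ hσ c hc)).smul l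
  simp only [inv_smul_smul] at D'
  rw [e, l1, l2] at D'
  have := core0 (D'.cg ((kc.smul l).trans (mem_monoGroup_iff_cg.1 hl)))
  rwa [card_conj, card_conj, card_conj] at this

theorem shape4 (hn : sqNorm (m : GolayPt → ℤ) = 32) (h : (m : GolayPt → ℤ) none = 4) :
    ∃ i, none ≠ i ∧ ∃ t : ℤ, (t = 1 ∨ t = -1) ∧ (m : GolayPt → ℤ) = v44 none i 1 t := by
  obtain ⟨i, j, ij, s, t, hs, ht, f⟩ := is44 hn (Or.inl h)
  rw [f, v44_apply] at h
  by_cases a : none = i
  · subst a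
    rw [if_pos rfl, if_neg ij] at h
    exact ⟨j, ij, t, ht, by rw [f, show s = 1 by omega]⟩
  · by_cases b : none = j
    · subst b
      rw [if_neg a, if_pos rfl] at h
      exact ⟨i, a, s, hs, by rw [f, v44_comm, show t = 1 by omega]⟩
    · rw [if_neg a, if_neg b] at h; omega

/-- three classes of type two -/
theorem case3 (nv : sqNorm (v : GolayPt → ℤ) = 64) (uv : dotInt (vU : GolayPt → ℤ) v = 32)
    (xv : dotInt (vX : GolayPt → ℤ) v = 32) : ∃ k : Co0, k • vU = vU ∧ k • vX = vX ∧ Cg (k • v) (e8 none) := by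
  obtain ⟨g, rfl⟩ := exists_smul_e8 nv
  rw [← dotInt_co0 g⁻¹, inv_smul_smul, dot_e8] at uv xv
  obtain ⟨i, hi, s, hs, f1⟩ := shape4 ((sqNorm_co0 g⁻¹ vU).trans norm_U) (by omega)
  obtain ⟨j, hj, t, ht, f2⟩ := shape4 ((sqNorm_co0 g⁻¹ vX).trans norm_X) (by omega)
  have ij : i ≠ j := by
    rintro rfl
    have := (dotInt_co0 g⁻¹ vU vX).trans dot_UX
    rw [f1, f2, dotInt_v44, v44_apply, v44_apply, if_pos rfl, if_neg hi, if_neg hi.symm, if_pos rfl] at this
    rcases hs with rfl | rfl <;> omega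
  obtain ⟨τ, hτ, t0, t1, t2⟩ := M24_trans3 hi hj ij (a' := none) (b' := some 0) (c' := some 1)
    (by decide) (by decide) (by decide)
  obtain ⟨c, hc, e⟩ := exists_code_inter_eq_of_card_lt {none, some 0, some 1}
    (({none, some 0, some 1} : Finset GolayPt).filter fun p => p = some 0 ∧ s = -1 ∨ p = some 1 ∧ t = -1)
    (Finset.filter_subset _ _) (by decide)
  have e' : ∀ p ∈ ({none, some 0, some 1} : Finset GolayPt),
      p ∈ c ↔ p = some 0 ∧ s = -1 ∨ p = some 1 ∧ t = -1 := fun p hp => by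
    have := Finset.ext_iff.1 e p
    simpa only [Finset.mem_inter, Finset.mem_filter, hp, and_true, true_and] using this
  have a0 : none ∉ c := by rw [e' _ (by decide)]; simp
  have n01 : (0 : ZMod 23) ≠ 1 := by decide
  have a1 : some 0 ∈ c ↔ s = -1 := by rw [e' _ (by decide)]; simp [n01]
  have a2 : some 1 ∈ c ↔ t = -1 := by rw [e' _ (by decide)]; simp [n01.symm]
  refine ⟨mono τ hτ c hc * g⁻¹, Subtype.ext ?_, Subtype.ext ?_, ?_⟩
  · rw [mul_smul, coe_mono_smul, f1, signedPerm_v44, t0, t1, if_neg a0, coe_U]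
    congr 1
    simp only [a1]; split_ifs <;> omega
  · rw [mul_smul, coe_mono_smul, f2, signedPerm_v44, t0, t2, if_neg a0, coe_X]
    congr 1
    simp only [a2]; split_ifs <;> omega
  · rw [mul_smul, inv_smul_smul]
    exact mem_monoGroup_iff_cg.1 (mono_mem hτ hc)

theorem le_eps3 (sq : ∀ r ∈ N, r * r = 1)
    (hle : ∀ r ∈ N, r ∈ monoGroup ∧ r • vU = vU ∧ (r • vX = vX ∨ r • vX = vU - vX))
    (conj : ∀ g ∈ monoGroup, g • vU = vU → g • vX = vX → ∀ r ∈ N, g * r * g⁻¹ ∈ N) :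
    N ≤ epsGroup ⊓ Stab vU ⊓ Stab vX := by
  have fx : ∀ τ ∈ M21, ∀ i, i = some 0 ∨ i = some 1 → ∀ p, v44 none i 1 1 (τ p) = v44 none i 1 1 p := by
    intro τ hτ i hi p
    have t0 : τ none = none := hτ.1.1.2
    have ti : τ i = i := by rcases hi with rfl | rfl; exacts [hτ.1.2, hτ.2]
    rw [v44_apply, v44_apply,
      if_congr (τ.apply_eq_iff_eq.symm.trans (by rw [ti]) : p = i ↔ τ p = i).symm rfl rfl,
      if_congr (τ.apply_eq_iff_eq.symm.trans (by rw [t0]) : p = none ↔ τ p = none).symm rfl rfl]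
  have pres : ∀ σ ∈ prm N, ∀ p, p = none ∨ p = some 0 → σ p = none ∨ σ p = some 0 :=
    fun σ ⟨hσ, c, hc, a⟩ p hp => (U_pos _).1.1
      (mono_fix (hle _ a).2.1 ((U_pos p).1.2 hp) fun q => (U_pos q).2).1
  intro r hr
  obtain ⟨σ, hσ, c, hc, rfl⟩ := (hle r hr).1
  obtain rfl := eq_one_tri (S := prm N) (fun _ h => h.1) (prm_sq sq) pres
    (fun σ hS => by
      obtain ⟨hσ, c, hc, a⟩ := id hS
      have e : σ (σ (some 1)) = some 1 := by rw [← Equiv.Perm.mul_apply, prm_sq sq σ hS]; rfl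
      have n : ¬ (σ (some 1) = none ∨ σ (some 1) = some 0) := fun f => by
        have := pres σ hS _ f
        rw [e] at this
        revert this; decide
      have := mono_smul_apply hσ hc vX (some 1)
      rw [show (vX : GolayPt → ℤ) (some 1) = 4 by rw [coe_X, v44_apply]; decide] at this
      by_contra n1
      rcases (hle _ a).2.2 with f | f <;> rw [f] at this <;>
        simp only [AddSubgroup.coe_sub, Pi.sub_apply, coe_U, coe_X, v44_apply, if_neg n1, if_neg (not_or.1 n).1,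
          if_neg (not_or.1 n).2] at this <;> split_ifs at this <;> omega)
    (fun τ hτ => prm_conj hτ.1.1.1 (conj _ (permHom_mem _)
      (perm_fix _ (by rw [coe_U]; exact fx τ hτ _ (Or.inl rfl)))
      (perm_fix _ (by rw [coe_X]; exact fx τ hτ _ (Or.inr rfl))))) σ ⟨hσ, c, hc, hr⟩
  refine ⟨⟨⟨c, hc, rfl⟩, (hle _ hr).2.1⟩, (hle _ hr).2.2.resolve_right fun f => ?_⟩
  have := mono_smul_apply hσ hc vX none
  rw [f, AddSubgroup.coe_sub, Pi.sub_apply, Equiv.Perm.one_apply,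
    show (vX : GolayPt → ℤ) none = 4 by rw [coe_X, v44_apply]; decide,
    show (vU : GolayPt → ℤ) none = 4 by rw [coe_U, v44_apply]; decide] at this
  split_ifs at this <;> omega

theorem card_eps_UX : Nat.card ↥(epsGroup ⊓ Stab vU ⊓ Stab vX) = 512 := by
  have h := card_mono_filter (fun σ => σ = 1) (fun c => none ∉ c ∧ some 0 ∉ c ∧ some 1 ∉ c)
    (epsGroup ⊓ Stab vU ⊓ Stab vX : Subgroup Co0) (fun _ h => epsGroup_le h.1.1) fun σ hσ c hc => by
      constructor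
      · rintro ⟨⟨⟨d, hd, e⟩, a⟩, b⟩
        obtain rfl : σ = 1 := (mono_inj e).1
        exact ⟨rfl, (mono_fix a ((U_pos none).1.2 (Or.inl rfl)) fun q => (U_pos q).2).2,
          (mono_fix a ((U_pos (some 0)).1.2 (Or.inr rfl)) fun q => (U_pos q).2).2,
          (mono_fix b ((v44_pos coe_X (some 1)).1.2 (Or.inr rfl)) fun q => (v44_pos coe_X q).2).2⟩
      · rintro ⟨rfl, a, b, d⟩
        refine ⟨⟨⟨c, hc, rfl⟩, Subtype.ext ?_⟩, Subtype.ext ?_⟩
        · rw [coe_mono_smul, coe_U, signedPerm_v44]; simp [a, b]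
        · rw [coe_mono_smul, coe_X, signedPerm_v44]; simp [a, d]
  have h2 := ncard_codeSets_filter (fun m => !(m.testBit 23) && (!(m.testBit 0) && !(m.testBit 1)))
    {c | c ∈ code ∧ none ∉ c ∧ some 0 ∉ c ∧ some 1 ∉ c} (fun u hu => by
      rw [Set.mem_ofPred_eq, and_iff_right (ofMask_cw_mem hu)]
      simp only [mem_ofMask, show idx none = 23 from rfl, show idx (some 0) = 0 from rfl,
        show idx (some 1) = 1 from rfl]
      simp) fun _ h => h.1
  rw [show Nat.card {σ : Equiv.Perm GolayPt // σ ∈ M24 ∧ σ = 1} = 1 from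
    Nat.card_eq_one_iff_exists.2 ⟨⟨1, one_mem _, rfl⟩, fun y => Subtype.ext y.2.2⟩, one_mul, h2,
    show countLt2 64 64 (fun u => !((cw u).testBit 23) && (!((cw u).testBit 0) && !((cw u).testBit 1))) = 512 by
      decide +kernel] at h
  exact h

theorem eqns_ERecClsCo : True := by
  have := @x1.eq_1
  have := @a0.eq_1
  trivial

end H26.EC
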