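import Mathlib
import Cfsg.Agent.Lib.ERec.Basic
import Cfsg.Agent.Lib.ERec.ClsCo
import Cfsg.Agent.Lib.BRec.Cls

/-!
Centralisers of shape `2^(1+20).U6(2)(.2)`: the class of the conjugates of `z` in `Q`, and the image of
the conjugate extraspecial group.
-/

set_option autoImplicit false

namespace H26.EC

open Cfsg Subgroup H16 H95 H48.BR H21.ER
open H99.BC (img mem_img img_U Cst comm_of_sq)

variable {G : Type*} [Group G] {z : G} {Q : Subgroup G} {φ : centralizer ({z} : Set G) →* Stab vU}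
  {cls : leechLattice → G → Prop} {Q' : Subgroup G} {s : G} {v : leechLattice}

theorem img_sw (M : Et z Q φ cls) {γ : Co0} (h : γ ∈ img φ Q') : γ • vX = vX ∨ γ • vX = vU - vX := by
  obtain ⟨b, -, rfl⟩ := mem_img.1 h
  exact M.fixX b

theorem img_cw (M : Et z Q φ cls) (p : Pair Q Q' z s) (hs : cls v s) {γ : Co0}
    (h : γ ∈ img φ Q') : Cw (γ • v) v := by
  obtain ⟨b, hb, rfl⟩ := mem_img.1 h
  exact M.cw_of_comm hs (p.h'.central b hb)

theorem img_sq (M : Et z Q φ cls) (p : Pair Q Q' z s) {γ : Co0} (h : γ ∈ img φ Q') : γ * γ = 1 := by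
  obtain ⟨b, hb, rfl⟩ := mem_img.1 h
  have : φ (b * b) = 1 := (M.ker _).2 (by
    rcases p.h'.sq_mem hb with e | e <;> rw [coe_mul, e]
    exacts [one_mem _, p.sQ])
  rw [← coe_mul, ← map_mul, this]; rfl

theorem not_zero (M : Et z Q φ cls) (p : Pair Q Q' z s) (hs : cls v s) : ¬ Cw 0 v := by
  rw [M.cw_zero_iff hs, not_or]; exact ⟨p.h'.ne_one, p.ne⟩

theorem img_conj (M : Et z Q φ cls) (p : Pair Q Q' z s) (hs : cls v s) {σ γ : Co0}
    (hU : σ • vU = vU) (hX : σ • vX = vX) (hσ : Cg (σ • v) v) (h : γ ∈ img φ Q') :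
    σ * γ * σ⁻¹ ∈ img φ Q' := by
  obtain ⟨b, hb, rfl⟩ := mem_img.1 h
  obtain ⟨c, hc, ec⟩ := M.exists_conj hs hs (not_zero M p hs) (γ := ⟨σ, hU⟩) hX (Cw.of_cg hσ)
  exact mem_img.2 ⟨c * b * c⁻¹,
    conj_mem_of_normalizer (p.h'.norm c (mul_inv_eq_iff_eq_mul.1 ec)) hb, by simp [hc]⟩

theorem img_good (M : Et z Q φ cls) (p : Pair Q Q' z s) (hs : cls v s) {γ : Co0} (h : γ ∈ img φ Q')
    {a : leechLattice} (ha : Pq a) (hv : (16 : ℤ) ∣ dotInt (a : GolayPt → ℤ) v) :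
    (16 : ℤ) ∣ dotInt ((γ • a : leechLattice) : GolayPt → ℤ) a := by
  obtain ⟨b, hb, rfl⟩ := mem_img.1 h
  obtain ⟨y, hy⟩ := M.ex_elt a ha
  have c := M.add (M.smul b hy) (M.inv hy)
  have m : b * y * (b : G)⁻¹ * y⁻¹ ∈ Q' := by
    simpa only [mul_assoc] using
      Q'.mul_mem hb (conj_mem_of_normalizer (p.h'.norm y ((M.commute_iff hy hs).2 hv)) (Q'.inv_mem hb))
  have := (M.sq c).1 (p.E_elementary ⟨M.mem c, m⟩)
  have d := sixteen_dvd_sqNorm a.2
  rw [AddSubgroup.coe_add, sqNorm_add, sqNorm_co0] at this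
  omega

theorem card_img [Finite G] (M : Et z Q φ cls) (p : Pair Q Q' z s) (hc : Nat.card Q' = 2 ^ 21) :
    512 ≤ Nat.card (img φ Q') := by
  set B := (Q' ⊓ centralizer ({z} : Set G)).subgroupOf (centralizer ({z} : Set G)) with hB
  set ψ := (Stab vU).subtype.comp φ with hψ
  have kk : ∀ c, c ∈ ψ.ker ↔ (c : G) ∈ Q := fun c => by
    rw [← M.ker, MonoidHom.mem_ker, hψ, MonoidHom.comp_apply, coe_subtype, OneMemClass.coe_eq_one]
  have h1 := card_mul_index (ψ.domRestrict B).ker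
  rw [index_ker, MonoidHom.domRestrict_range, MonoidHom.ker_domRestrict] at h1
  have h2 : Nat.card B = 2 ^ 20 := by
    have := p.h'.card_centralizer p.zQ p.h.ne_one p.ne.symm
    rw [hB, Nat.card_congr (subgroupOfEquivOfLe inf_le_right).toEquiv]
    omega
  have h3 : Nat.card (ψ.ker.subgroupOf B) ≤ Nat.card (Q ⊓ Q' : Subgroup G) :=
    Nat.card_le_card_of_injective (fun x => ⟨x.1.1.1, (kk _).1 x.2, x.1.2.1⟩) fun a b e => by
      have e' := congrArg Subtype.val e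
      exact Subtype.ext (Subtype.ext (Subtype.ext e'))
  have h4 : Nat.card (Q ⊓ Q' : Subgroup G) ≤ 2 ^ 11 :=
    M.h.card_le_of_elementary (n := 10) M.card inf_le_left fun x hx => p.E_elementary hx
  rw [h2] at h1
  change _ * Nat.card (img φ Q') = _ at h1
  by_contra! n
  nlinarith

theorem dt (M : Et z Q φ cls) (p : Pair Q Q' z s) (hs : cls v s) :
    Dt (img φ Q' ⊓ Stab vX ⊓ Cst v) vU vX v where
  sq _ h := img_sq M p h.1.1
  fix _ h := ⟨img_U h.1.1, h.1.2, h.2⟩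
  conj g a b c r h := ⟨⟨img_conj M p hs a b c h.1.1,
      (Stab vX).mul_mem ((Stab vX).mul_mem b h.1.2) ((Stab vX).inv_mem b)⟩,
    (Cst v).mul_mem ((Cst v).mul_mem c h.2) ((Cst v).inv_mem c)⟩
  good _ h _ a b c := img_good M p hs h.1.1 ⟨a, b⟩ c

/-- the stabiliser of `u` and of a class modulo twice the lattice and `u` -/
def CuS (v : leechLattice) : Subgroup Co0 where
  carrier := {γ | γ • vU = vU ∧ Cu (γ • v) v}
  one_mem' := ⟨one_smul _ _, by rw [one_smul]; exact Cu.refl v⟩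
  mul_mem' := fun {a b} ha hb => ⟨by rw [mul_smul, hb.1, ha.1], by
    rw [mul_smul]; exact (hb.2.smul ⟨a, ha.1⟩).trans ha.2⟩
  inv_mem' := fun {a} ha => ⟨inv_smul_eq_iff.2 ha.1.symm, by
    have := ha.2.smul ⟨a⁻¹, inv_smul_eq_iff.2 ha.1.symm⟩
    rw [inv_smul_smul] at this
    exact this.symm⟩

theorem cw_ex {a : leechLattice} (h : Cw a v) :
    ∃ t, (t = 0 ∨ t = vU ∨ t = vX ∨ t = vX + vU) ∧ Cg a (v + t) := by
  have k : ∀ t, Cg (a + t) v → Cg a (v + t) := fun t e =>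
    (show Cg a (a + t + t) from cg_iff.2 ⟨-t, by abel⟩).trans (e.add (Cg.refl t))
  rcases cw_iff.1 h with e | e | e | e
  exacts [⟨0, by simp, by rwa [add_zero]⟩, ⟨_, by simp, k _ e⟩, ⟨_, by simp, k _ e⟩,
    ⟨_, by simp, k _ (add_assoc a _ _ ▸ e)⟩]

theorem cu_of_outer (M : Et z Q φ cls) (p : Pair Q Q' z s) (hs : cls v s) {r₀ r : Co0}
    (h₀ : r₀ ∈ img φ Q') (o : r₀ • vX = vU - vX) (h : r ∈ img φ Q') (i : r • vX = vX) : Cu (r • v) v := by
  obtain ⟨t₀, a₀, e₀⟩ := cw_ex (img_cw M p hs h₀)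
  obtain ⟨t, a, e⟩ := cw_ex (img_cw M p hs h)
  have f : r • t₀ = t₀ := by
    rcases a₀ with rfl | rfl | rfl | rfl <;> simp only [smul_zero, smul_add, img_U h, i]
  have e1 := e.smul r₀
  have e2 := e₀.smul r
  rw [← mul_smul, comm_of_sq (fun _ => img_sq M p) h₀ h, mul_smul, smul_add] at e1
  rw [smul_add, f] at e2
  obtain ⟨c, ec⟩ := cg_iff.1 (((e₀.symm.add (Cg.refl _)).trans e1.symm).trans
    (e2.trans (e.add (Cg.refl _))))
  have n : ¬ Cg vU 0 := fun g => by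
    have := g.norm_eq (by rw [norm_U]; omega) (by rw [sqNorm_zero']; omega)
    rw [norm_U, sqNorm_zero'] at this
    omega
  rcases a with rfl | rfl | rfl | rfl
  · exact Or.inl (by rwa [add_zero] at e)
  · exact Or.inr ((e.add (Cg.refl _)).trans (cg_UU v))
  · rw [o] at ec
    exact (n (cg_iff.2 ⟨c + vX, by linear_combination (norm := abel) ec⟩)).elim
  · rw [smul_add, o, img_U h₀] at ec
    exact (n (cg_iff.2 ⟨c + vX, by linear_combination (norm := abel) ec⟩)).elim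

theorem card_dt [Finite G] (M : Et z Q φ cls) (p : Pair Q Q' z s) (hc : Nat.card Q' = 2 ^ 21)
    (hs : cls v s) : 128 ≤ Nat.card ↥(img φ Q' ⊓ Stab vX ⊓ Cst v) := by
  have h0 := card_img M p hc
  have : Finite (img φ Q') := Nat.finite_of_card_ne_zero (by omega)
  have : Finite ↥(img φ Q' ⊓ Stab vX) := Finite.of_injective _ (inclusion_injective inf_le_left)
  have : Finite ↥(img φ Q' ⊓ Stab vX ⊓ CuS v) := Finite.of_injective _ (inclusion_injective inf_le_left)
  have h1 := H75.WC.card_le_two_mul (H := img φ Q') (K := img φ Q' ⊓ Stab vX) inf_le_left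
    fun a ha b hb h1 h2 => ⟨(img φ Q').mul_mem ((img φ Q').inv_mem ha) hb, by
      change (a⁻¹ * b) • vX = vX
      rw [mul_smul, inv_smul_eq_iff, (img_sw M ha).resolve_left fun e => h1 ⟨ha, e⟩,
        (img_sw M hb).resolve_left fun e => h2 ⟨hb, e⟩]⟩
  have h2 := H75.WC.card_le_two_mul (H := img φ Q' ⊓ Stab vX) (K := img φ Q' ⊓ Stab vX ⊓ CuS v) inf_le_left
    fun a ha b hb h1 h2 => ⟨Subgroup.mul_mem _ (Subgroup.inv_mem _ ha) hb, img_U ((img φ Q').mul_mem ((img φ Q').inv_mem ha.1) hb.1), by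
      have e1 := (img_cw M p hs ha.1).resolve_left fun e => h1 ⟨ha, img_U ha.1, e⟩
      have e2 := (img_cw M p hs hb.1).resolve_left fun e => h2 ⟨hb, img_U hb.1, e⟩
      have := ((cu_XX _).symm.trans ((cu_add (e2.trans e1.symm) vX).trans (cu_XX _))).smul
        ⟨a⁻¹, img_U ((img φ Q').inv_mem ha.1)⟩
      rwa [inv_smul_smul, ← mul_smul] at this⟩
  have h3 := H75.WC.card_le_two_mul (H := img φ Q' ⊓ Stab vX ⊓ CuS v) (K := img φ Q' ⊓ Stab vX ⊓ Cst v)
    (fun a ha => ⟨ha.1, img_U ha.1.1, Or.inl ha.2⟩)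
    fun a ha b hb h1 h2 => ⟨Subgroup.mul_mem _ (Subgroup.inv_mem _ ha.1) hb.1, by
      have e1 := ha.2.2.resolve_left fun e => h1 ⟨ha.1, e⟩
      have e2 := hb.2.2.resolve_left fun e => h2 ⟨hb.1, e⟩
      have := ((cg_UU _).symm.trans (((e2.trans e1.symm).add (Cg.refl vU)).trans (cg_UU _))).smul a⁻¹
      rwa [inv_smul_smul, ← mul_smul] at this⟩
  by_cases o : ∀ r ∈ img φ Q', r • vX = vX
  · rw [inf_eq_left.2 (show img φ Q' ≤ Stab vX from o)] at h2 h3 ⊢
    omega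
  · push Not at o
    obtain ⟨r, hr, n⟩ := o
    rw [inf_eq_left.2 (show img φ Q' ⊓ Stab vX ≤ CuS v from fun a ha => ⟨img_U ha.1,
      cu_of_outer M p hs hr ((img_sw M hr).resolve_left n) ha.1 ha.2⟩)] at h3
    omega

theorem U_none : (vU : GolayPt → ℤ) none = 4 := by rw [coe_U, v44_apply]; decide
theorem X_none : (vX : GolayPt → ℤ) none = 4 := by rw [coe_X, v44_apply]; decide

theorem img_eq [Finite G] (M : Et z Q φ cls) (p : Pair Q Q' z s) (hc : Nat.card Q' = 2 ^ 21)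
    (hs : cls (e8 none) s) : img φ Q' = epsGroup ⊓ Stab vU ⊓ Stab vX := by
  have h := card_img M p hc
  have : Finite ↥(epsGroup ⊓ Stab vU ⊓ Stab vX) := Nat.finite_of_card_ne_zero (by rw [card_eps_UX]; omega)
  refine eq_of_le_of_card_ge (le_eps3 (fun x hx => img_sq M p hx) (fun x hx => ⟨?_, img_U hx, img_sw M hx⟩)
    fun g hg gu gx x hx => img_conj M p hs gu gx (mem_monoGroup_iff_cg.1 hg) hx)
    (by rw [card_eps_UX]; exact h)
  have n1 : sqNorm ((x • e8 none : leechLattice) : GolayPt → ℤ) = 64 := (sqNorm_co0 x _).trans (sqNorm_e8 _)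
  have k : ∀ t : leechLattice, sqNorm (t : GolayPt → ℤ) + 32 = 16 * (t : GolayPt → ℤ) none →
      ¬ Cg (x • e8 none) (e8 none + t) := fun t n e => by
    have n2 : sqNorm ((e8 none - t : leechLattice) : GolayPt → ℤ) = 32 := by
      rw [AddSubgroup.coe_sub, sqNorm_sub, sqNorm_e8, dotInt_comm, dot_e8]; omega
    have := (e.trans (show Cg (e8 none + t) (e8 none - t) from cg_iff.2 ⟨t, by abel⟩)).norm_eq
      (by omega) (by omega)
    omega
  obtain ⟨t, rfl | rfl | rfl | rfl, e⟩ := cw_ex (img_cw M p hs hx)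
  · exact mem_monoGroup_iff_cg.2 (by rwa [add_zero] at e)
  · exact absurd e (k _ (by rw [norm_U, U_none]; rfl))
  · exact absurd e (k _ (by rw [norm_X, X_none]; rfl))
  · exact absurd e (k _ (by
      rw [AddSubgroup.coe_add, sqNorm_add, Pi.add_apply, norm_U, norm_X, U_none, X_none, dotInt_comm, dot_UX]
      rfl))

theorem frame_of (M : Et z Q φ cls) (hs : cls v s) (nv : sqNorm (v : GolayPt → ℤ) = 64)
    (uv : dotInt (vU : GolayPt → ℤ) v = 32) (xv : dotInt (vX : GolayPt → ℤ) v = 32) :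
    ∃ c : centralizer ({z} : Set G), (φ c : Co0) • vX = vX ∧ cls (e8 none) (c * s * (c : G)⁻¹) := by
  obtain ⟨k, k1, k2, k3⟩ := case3 nv uv xv
  obtain ⟨c, hc⟩ := M.surj ⟨k, k1⟩ k2
  exact ⟨c, by rw [hc]; exact k2, M.congr (M.smul c hs) (Cw.of_cg (by rw [hc]; exact k3))⟩

theorem cw_U : Cw 0 vU := zero_add vU ▸ cw_add_U 0
theorem cw_X : Cw 0 vX := zero_add vX ▸ cw_add_X 0
theorem cw_Y : Cw 0 (vU - vX) := cw_X.trans (Or.inl cu_UX.symm)

theorem frame_of_min [Finite G] (M : Et z Q φ cls) (p : Pair Q Q' z s) (hc : Nat.card Q' = 2 ^ 21)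
    (hs : cls v s) (hv : sqNorm (v : GolayPt → ℤ) = 32) :
    ∃ c : centralizer ({z} : Set G), (φ c : Co0) • vX = vX ∧ cls (e8 none) (c * s * (c : G)⁻¹) := by
  have nU := norm_U
  have nX := norm_X
  have ux := dot_UX
  have xu := (dotInt_comm _ _).trans dot_UX
  have lt : ∀ m w : leechLattice, sqNorm (m : GolayPt → ℤ) = 32 → Cw 0 m → cls w s →
      sqNorm (w : GolayPt → ℤ) = 32 → dotInt (m : GolayPt → ℤ) w < 32 := fun m w nm h0 hw nw => by
    have b := sqNorm_nonneg ((m : GolayPt → ℤ) - w)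
    rw [sqNorm_sub] at b
    refine lt_of_le_of_ne (by omega) fun e => ?_
    obtain rfl := eq_of_dot nm nw e
    exact not_zero M p hw h0
  have key : ∀ w : leechLattice, cls w s → sqNorm (w : GolayPt → ℤ) = 32 →
      0 ≤ dotInt (vU : GolayPt → ℤ) w → 0 ≤ dotInt (vX : GolayPt → ℤ) w →
      ∃ c : centralizer ({z} : Set G), (φ c : Co0) • vX = vX ∧ cls (e8 none) (c * s * (c : G)⁻¹) := by
    intro w hw nw a0 b0
    have a1 := lt _ w nU cw_U hw nw
    have b1 := lt _ w nX cw_X hw nw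
    obtain ⟨a2, b2⟩ := M.perp hw
    rw [Pp] at a2
    have wu := dotInt_comm (w : GolayPt → ℤ) vU
    have wx := dotInt_comm (w : GolayPt → ℤ) vX
    by_cases a : dotInt (vU : GolayPt → ℤ) w = 0 <;> by_cases b : dotInt (vX : GolayPt → ℤ) w = 0
    · have h := M.congr hw (cw_add_U w)
      have := case1 (dt M p h) nU nX (by rw [AddSubgroup.coe_add, sqNorm_add]; omega) xu
        (by rw [AddSubgroup.coe_add, dotInt_add_right, dotInt_self]; omega)
        (by rw [AddSubgroup.coe_add, dotInt_add_right]; omega)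
      have := card_dt M p hc h
      omega
    · exact frame_of M (M.congr hw (cw_add_U w)) (by rw [AddSubgroup.coe_add, sqNorm_add]; omega)
        (by rw [AddSubgroup.coe_add, dotInt_add_right, dotInt_self]; omega)
        (by rw [AddSubgroup.coe_add, dotInt_add_right]; omega)
    · exact frame_of M (M.congr hw (cw_add_X w)) (by rw [AddSubgroup.coe_add, sqNorm_add]; omega)
        (by rw [AddSubgroup.coe_add, dotInt_add_right]; omega)
        (by rw [AddSubgroup.coe_add, dotInt_add_right, dotInt_self]; omega)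
    · refine frame_of M (M.congr hw ((cw_neg w).trans ((cw_add_U _).trans (cw_add_X _)))) ?_ ?_ ?_ <;>
        simp only [AddSubgroup.coe_add, AddSubgroup.coe_neg, sqNorm_add, sqNorm_neg, dotInt_add_right,
          H16.dotInt_add_left, H16.dotInt_neg_left, dotInt_neg_right, dotInt_self] <;> omega
  have nY : sqNorm ((vU - vX : leechLattice) : GolayPt → ℤ) = 32 := by
    rw [AddSubgroup.coe_sub, sqNorm_sub]; omega
  have hs' := M.congr hs (cw_neg v)
  have hv' : sqNorm ((-v : leechLattice) : GolayPt → ℤ) = 32 := neg_mem_Min hv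
  have y1 := lt _ v nY cw_Y hs hv
  have y2 := lt _ (-v) nY cw_Y hs' hv'
  have k2 := key (-v) hs' hv'
  obtain ⟨a2, b2⟩ := M.perp hs
  rw [Pp] at a2
  rw [dotInt_comm] at a2 b2
  simp only [AddSubgroup.coe_sub, AddSubgroup.coe_neg, dotInt_sub_left, dotInt_neg_right] at y1 y2 k2
  by_cases a : 0 ≤ dotInt (vU : GolayPt → ℤ) v ∧ 0 ≤ dotInt (vX : GolayPt → ℤ) v
  · exact key v hs hv a.1 a.2
  · exact k2 (by omega) (by omega)

theorem eqns_ERecCls : True := by
  have := @CuS.eq_1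
  trivial

end H26.EC

namespace H21.ER.EtH

open Cfsg Subgroup H16 H95 H48.BR H26.EC

variable {G : Type*} [Group G] [Finite G] {z : G} {Q : Subgroup G}
  {φ : centralizer ({z} : Set G) →* Stab vU} {cls : leechLattice → G → Prop}

theorem exists_frame (M : Et z Q φ cls) {s : G} (hs : s ∈ Q) (hc : IsConj z s) (hne : s ≠ z) :
    ∃ c : centralizer ({z} : Set G), (φ c : Co0) • vX = vX ∧ cls (e8 none) (c * s * (c : G)⁻¹) := by
  obtain ⟨g, e⟩ := isConj_iff.1 hc
  have p := M.pair (e ▸ hs) (e ▸ hne)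
  have hq := M.card_conj g
  rw [e] at p
  have sh : ∀ v, cls v s → ∃ w, Cg v w ∧ cls w s ∧
      (sqNorm (w : GolayPt → ℤ) = 32 ∨ sqNorm (w : GolayPt → ℤ) = 64) := fun v hv => by
    obtain ⟨w, e, h⟩ := exists_short v
    have hw := M.congr hv (Cw.of_cg e)
    have := (M.sq hw).1 p.h'.sq
    refine ⟨w, e, hw, ?_⟩
    rcases h with rfl | h
    · exact (not_zero M p hw (Cw.refl _)).elim
    · omega
  obtain ⟨v, hv⟩ := M.ex_cls s hs
  obtain ⟨v, -, hv, n | n⟩ := sh v hv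
  · exact frame_of_min M p hq hv n
  obtain ⟨w1, f1, h1, m1 | m1⟩ := sh _ (M.congr hv (cw_add_U v))
  · exact frame_of_min M p hq h1 m1
  obtain ⟨w2, f2, h2, m2 | m2⟩ := sh _ (M.congr hv (cw_add_X v))
  · exact frame_of_min M p hq h2 m2
  obtain ⟨w3, f3, h3, m3 | m3⟩ := sh _ (M.congr hv (add_zero v ▸ (Cw.refl v).add cw_Y :))
  · exact frame_of_min M p hq h3 m3
  have := case0 (dt M p hv) norm_U norm_X n dot_UX (dotInt_comm _ _ ▸ (M.perp hv).1)
    (dotInt_comm _ _ ▸ (M.perp hv).2) f1 f2 f3 m1 m2 m3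
  have := card_dt M p hq hv
  omega

theorem img_iff (M : Et z Q φ cls) {Q' : Subgroup G} {s : G} (p : Pair Q Q' z s) (hc : Nat.card Q' = 2 ^ 21)
    (hs : cls (e8 none) s) (γ : Stab vU) :
    (∃ b : centralizer ({z} : Set G), (b : G) ∈ Q' ∧ φ b = γ) ↔
      (γ : Co0) ∈ epsGroup ∧ (γ : Co0) • vX = vX := by
  have : (γ : Co0) ∈ H99.BC.img φ Q' ↔ ((γ : Co0) ∈ epsGroup ∧ (γ : Co0) ∈ Stab vU) ∧ (γ : Co0) • vX = vX := by
    rw [img_eq M p hc hs]; rfl
  rw [and_iff_left γ.2, H99.BC.mem_img] at this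
  simpa only [Subtype.coe_inj] using this

end H21.ER.EtH
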