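import Cfsg.Agent.Lib.ERec.Nod0
import Cfsg.Agent.Lib.ERec.Cls

/-! A group of type 2E6(2) contains a diagram Y333 of conjugates of the involution (helper48). -/

set_option autoImplicit false

open Cfsg Subgroup H16

theorem H21.ER.EtH.nod {G : Type*} [Group G] [Finite G] {z : G} {Q : Subgroup G}
    {φ : centralizer ({z} : Set G) →* Stab vU} {cls : leechLattice → G → Prop} (M : H21.ER.Et z Q φ cls)
    {s : G} (hs : s ∈ Q) (hc : IsConj z s) (hne : s ≠ z) :
    ∃ g : ℕ → G, H18.TC.Sat g 11 H18.YB.RK ∧ IsConj z (g 0) := by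
  obtain ⟨c, -, h⟩ := M.exists_frame hs hc hne
  obtain ⟨q, F⟩ := H48.ER.exists_fr M hc hne ⟨c, h⟩ fun p n k γ => M.img_iff p n k γ
  exact F.nod
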