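import Mathlib
import Cfsg.Agent.Lib.ERec.Basic
import Cfsg.Agent.Lib.MRec.WcAbs
import Cfsg.Agent.Lib.YB.E6N
import Cfsg.Agent.S1025
import Cfsg.Agent.S1070
import Cfsg.Agent.S1086

/-!
A group generated by a Y333 diagram maps onto `²E₆(2)`; the centraliser of a node.
-/

set_option autoImplicit false
set_option maxRecDepth 100000
set_option exponentiation.threshold 1000000

namespace H21.ER

open Cfsg Cfsg.Lie Subgroup H16 H95 H48.BR H18.TC H18.YB H18.E6N H15.Mdl H30 H5.E6F

universe u

/-- centralisers do not grow in quotients -/
theorem card_cent_map {K L : Type*} [Group K] [Group L] [Finite K] {ψ : K →* L} (hs : Function.Surjective ψ)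
    (a : K) : Nat.card (centralizer ({ψ a} : Set L)) ≤ Nat.card (centralizer ({a} : Set K)) := by
  set B := (centralizer ({ψ a} : Set L)).comap ψ with hB
  have k1 : Nat.card B = Nat.card ψ.ker * Nat.card (centralizer ({ψ a} : Set L)) := by
    have e := (ψ.ker.subgroupOf B).card_mul_index
    have hle : ψ.ker ≤ B := fun x hx => by
      rw [hB, mem_comap, show ψ x = 1 from hx]; exact one_mem _
    rw [Nat.card_congr (subgroupOfEquivOfLe hle).toEquiv] at e
    rw [← e]
    congr 1
    change ψ.ker.relIndex B = _
    rw [relIndex_ker, hB, map_comap_eq_self_of_surjective hs]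
  have hle : centralizer ({a} : Set K) ≤ B := fun x hx => mem_centralizer_singleton_iff.2 (by
    rw [← map_mul, mem_centralizer_singleton_iff.1 hx, map_mul])
  have e := ((centralizer ({a} : Set K)).subgroupOf B).card_mul_index
  rw [Nat.card_congr (subgroupOfEquivOfLe hle).toEquiv] at e
  have k2 : ((centralizer ({a} : Set K)).subgroupOf B).index ≤ Nat.card ψ.ker := by
    refine Nat.card_le_card_of_injective (fun q : B ⧸ (centralizer ({a} : Set K)).subgroupOf B =>
      (⟨q.out * a * (q.out : K)⁻¹ * a⁻¹, ?_⟩ : ψ.ker)) fun p q h => ?_
    · have := mem_centralizer_singleton_iff.1 q.out.2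
      rw [MonoidHom.mem_ker, map_mul, map_mul, map_mul, this, map_inv, map_inv]; group
    · have h1 := mul_right_cancel (congrArg Subtype.val h)
      rw [← p.out_eq, ← q.out_eq]
      refine QuotientGroup.eq.2 (mem_centralizer_singleton_iff.2 ?_)
      calc ((p.out : K)⁻¹ * q.out) * a = (p.out : K)⁻¹ * (q.out * a * (q.out : K)⁻¹) * q.out := by group
        _ = a * ((p.out : K)⁻¹ * q.out) := by rw [← h1]; group
  have k3 : Nat.card ψ.ker * Nat.card (centralizer ({ψ a} : Set L)) ≤
      Nat.card ψ.ker * Nat.card (centralizer ({a} : Set K)) := by
    rw [← k1, ← e, mul_comm]; exact Nat.mul_le_mul_right _ k2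
  exact Nat.le_of_mul_le_mul_left k3 Nat.card_pos

variable {G : Type u} [Group G] {g : ℕ → G}

theorem exists_fi (h : Sat g 11 RK) (h0 : g 0 ≠ 1) : ∃ χ : Spor.Fi22 →* G, Function.Injective χ ∧
    χ (H18.Fi22.s 0) = g 0 ∧ χ.range ≤ gsub g fK := by
  obtain ⟨χ, hχ⟩ := H18.Fi22.exists_hom (h.sub fQ (rels' := H18.Fi22.R22) (by decide +kernel))
  haveI := H18.Fi22.simple
  have e : χ (H18.Fi22.s 0) = g 0 := hχ 0 (by norm_num)
  refine ⟨χ, (MonoidHom.ker_eq_bot_iff χ).1 (χ.normal_ker.eq_bot_or_eq_top.resolve_right fun t =>
    h0 (e.symm.trans (t.ge (mem_top _)))), e, ?_⟩
  rw [MonoidHom.range_eq_map, ← H18.Fi22.top, map_gsub]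
  exact gsub_le fun x hx => hχ x (List.mem_range.1 hx) ▸
    mem_gsub g ((by decide : ∀ x ∈ List.range 9, lab fQ 11 x ∈ fK) x hx)

theorem satT : Sat y 11 RK := ⟨sat.inv, sat.one, fun R hR => sat.rel R (List.mem_cons_of_mem _ hR)⟩

theorem simpleT : IsSimpleGroup T := (Cfsg.Agent.S1070.result (K := F4) (q := 2) Nat.prime_two.isPrimePow rfl).1

theorem finiteT : Finite T := Nat.finite_of_card_ne_zero (by rw [card_T]; norm_num)

theorem exists_psi (h : Sat g 11 RK) (h0 : g 0 ≠ 1) : ∃ ψ : gsub g fK →* T, Function.Surjective ψ ∧
    Finite (gsub g fK) ∧ Nat.card ψ.ker ≤ 2 ∧ ∀ k (hk : k ∈ fK), ψ ⟨g k, mem_gsub g hk⟩ = y k := by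
  obtain ⟨fin, b⟩ := (bd_Y333 (sat_prod h satT)).card
  set K := gsub (fun k => (g k, y k)) fK with hK
  have e := map_gsub (MonoidHom.fst G T) (fun k => (g k, y k)) fK
  let π : K →* gsub g fK :=
    ((MonoidHom.fst G T).comp (Subgroup.subtype _)).codRestrict _ fun p => e.le ⟨p, p.2, rfl⟩
  let ρ : K →* T := (MonoidHom.snd G T).comp (Subgroup.subtype _)
  have sπ : Function.Surjective π := fun p => by
    obtain ⟨q, hq, f⟩ := e.ge p.2
    exact ⟨⟨q, hq⟩, Subtype.ext f⟩
  have sρ : Function.Surjective ρ := fun t => by
    obtain ⟨q, hq, f⟩ := (map_gsub (MonoidHom.snd G T) (fun k => (g k, y k)) fK).ge (top.ge (mem_top t))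
    exact ⟨⟨q, hq⟩, f⟩
  haveI := simpleT
  haveI : Finite (gsub g fK) := Finite.of_surjective _ sπ
  have iπ : Function.Injective π := by
    rcases (π.normal_ker.map ρ sρ).eq_bot_or_eq_top with a | a
    · refine (injective_iff_map_eq_one π).2 fun p hp => Subtype.ext (Prod.ext (congrArg Subtype.val hp) ?_)
      exact mem_bot.1 (a.le ⟨p, hp, rfl⟩)
    · exfalso
      obtain ⟨χ, i, -, r⟩ := exists_fi h h0
      have c1 := π.ker.card_mul_index
      have c2 := Nat.card_le_card_of_surjective _ (ρ.subgroupMap_surjective π.ker)
      have c3 := card_le_of_le r
      rw [← Nat.card_congr (MonoidHom.ofInjective i).toEquiv, H18.Fi22.card_eq] at c3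
      rw [a, card_top, card_T] at c2
      rw [index_ker, MonoidHom.range_eq_top.2 sπ, card_top] at c1
      have := (Nat.mul_le_mul c2 c3).trans (c1.le.trans b)
      norm_num at this
  let ε := MulEquiv.ofBijective π ⟨iπ, sπ⟩
  have s : Function.Surjective (ρ.comp ε.symm.toMonoidHom) := sρ.comp ε.symm.surjective
  refine ⟨ρ.comp ε.symm.toMonoidHom, s, inferInstance, ?_, fun k hk => congrArg (fun p => p.1.2)
    (ε.symm_apply_eq.2 rfl : ε.symm ⟨g k, mem_gsub g hk⟩ = ⟨_, mem_gsub (fun k => (g k, y k)) hk⟩)⟩
  have c := (ρ.comp ε.symm.toMonoidHom).ker.card_mul_index
  rw [index_ker, MonoidHom.range_eq_top.2 s, card_top, card_T, ← Nat.card_congr ε.toEquiv] at c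
  have := c.le.trans b
  omega

/-- the code of the highest root element -/
def ph : ℕ := 0x8000000000000000000000000000000000000004000000000000000000000000000000000000002000000000000000000000000000000000000001000000000000000000000000000000000000000800000000000000000000000000000000000000400000000000000000000000000000000000000200000000000000000000000000000000000000100000000000000000000000000000000000000080000000000000000000000000000000000000040000000000000000000000000000000000000020000000000000000000000000000000000000010000000000000000000000000000000000000008000000000000000000000000000000000000004000000000000000000000000000000000000002000000000000000000000000000000000000001000000000000000000000000000000000000000800000000000000000000000000000000000000400000000000000000000000000000000000000200000000000000000000000000000000000000100000000000000000000000000000000000000080000000000000000000000000000000000000040000000000000000000000000000000000000020000000000000000000000000000000000000010000000000000000000000000000000000000008000000000000000000000000000000000000004000000000000000000000000000000000000002000000000000000000000000000000000000001000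0000000000000000000000000000000000008000000000000000000000000000000000000004000000000000000000000000000000000000002000000000000000000000000000000000000001000000000000000000000000000000000000000800000000000000000000000000000000000000400000000000000000000000000000000000000200000000000000000000000000000000000000100000000000000000000000000000000000000080000000000000000000000000000000000000040000000000000000000000000000000000000020000000000000000000000000000000000000010000000000000000000000000000000000000008000000000000000000000000000000000000004000000000000000000000000000000000000002000000000000000000000000000000000000001000000000000000000000000000000000000000800000000000000000000000000000000000000400000000000000000000000000000000000000200000000000000000000000000000000000000100000000000000000000000000000000000000080000000000000000000000000000000000000040000000000000000000000000000000000000020000000000000000000000000000000000000010000000000000000000000000000000000000008000000000000000000000000000000000000004000000000000000000000000000000000000002000000000000000000000000000000000000001000000000000000000000000000000000000000800000000000000000000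0000000000000000004000000000000000000000000000000000000002000000000000000000000000000000000000001000000000000000000000000000000000000000800000000000000000000000000000000000000400000000000000000000000000000000000000200000000000000000000000000000000000000100000000000000000000000000000000000000080000000000000000000000000000000000000040000000000000000000000000000000000000020000000000000000000000000000000000000010000000000000000000000000000000000000008000000000000000000000000000000000000004000000000000000000000000000000000000002000000000000000000000000000000000000001000000000000000000000000000000000000000800000000000000000000000000000000000000400000000000000000000000000000000000000200000000000000000000000000000000000000100000000000000000000000000000000000000080000000000000000000000000000000000000040000000000000000000000000000000000000020000000000000000000000000000000000000010000000000000000000000000000000000000008000000000000000000000000000000000000004000000000000000000000000000000000000002000000000000000000000000000000000000001000000000000000000000000000000000000000800000000000000000000000000000000000000400000000000000000000000000000000000000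2000000000000000000000000000000000000001000000000000000000000000000000000000000800000000000000000000000000000000000000400000000000000000000000000000000000000200000000000000000000000000000000000000100000000000000002000000000000000000000080000000000000001000000000000000000000040000000000000000800000000000000000000020000000000000000400000000000000000000010000000000000000200000000000000000000008000000000000000100000000000000000000004000000000000000080000000000000000000002000000000000000040000000000000000000001000000000000000020000000000000000000000800000000000000010000000000000000000000400000000000000008000000000000000000000200000000000000004000000000000000000000100000000000000002000000000000000000000080000000000000001000000000000000000000040000000000000000800000000000000000000020000000000000000400000000000000000000010000000000000000200000000000000000000008000000000000000100000000000000000000004000000000000000080000000000000000000002000000000000000040000000000000000000001000000000000000000000000000000000000000800000000000000000000000000000000000000400000000000000000000000000000000000000200000000000000000000000000000000000000100000000000000000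00000000000000000000008000000000000000000000000000000000000004000000000000000000000000000000000000002000000000000000000000000000000000000001000000000000000000000000000000000000000800000000000000000000000000000000000000400000000000000008000000000000000000000200000000000000004000000000000000000000100000000000000002000000000000000000000080000000000000001000000000000000000000040000000000000000800000000000000000000020000000000000000400000000000000000000010000000000000000200000000000000000000008000000000000000100000000000000000000004000000000000000080000000000000000000002000000000000000040000000000000000000001000000000000000020000000000000000000000800000000000000010000000000000000000000400000000000000008000000000000000000000200000000000000004000000000000000000000100000000000000002000000000000000000000080000000000000001000000000000000000000040000000000000000800000000000000000000020000000000000000400000000000000000000010000000000000000200000000000000000000008000000000000000100000000000000000000004000800000000000000000000000000000000002882400000000000000000000000000000000001441000000000000000000000000000000000000800000000000000000000000000000000000000400000000000000000000000000000000000000200000000000000000000000000000000000000100000000000000000000000000000000000000080000000000000000000000000000000000000040000000000000000000000000000000000000020000000000000000000000000000000000000010800000000000000000000000000000000000008400000000000000000000000000000000000004000000000000000000000000000000000000002000000000000000000000000000000000000001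

theorem ph_ok : chkX 71 F4.i ph := by decide +kernel

theorem ph_cj : o.cj (o.word GS [0, 1, 0, 2, 3, 2, 6, 7, 6, 2, 3, 2, 4, 5, 4, 6, 7, 6, 2, 3, 2]) (rv [0]) ph = true := by
  decide +kernel

theorem high (r : ℕ) (hr : chevE6.IsPosRoot r) (t u : F4) :
    chevE6.x F4 r t * chevE6.x F4 71 u = chevE6.x F4 71 u * chevE6.x F4 r t := by
  by_cases e : r = 71
  · rw [e, H37.tabE6.x_add, H37.tabE6.x_add, add_comm]
  have k := (by decide +kernel : ∀ r, r < 72 → chevE6.IsPosRoot r → r ≠ 71 →
    r ≠ chevE6.neg 71 ∧ chevE6.commTerms 71 r = []) r hr.1 hr e
  rw [Cfsg.Agent.S1025.result chevE6 (by simp) 71 r (by decide) hr.1 e k.1 u t, ChevalleyDatum.commWord, k.2]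
  simp [ChevalleyDatum.wordMat]

theorem y0_ne : y 0 ≠ 1 := fun e => (snd X).ne_of (R_ev (w := [0]) (by decide)) (snd X).one (by decide +kernel)
  (by rw [ev_single, e]; rfl)

theorem y02_ne : y 0 ≠ y 2 := fun e => (snd X).ne_of (R_ev (w := [0]) (by decide)) (R_ev (w := [2]) (by decide))
  (by decide +kernel) (by rw [ev_single, ev_single, e])

theorem two_dvd : 2 ^ 36 ∣ Nat.card (centralizer ({y 0} : Set T)) := by
  obtain ⟨c, hc, rc⟩ := In.word (snd X) (allIn f X)
    [0, 1, 0, 2, 3, 2, 6, 7, 6, 2, 3, 2, 4, 5, 4, 6, 7, 6, 2, 3, 2] (by decide)
  have r0 := R_ev (w := [0]) (by decide)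
  rw [ev_single] at r0
  have k := ((sound4 X num o_is).cj_iff rc r0 (R_of_chk f X ph_ok)).1 ph_cj
  let d : T := ⟨c, hc⟩
  have k1 : (((d * y 0 * d⁻¹ : T) : GL chevE6.Idx F4) : Matrix chevE6.Idx chevE6.Idx F4) = chevE6.x F4 71 F4.i := by
    change ((c * (y 0 : GL chevE6.Idx F4) * c⁻¹ : GL chevE6.Idx F4) : Matrix chevE6.Idx chevE6.Idx F4) = _
    rw [Units.val_mul, Units.val_mul, k, mul_assoc, Units.mul_inv, mul_one]
    rfl
  have hle : (chevE6.posUnipotent F4 ⊓ twistedE6 F4 2).subgroupOf (twistedE6 F4 2) ≤
      centralizer {d * y 0 * d⁻¹} := fun a ha => by
    have : chevE6.posUnipotent F4 ≤ centralizer {((d * y 0 * d⁻¹ : T) : GL chevE6.Idx F4)} :=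
      (closure_le _).2 (by
        rintro b ⟨r, t, hr, e⟩
        refine mem_centralizer_singleton_iff.2 (Units.ext ?_)
        rw [Units.val_mul, Units.val_mul, k1, e, high r hr])
    exact mem_centralizer_singleton_iff.2 (Subtype.ext (mem_centralizer_singleton_iff.1 (this ha.1)))
  have c1 := card_dvd_of_le hle
  rw [Nat.card_congr (subgroupOfEquivOfLe inf_le_right).toEquiv,
    Cfsg.Agent.S1086.result (K := F4) (q := 2) Nat.prime_two.isPrimePow rfl] at c1
  refine c1.trans ?_
  rw [← card_map_of_injective (K := centralizer {d * y 0 * d⁻¹}) (f := (MulAut.conj d⁻¹).toMonoidHom)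
    (MulAut.conj d⁻¹).injective]
  refine card_dvd_of_le ?_
  rintro _ ⟨a, ha, rfl⟩
  refine mem_centralizer_singleton_iff.2 ?_
  calc d⁻¹ * a * d⁻¹⁻¹ * y 0 = d⁻¹ * (a * (d * y 0 * d⁻¹)) * d := by group
    _ = y 0 * (d⁻¹ * a * d⁻¹⁻¹) := by rw [mem_centralizer_singleton_iff.1 ha]; group

theorem odd_dvd : 18393661440 ∣ Nat.card (centralizer ({y 0} : Set T)) := by
  obtain ⟨χ, i, e, -⟩ := exists_fi satT y0_ne
  have c := H18.Fi22.H.card_mul_index
  rw [H18.Fi22.ptQ_bij.2.2, H18.Fi22.card_eq] at c
  rw [show 18393661440 = Nat.card H18.Fi22.H by omega, ← card_map_of_injective i, ← H18.Fi22.centralizer_eq]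
  refine card_dvd_of_le ?_
  rintro _ ⟨a, ha, rfl⟩
  exact mem_centralizer_singleton_iff.2 (by rw [← e, ← map_mul, mem_centralizer_singleton_iff.1 ha, map_mul])

theorem card_cent_T : 2 ^ 21 * 9196830720 ≤ Nat.card (centralizer ({y 0} : Set T)) := by
  haveI := finiteT
  refine Nat.le_of_dvd Nat.card_pos ?_
  have := Nat.lcm_dvd two_dvd odd_dvd
  rwa [show Nat.lcm (2 ^ 36) 18393661440 = 2 ^ 21 * 9196830720 by decide +kernel] at this

theorem card_cent_K [Finite G] (h : Sat g 11 RK) (h0 : g 0 ≠ 1) :
    2 ^ 21 * 9196830720 ≤ Nat.card ↥(centralizer ({g 0} : Set G) ⊓ gsub g fK) := by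
  obtain ⟨ψ, s, -, -, e⟩ := exists_psi h h0
  have k := card_cent_map s ⟨g 0, mem_gsub g (by decide)⟩
  rw [e 0 (by decide)] at k
  refine (card_cent_T.trans k).trans (Nat.card_le_card_of_injective (fun a => ⟨a.1.1,
    mem_centralizer_singleton_iff.2 (congrArg Subtype.val (mem_centralizer_singleton_iff.1 a.2)), a.1.2⟩)
    fun a b e => Subtype.ext (Subtype.ext
      (congrArg (Subtype.val : ↥(centralizer ({g 0} : Set G) ⊓ gsub g fK) → G) e)))

section card

variable {G : Type*} [Group G] {z : G} {Q H : Subgroup G} {φ : H →* Stab vU} {cls : leechLattice → G → Prop}

/-- the group `U6(2)` inside `Co2` -/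
noncomputable abbrev L1 : Subgroup (Stab vU) := (Stab vX).subgroupOf (Stab vU)

theorem mem_L1 {γ : Stab vU} : γ ∈ L1 ↔ (γ : Co0) • vX = vX := Iff.rfl

theorem card_L1 : Nat.card L1 = 9196830720 := by
  rw [L1, ← inf_subgroupOf_left, Nat.card_congr (subgroupOfEquivOfLe inf_le_left).toEquiv, card_U62]

theorem EtH.card_H0 (M : EtH z Q H φ cls) : Nat.card (L1.comap φ) = 2 ^ 21 * 9196830720 := by
  have hle : φ.ker ≤ L1.comap φ := fun x hx => by
    rw [mem_comap, show φ x = 1 from hx]; exact one_mem _
  have e := (φ.ker.subgroupOf (L1.comap φ)).card_mul_index
  rw [Nat.card_congr (subgroupOfEquivOfLe hle).toEquiv, show φ.ker = Q.subgroupOf H from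
    Subgroup.ext fun c => M.ker c, Nat.card_congr (subgroupOfEquivOfLe M.le').toEquiv, M.card] at e
  rw [← e, ← card_L1, show Q.subgroupOf H = φ.ker from Subgroup.ext fun c => (M.ker c).symm]
  congr 1
  change φ.ker.relIndex _ = _
  rw [relIndex_ker, map_comap_eq_self fun γ hγ => M.surj γ hγ]

theorem EtH.mul_mem_H0 (M : EtH z Q H φ cls) {a b : H} (ha : a ∉ L1.comap φ) (hb : b ∉ L1.comap φ) :
    a⁻¹ * b ∈ L1.comap φ := by
  have e1 := (M.fixX a).resolve_left ha
  have e2 := (M.fixX b).resolve_left hb
  rw [mem_comap, mem_L1, map_mul, map_inv, Subgroup.coe_mul, Subgroup.coe_inv, mul_smul, e2, ← e1, inv_smul_smul]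

theorem EtH.card_cent_le [Finite G] {φ : centralizer ({z} : Set G) →* Stab vU} (M : Et z Q φ cls) :
    Nat.card (centralizer ({z} : Set G)) ≤ 2 ^ 22 * 9196830720 := by
  have := H75.WC.card_le_two_mul (H := ⊤) (K := L1.comap φ) le_top fun a _ b _ ha hb => M.mul_mem_H0 ha hb
  rw [card_top, M.card_H0] at this
  omega

end card

theorem eqns_ERecId : True := by
  have := @ph.eq_1
  trivial

end H21.ER
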