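import Mathlib
import Cfsg.Agent.Lib.ERec.Id
import Cfsg.Agent.Lib.ERec.ModNf
import Cfsg.Agent.Lib.ERec.Cls
import Cfsg.Agent.Lib.ERec.Fus
import Cfsg.Agent.S1577

/-!
Subgroups that contain the subgroup `2^(1+20).U6(2)` of the centraliser.
-/

set_option autoImplicit false

namespace H21.ER

open Cfsg Subgroup H16 H95 H48.BR

/-- the two descriptions of `U6(2)` -/
noncomputable def eL1 : L1 ≃* ↥(Stab vU ⊓ Stab vX) :=
  (MulEquiv.subgroupCongr (inf_subgroupOf_left (Stab vX) (Stab vU)).symm).trans (subgroupOfEquivOfLe inf_le_left)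

theorem simple_L1 : IsSimpleGroup L1 := by
  obtain ⟨e⟩ := Cfsg.Agent.S1577.base
  have : H11.U.IsSq H30.F4 2 := ⟨rfl⟩
  have : IsSimpleGroup (PSU 6 H30.F4 2) := H11.U.isSimpleGroup_PSU (by omega) (by omega)
  exact (eL1.trans e).isSimpleGroup

theorem finite_L1 : Finite L1 := Nat.finite_of_card_ne_zero (by rw [card_L1]; norm_num)

theorem Sw.conj {g γ : Stab vU} (hg : Sw g) (h : γ ∈ L1) : g⁻¹ * γ * g ∈ L1 := by
  rw [mem_L1] at *
  rw [Subgroup.coe_mul, Subgroup.coe_mul, Subgroup.coe_inv, mul_smul, mul_smul, inv_smul_eq_iff]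
  rcases hg with e | e <;> rw [e]
  · exact h
  · rw [smul_sub, fixU, h]

variable {G : Type*} [Group G] [Finite G] {z : G} {Q : Subgroup G}

theorem two_central (h : L3 Q z) : ∃ P : Sylow 2 G, z ∈ P ∧ ∀ g ∈ P, g * z = z * g := by
  obtain ⟨P, hP⟩ := h.isPGroup.exists_le_sylow
  haveI : Nontrivial P := ⟨⟨⟨z, hP h.mem⟩, 1, fun e => h.ne_one (congrArg Subtype.val e)⟩⟩
  haveI := P.2.center_nontrivial
  obtain ⟨c, hc⟩ := exists_ne (1 : center P)
  have h1 : ∀ g ∈ P, g * (c : P) = (c : P) * g := fun g hg =>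
    congrArg Subtype.val (mem_center_iff.1 c.2 ⟨g, hg⟩)
  rcases h.cent _ fun u hu => h1 u (hP hu) with e | e
  · exact absurd (Subtype.ext (Subtype.ext e)) hc
  · exact ⟨P, hP h.mem, e ▸ h1⟩

theorem conj_into (h : L3 Q z) {K : Subgroup G} (hQ : Q ≤ K) {i : G} (hK : i ∈ K) (hi : i * i = 1) :
    ∃ g ∈ K, g * i * g⁻¹ * z = z * (g * i * g⁻¹) := by
  obtain ⟨P, -, hP⟩ := two_central (h.subgroupOf hQ)
  obtain ⟨P', hP'⟩ := (isPGroup_of_pow (Q := zpowers (⟨i, hK⟩ : K)) (p := 2) 1 fun y hy => by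
    rcases (mem_zpowers_iff_of_sq (Subtype.ext hi)).1 hy with rfl | rfl
    · exact one_pow _
    · rw [pow_one, pow_two]; exact Subtype.ext hi).exists_le_sylow
  obtain ⟨g, rfl⟩ := MulAction.exists_smul_eq K P' P
  exact ⟨g, g.2, congrArg Subtype.val
    (hP _ (smul_mem_pointwise_smul _ (MulAut.conj g) _ (hP' (mem_zpowers _))))⟩

variable {φ : centralizer ({z} : Set G) →* Stab vU} {cls : leechLattice → G → Prop}

theorem EtH.le_of_index (M : Et z Q φ cls) {K : Subgroup (centralizer ({z} : Set G))} (hK : K.index = 2) :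
    L1.comap φ ≤ K := by
  classical
  have hm : ∀ a b, a * b ∈ K ↔ (a ∈ K ↔ b ∈ K) := fun a b => mul_mem_iff_of_index_two hK
  haveI := normal_of_index_eq_two hK
  let ι : Q → centralizer ({z} : Set G) := fun x => ⟨x, M.le' x.2⟩
  let z0 : Q := ⟨z, M.h.mem⟩
  have zc : ∀ x : Q, x * z0 = z0 * x := fun x => Subtype.ext (M.h.central x x.2)
  have zz : z0 * z0 = 1 := Subtype.ext M.h.sq
  let f : Q →* Q := MonoidHom.mk' (fun x => if ι x ∈ K then x else x * z0) fun a b => by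
    have e := hm (ι a) (ι b)
    change ι (a * b) ∈ K ↔ _ at e
    by_cases ha : ι a ∈ K <;> by_cases hb : ι b ∈ K <;> simp only [ha, hb, iff_true, iff_false, not_true,
      not_false_iff] at e <;> simp only [ha, hb, e, if_true, if_false]
    · rw [mul_assoc]
    · rw [mul_assoc, mul_assoc, zc]
    · rw [mul_assoc, ← mul_assoc z0, ← zc, mul_assoc b, zz, mul_one]
  have hf : ∀ x, f x = if ι x ∈ K then x else x * z0 := fun _ => rfl
  obtain ⟨w, hw⟩ := M.h.toES.top.exists_conj_eq f fun x => by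
    rw [hf]; split_ifs
    exacts [Or.inl rfl, Or.inr rfl]
  have k1 : ∀ c : centralizer ({z} : Set G), (c : G) * w * (c : G)⁻¹ = w ∨
      (c : G) * w * (c : G)⁻¹ = w * z := fun c => by
    have cz := mem_cent_iff.1 c.2
    have := M.h.cent ((w : G)⁻¹ * (c * w * (c : G)⁻¹)) fun x hx => by
      have m : (c : G)⁻¹ * x * (c : G)⁻¹⁻¹ ∈ Q :=
        conj_mem_of_normalizer (M.h.norm _ (mem_cent_iff.1 (inv_mem c.2))) hx
      have a1 := congrArg Subtype.val (hw ⟨x, hx⟩)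
      have a2 := congrArg Subtype.val (hw ⟨_, m⟩)
      have a3 : ι ⟨_, m⟩ ∈ K ↔ ι ⟨x, hx⟩ ∈ K := by
        change c⁻¹ * ι ⟨x, hx⟩ * c⁻¹⁻¹ ∈ K ↔ _
        rw [(inferInstance : K.Normal).mem_comm_iff, inv_inv, mul_inv_cancel_left]
      have a4 : (w : G) * ((c : G)⁻¹ * x * c) * (w : G)⁻¹ = (c : G)⁻¹ * (w * x * (w : G)⁻¹) * c := by
        rw [hf] at a1 a2
        simp only [a3] at a2
        split_ifs at a1 a2
        · simp only [Subgroup.coe_mul, Subgroup.coe_inv, inv_inv] at a1 a2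
          rw [← a1, ← a2]
        · simp only [Subgroup.coe_mul, Subgroup.coe_inv, inv_inv, z0] at a1 a2
          rw [← a1, ← a2, mul_assoc, mul_assoc, mul_assoc, mul_assoc, cz]
      calc x * ((w : G)⁻¹ * (c * w * (c : G)⁻¹))
          = (w : G)⁻¹ * c * ((c : G)⁻¹ * (w * x * (w : G)⁻¹) * c) * w * (c : G)⁻¹ := by group
        _ = _ := by rw [← a4]; group
    rcases this with e | e
    · exact Or.inl (inv_mul_eq_one.1 e).symm
    · exact Or.inr (inv_mul_eq_iff_eq_mul.1 e)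
  obtain ⟨v, hv⟩ := M.ex_cls w w.2
  have k2 := (M.cw_zero_iff hv).1 (no_fix (M.perp hv) fun γ hγ => by
    obtain ⟨c, rfl⟩ := M.surj γ hγ
    exact ((M.eq_iff hv (M.smul c hv)).2 (k1 c)).symm)
  have k3 : ∀ x : Q, ι x ∈ K := fun x => by
    by_contra hx
    have a := hw x
    rw [hf, if_neg hx] at a
    have b : w * x * w⁻¹ = x := by
      rcases k2 with e | e
      · rw [show w = 1 from Subtype.ext e]; group
      · rw [show w = z0 from Subtype.ext e, ← zc]; group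
    rw [b, mul_eq_left] at a
    exact M.h.ne_one (congrArg Subtype.val a)
  haveI := simple_L1
  haveI := finite_L1
  have hn : ((K.map φ).subgroupOf L1).Normal := ⟨by
    rintro γ ⟨k, hk, e⟩ δ
    obtain ⟨c, hc⟩ := M.surj δ δ.2
    exact ⟨c * k * c⁻¹, (inferInstance : K.Normal).conj_mem k hk c, by
      rw [map_mul, map_mul, map_inv, hc, e]; rfl⟩⟩
  rcases hn.eq_bot_or_eq_top with e | e
  · exfalso
    haveI : Fact (Nat.Prime 3) := ⟨by norm_num⟩
    obtain ⟨γ, hγ⟩ := exists_prime_orderOf_dvd_card' (G := L1) 3 (by rw [card_L1]; norm_num)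
    obtain ⟨c, hc⟩ := M.surj γ γ.2
    have : γ ^ 2 = 1 := mem_bot.1 (e.le ⟨c * c, (hm c c).2 Iff.rfl, by rw [map_mul, hc, pow_two]; rfl⟩)
    have := orderOf_dvd_of_pow_eq_one this
    rw [hγ] at this
    norm_num at this
  · intro c hc
    obtain ⟨k, hk, e'⟩ := e.ge (mem_top (⟨φ c, hc⟩ : L1))
    have : k⁻¹ * c ∈ K := k3 ⟨_, (M.ker (k⁻¹ * c)).1 (by rw [map_mul, map_inv, e']; exact inv_mul_cancel _)⟩
    exact (K.mul_mem_cancel_left (inv_mem hk)).1 this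

/-- `K` contains `2^(1+20).U6(2)` -/
def Good (φ : centralizer ({z} : Set G) →* Stab vU) (K : Subgroup G) : Prop :=
  ∀ c : centralizer ({z} : Set G), φ c ∈ L1 → (c : G) ∈ K

theorem EtH.good_of_card (M : Et z Q φ cls) {K : Subgroup G}
    (h : 2 ^ 21 * 9196830720 ≤ Nat.card ↥(centralizer ({z} : Set G) ⊓ K)) : Good φ K := by
  have c := (K.subgroupOf (centralizer {z})).card_mul_index
  have c1 := M.card_cent_le
  have c2 : 0 < Nat.card (centralizer ({z} : Set G)) := Nat.card_pos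
  rw [← inf_subgroupOf_left, Nat.card_congr (subgroupOfEquivOfLe inf_le_left).toEquiv, inf_subgroupOf_left] at c
  have c3 : (K.subgroupOf (centralizer {z})).index ≤ 2 := by nlinarith
  have c4 : (K.subgroupOf (centralizer {z})).index ≠ 0 := index_ne_zero_of_finite
  rcases (by omega : (K.subgroupOf (centralizer {z})).index = 1 ∨ (K.subgroupOf (centralizer {z})).index = 2)
    with e | e
  · exact fun c _ => (index_eq_one.1 e).ge (mem_top c)
  · exact fun c hc => M.le_of_index e hc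

omit [Finite G] in
theorem Good.le (M : Et z Q φ cls) {K : Subgroup G} (hK : Good φ K) : Q ≤ K := fun x hx =>
  hK ⟨x, M.le' hx⟩ (by rw [(M.ker _).2 hx]; exact one_mem _)

omit [Finite G] in
theorem Good.conj (M : Et z Q φ cls) {K : Subgroup G} (hK : Good φ K) (t : centralizer ({z} : Set G)) :
    Good φ (K.map (MulAut.conj (t : G)).toMonoidHom) := fun c hc =>
  ⟨_, hK (t⁻¹ * c * t) (by rw [map_mul, map_mul, map_inv]; exact (M.fixX t).conj hc), by simp [mul_assoc]⟩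

/-- the centraliser in a subgroup -/
def res {K : Subgroup G} (hz : z ∈ K) :
    centralizer ({⟨z, hz⟩} : Set K) →* centralizer ({z} : Set G) :=
  MonoidHom.mk' (fun c => ⟨c.1.1, mem_cent_iff.2 (congrArg Subtype.val (mem_cent_iff.1 c.2))⟩) fun _ _ => rfl

omit [Finite G] in
theorem Good.res (M : Et z Q φ cls) {K : Subgroup G} (hK : Good φ K) :
    Et (⟨z, hK.le M M.h.mem⟩ : K) (Q.subgroupOf K) (φ.comp (res (hK.le M M.h.mem))) fun v x => cls v x where
  h := M.h.subgroupOf (hK.le M)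
  card := by rw [Nat.card_congr (subgroupOfEquivOfLe (hK.le M)).toEquiv, M.card]
  le := le_rfl
  le' := (M.h.subgroupOf (hK.le M)).le_centralizer
  fixX c := M.fixX _
  surj γ hγ := by
    obtain ⟨c, rfl⟩ := M.surj γ hγ
    exact ⟨⟨⟨c, hK c hγ⟩, mem_cent_iff.2 (Subtype.ext (mem_cent_iff.1 c.2))⟩, rfl⟩
  ker c := M.ker _
  mem h := M.mem h
  perp h := M.perp h
  ex_cls x hx := M.ex_cls x hx
  ex_elt v hv := by
    obtain ⟨x, hx⟩ := M.ex_elt v hv
    exact ⟨⟨x, hK.le M (M.mem hx)⟩, hx⟩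
  add h h' := M.add h h'
  eq_iff h h' := by rw [M.eq_iff h h', Subtype.ext_iff, Subtype.ext_iff]; rfl
  congr h e := M.congr h e
  mul_z h := M.mul_z h
  smul c h := M.smul (ER.res _ c) h
  sq h := by rw [← M.sq h, Subtype.ext_iff]; rfl

theorem Good.exists_mem (M : Et z Q φ cls) {K : Subgroup G} (hK : Good φ K) {k : G} (hk : k ∈ K)
    (h1 : k * z * k⁻¹ * z = z * (k * z * k⁻¹)) (h2 : k * z * k⁻¹ ≠ z) :
    ∃ h ∈ K, h * z * h⁻¹ ∈ Q ∧ h * z * h⁻¹ ≠ z := by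
  obtain ⟨f, a, b, c⟩ := (hK.res M).fus (g := ⟨k, hk⟩) (Subtype.ext h1)
  obtain ⟨l, rfl⟩ := isConj_iff.1 b
  by_cases e : (l : G) * z * (l : G)⁻¹ = z
  · refine ⟨k⁻¹, inv_mem hk, ?_, fun e' => h2 ?_⟩
    · have : k⁻¹ * (l * z * (l : G)⁻¹) * k ∈ Q := c
      rwa [e, ← inv_inv k, inv_inv k⁻¹] at this
    · calc k * z * k⁻¹ = k * (k⁻¹ * z * k⁻¹⁻¹) * k⁻¹ := by rw [e']
        _ = z := by group
  · exact ⟨l, l.2, a, e⟩

/-- conjugate to `z` in `K` -/
def Cl (z : G) (K : Subgroup G) (x : G) : Prop := ∃ k ∈ K, k * z * k⁻¹ = x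

omit [Finite G] in
theorem Cl.conj {K : Subgroup G} {x k : G} (h : Cl z K x) (hk : k ∈ K) : Cl z K (k * x * k⁻¹) := by
  obtain ⟨l, hl, rfl⟩ := h
  exact ⟨k * l, mul_mem hk hl, by group⟩

omit [Finite G] in
theorem Cl.of_conj {K : Subgroup G} {x k : G} (hk : k ∈ K) (h : Cl z K (k * x * k⁻¹)) : Cl z K x := by
  have := h.conj (inv_mem hk)
  rwa [show k⁻¹ * (k * x * k⁻¹) * k⁻¹⁻¹ = x by group] at this

theorem Good.cl_of_mem (M : Et z Q φ cls) {K : Subgroup G} (hK : Good φ K) {h : G} (hh : h ∈ K)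
    (h1 : h * z * h⁻¹ ∈ Q) (h2 : h * z * h⁻¹ ≠ z) {x : G} (hx : x ∈ Q) (hc : IsConj z x) : Cl z K x := by
  by_cases e : x = z
  · exact ⟨1, one_mem _, by rw [e]; group⟩
  obtain ⟨c, c1, hc⟩ := M.exists_frame hx hc e
  obtain ⟨d, d1, hd⟩ := M.exists_frame h1 (isConj_of_conj rfl) h2
  have k : Cl z K (d * (h * z * h⁻¹) * (d : G)⁻¹) := Cl.conj ⟨h, hh, rfl⟩ (hK d d1)
  refine Cl.of_conj (hK c c1) ?_
  rcases (M.eq_iff hd hc).1 (Cw.refl _) with a | a
  · rwa [a]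
  · have dz := mem_cent_iff.1 d.2
    obtain ⟨u, hu, b⟩ := M.h.exists_conj (M.mem hd)
      (fun k => M.h.ne_one (by simpa [mul_assoc] using congrArg (fun x => h⁻¹ * ((d : G)⁻¹ * x * d) * h) k))
      fun k => h2 (by
        calc h * z * h⁻¹ = (d : G)⁻¹ * (d * (h * z * h⁻¹) * (d : G)⁻¹) * d := by group
          _ = z := by rw [k, mul_assoc, ← dz]; group)
    rw [a, ← b]
    exact k.conj (hK.le M hu)

theorem Good.cl_of_comm (M : Et z Q φ cls) {K : Subgroup G} (hK : Good φ K) {h : G} (hh : h ∈ K)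
    (h1 : h * z * h⁻¹ ∈ Q) (h2 : h * z * h⁻¹ ≠ z) {p x : G} (hp : Cl z K p) (hc : IsConj z x)
    (e : x * p = p * x) : Cl z K x := by
  obtain ⟨k, hk, rfl⟩ := hp
  obtain ⟨g, rfl⟩ := isConj_iff.1 hc
  obtain ⟨f, a, b, c⟩ := M.fus (g := k⁻¹ * g) (by
    calc k⁻¹ * g * z * (k⁻¹ * g)⁻¹ * z = k⁻¹ * (g * z * g⁻¹ * (k * z * k⁻¹)) * k := by group
      _ = _ := by rw [e]; group)
  obtain ⟨l, hl, rfl⟩ := hK.cl_of_mem M hh h1 h2 a b
  have m := mem_map_conj.1 (M.h.mem_map_conj_of_mem (by rw [M.card]; norm_num) (g := (k⁻¹ * g)⁻¹ * l)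
    (by simpa [mul_assoc] using c))
  have := ((hK.cl_of_mem M hh h1 h2 m (isConj_iff.2 ⟨((k⁻¹ * g)⁻¹ * l)⁻¹, by group⟩)).conj hl).conj hk
  rwa [show k * (l * (((k⁻¹ * g)⁻¹ * l)⁻¹ * z * ((k⁻¹ * g)⁻¹ * l)) * l⁻¹) * k⁻¹ = g * z * g⁻¹ by group] at this

theorem Good.cl_of_mem' (M : Et z Q φ cls) {K : Subgroup G} (hK : Good φ K) {h : G} (hh : h ∈ K)
    (h1 : h * z * h⁻¹ ∈ Q) (h2 : h * z * h⁻¹ ≠ z) {x : G} (hx : x ∈ K) (hc : IsConj z x) : Cl z K x := by
  obtain ⟨g, rfl⟩ := isConj_iff.1 hc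
  obtain ⟨k, hk, e⟩ := conj_into M.h (hK.le M) hx (by rw [conj_mul, M.h.sq, mul_one, mul_inv_cancel])
  exact Cl.of_conj hk (hK.cl_of_comm M hh h1 h2 ⟨1, one_mem _, by group⟩ (hc.trans (isConj_of_conj rfl)) e)

theorem eqns_ERecTopA : True := by
  have := @eL1.eq_1
  have := @Good.eq_1.{0}
  have := @res.eq_1.{0}
  have := @Cl.eq_1.{0}
  trivial

end H21.ER
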