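import Mathlib
import Cfsg.Agent.Lib.ERec.Basic
import Cfsg.Agent.Lib.Twist.AutMat
import Cfsg.Agent.S1577
import Cfsg.Agent.S2603

/-!
The stabiliser `U6(2).S3` of the triangle `u, -x, x - u` in `Co0`.
-/

set_option autoImplicit false

namespace H21.ER

open Cfsg Subgroup H16 H95 H48.BR Pointwise

/-- the group `U6(2)` inside `Co0` -/
noncomputable abbrev L0 : Subgroup Co0 := Stab vU ⊓ Stab vX

/-- three minimal vectors with sum zero -/
def Tri3 : Set leechLattice := {vU, -vX, vX - vU}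

/-- the stabiliser of the triangle -/
noncomputable def N0 : Subgroup Co0 := MulAction.stabilizer Co0 Tri3

theorem mem_Tri3 {t : leechLattice} : t ∈ Tri3 ↔ t = vU ∨ t = -vX ∨ t = vX - vU := Iff.rfl

theorem U_mem : vU ∈ Tri3 := Or.inl rfl

theorem X_mem : -vX ∈ Tri3 := Or.inr (Or.inl rfl)

theorem XU_mem : vX - vU ∈ Tri3 := Or.inr (Or.inr rfl)

theorem mem_N0 {g : Co0} : g ∈ N0 ↔ ∀ t ∈ Tri3, g • t ∈ Tri3 :=
  MulAction.mem_stabilizer_set' (Set.toFinite {vU, -vX, vX - vU})

theorem fix_Tri3 {g : Co0} (hg : g ∈ L0) {t : leechLattice} (ht : t ∈ Tri3) : g • t = t := by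
  have a : g • vU = vU := hg.1
  have b : g • vX = vX := hg.2
  rcases ht with rfl | rfl | rfl
  · exact a
  · rw [smul_neg, b]
  · rw [smul_sub, a, b]

theorem L0_le : L0 ≤ N0 := fun _ hg => mem_N0.2 fun _ ht => (fix_Tri3 hg ht).symm ▸ ht

theorem conj_L0 {n g : Co0} (hn : n ∈ N0) (hg : g ∈ L0) : n * g * n⁻¹ ∈ L0 := by
  have k : ∀ t ∈ Tri3, (n * g * n⁻¹) • t = t := fun t ht => by
    rw [mul_smul, mul_smul, fix_Tri3 hg (mem_N0.1 (inv_mem hn) t ht), smul_inv_smul]
  exact ⟨k _ U_mem, neg_injective ((smul_neg _ _).symm.trans (k _ X_mem))⟩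

theorem N0_le : N0 ≤ normalizer (L0 : Set Co0) := fun n hn => mem_normalizer_iff.2 fun g =>
  ⟨conj_L0 hn, fun h => by simpa [mul_assoc] using conj_L0 (inv_mem hn) h⟩

theorem norm_XU : sqNorm ((vX - vU : leechLattice) : GolayPt → ℤ) = 32 := by
  rw [sub_eq_add_neg, AddSubgroup.coe_add, AddSubgroup.coe_neg, sqNorm_add, sqNorm_neg, dotInt_neg_right,
    dotInt_comm, dot_UX, norm_U, norm_X]
  norm_num

theorem min_Tri3 {t : leechLattice} (ht : t ∈ Tri3) : t ∈ H16.Min := by
  rcases ht with rfl | rfl | rfl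
  exacts [norm_U, neg_mem_Min norm_X, norm_XU]

theorem third {a b : leechLattice} (ha : a ∈ Tri3) (hb : b ∈ Tri3) (h : a ≠ b) : -(a + b) ∈ Tri3 := by
  rcases ha with rfl | rfl | rfl <;> rcases hb with rfl | rfl | rfl <;> first
    | exact absurd rfl h
    | (refine Or.inl ?_; abel1)
    | (refine Or.inr (Or.inl ?_); abel1)
    | (refine mem_Tri3.2 (Or.inr (Or.inr ?_)); abel1)

theorem dot_Tri3 {a b : leechLattice} (ha : a ∈ Tri3) (hb : b ∈ Tri3) (h : a ≠ b) :
    dotInt (a : GolayPt → ℤ) (b : GolayPt → ℤ) = -16 := by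
  have e := mem_Min.1 (min_Tri3 (third ha hb h))
  rw [AddSubgroup.coe_neg, sqNorm_neg, AddSubgroup.coe_add, sqNorm_add, mem_Min.1 (min_Tri3 ha),
    mem_Min.1 (min_Tri3 hb)] at e
  omega

theorem ne_UX : vU ≠ -vX := fun e => by
  have := dot_UX
  rw [e, AddSubgroup.coe_neg, H16.dotInt_neg_left, dotInt_self, norm_X] at this
  omega

theorem ne_XU : vX - vU ≠ vU := fun e => by
  have := dot_UX
  rw [sub_eq_iff_eq_add.1 e, AddSubgroup.coe_add, dotInt_add_right, dotInt_self, norm_U] at this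
  omega

theorem ne_XX : vX - vU ≠ -vX := fun e => by
  have := dot_UX
  rw [show vU = vX + vX by rw [← sub_neg_eq_add, ← e]; abel, AddSubgroup.coe_add, H16.dotInt_add_left,
    dotInt_self, norm_X] at this
  omega

theorem tri_trans {a b : leechLattice} (ha : a ∈ Tri3) (hb : b ∈ Tri3) (h : a ≠ b) :
    ∃ g ∈ N0, g • vU = a ∧ g • (-vX) = b := by
  obtain ⟨g, e1, e2⟩ := pair_trans norm_U (min_Tri3 X_mem) (min_Tri3 ha) (min_Tri3 hb)
    ((dot_Tri3 U_mem X_mem ne_UX).trans (dot_Tri3 ha hb h).symm)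
  refine ⟨g, mem_N0.2 ?_, e1, e2⟩
  rintro t (rfl | rfl | rfl)
  · rwa [e1]
  · rwa [e2]
  · rw [show vX - vU = -(vU + -vX) by abel, smul_neg, smul_add, e1, e2]
    exact third ha hb h

theorem exists_to_U {p : leechLattice} (hp : p ∈ Tri3) : ∃ k ∈ N0, k • vU = p := by
  by_cases e : p = vU
  · exact ⟨1, one_mem _, by rw [e, one_smul]⟩
  · obtain ⟨g, hg, e1, -⟩ := tri_trans hp U_mem e
    exact ⟨g, hg, e1⟩

theorem exists_fix {n : Co0} (hn : n ∈ N0) (h : n * n ∈ L0) : ∃ p ∈ Tri3, n • p = p := by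
  by_cases e : n • vU = vU
  · exact ⟨_, U_mem, e⟩
  · refine ⟨_, third (mem_N0.1 hn _ U_mem) U_mem e, ?_⟩
    rw [smul_neg, smul_add, ← mul_smul, fix_Tri3 h U_mem, add_comm]

theorem sw_of {g : Stab vU} (hg : (g : Co0) ∈ N0) : Sw g := by
  rcases mem_N0.1 hg _ X_mem with e | e | e
  · exact absurd (smul_left_cancel (g : Co0) ((fixU g).trans e.symm)) ne_UX
  · exact Or.inl (neg_injective ((smul_neg _ _).symm.trans e))
  · exact Or.inr (neg_injective ((smul_neg _ _).symm.trans (e.trans (neg_sub _ _).symm)))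

theorem card_N0 [Finite N0] : 6 * Nat.card L0 ≤ Nat.card N0 := by
  classical
  have c := (MulAction.stabilizer N0 (vU, -vX)).card_mul_index
  have e : MulAction.stabilizer N0 (vU, -vX) = L0.subgroupOf N0 := Subgroup.ext fun g => by
    rw [MulAction.mem_stabilizer_iff, Prod.ext_iff]
    exact and_congr Iff.rfl ⟨fun a => neg_injective ((smul_neg _ _).symm.trans a),
      fun a => (smul_neg _ _).trans (congrArg _ a)⟩
  have k : (({vU, -vX, vX - vU} : Finset leechLattice).offDiag : Set (leechLattice × leechLattice)).ncard ≤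
      (MulAction.orbit N0 (vU, -vX)).ncard := Set.ncard_le_ncard (fun p hp => by
    obtain ⟨a, b, d⟩ := Finset.mem_offDiag.1 hp
    obtain ⟨g, hg, e1, e2⟩ := tri_trans (a := p.1) (b := p.2) (by simpa [mem_Tri3] using a)
      (by simpa [mem_Tri3] using b) d
    exact ⟨⟨g, hg⟩, Prod.ext e1 e2⟩) (Set.finite_range _)
  rw [Set.ncard_coe_finset, Finset.offDiag_card,
    Finset.card_eq_three.2 ⟨_, _, _, ne_UX, ne_XU.symm, ne_XX.symm, rfl⟩, ← MulAction.index_stabilizer] at k
  rw [← c, mul_comm, ← Nat.card_congr (subgroupOfEquivOfLe L0_le).toEquiv, ← e]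
  exact Nat.mul_le_mul_left _ k

theorem simple_L0 : IsSimpleGroup L0 := by
  obtain ⟨e⟩ := Cfsg.Agent.S1577.base
  have : H11.U.IsSq H30.F4 2 := ⟨rfl⟩
  have : IsSimpleGroup (PSU 6 H30.F4 2) := H11.U.isSimpleGroup_PSU (by omega) (by omega)
  exact e.isSimpleGroup

theorem finite_L0 : Finite L0 := Nat.finite_of_card_ne_zero (by rw [card_U62]; norm_num)

theorem center_L0 : center L0 = ⊥ := by
  haveI := simple_L0
  haveI := finite_L0
  refine (inferInstance : (center L0).Normal).eq_bot_or_eq_top.resolve_right fun c => ?_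
  let _ : CommGroup L0 := { (inferInstance : Group L0) with
    mul_comm := fun a b => (mem_center_iff.1 (c ▸ mem_top b) a) }
  have := IsSimpleGroup.prime_card (α := L0)
  rw [card_U62] at this
  norm_num at this

theorem card_aut : Nat.card (MulAut L0) = 6 * Nat.card L0 := by
  obtain ⟨e⟩ := Cfsg.Agent.S1577.base
  obtain ⟨f, s, -, k⟩ := Cfsg.Agent.S2603.result (K := H30.F4) (p := 2) (f := 1) (q := 2) (n := 6) le_rfl rfl rfl
    (by norm_num) (by norm_num)
  have c := f.ker.card_mul_index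
  rw [index_ker, MonoidHom.range_eq_top.2 s, card_top, k, Nat.card_congr Multiplicative.toAdd, Nat.card_zmod,
    ← H39.card_out_congr e] at c
  rw [card_eq_card_quotient_mul_card_subgroup (Inn L0), ← c]
  congr 1
  refine (Nat.card_congr (MonoidHom.ofInjective ((injective_iff_map_eq_one _).2 fun a ha => ?_)).toEquiv).symm
  exact mem_bot.1 (center_L0 ▸ mem_center_iff.2 fun g => (mul_inv_eq_iff_eq_mul.1 (DFunLike.congr_fun ha g)).symm)

theorem pq_iff {v : leechLattice} :
    Pq v ↔ ∀ t ∈ Tri3, (16 : ℤ) ∣ dotInt (v : GolayPt → ℤ) (t : GolayPt → ℤ) := by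
  refine ⟨fun h => ?_, fun h => ⟨h _ U_mem, ?_⟩⟩
  · rintro t (rfl | rfl | rfl)
    · exact h.1
    · rw [AddSubgroup.coe_neg, dotInt_neg_right]; exact h.2.neg_right
    · rw [AddSubgroup.coe_sub, dotInt_sub_right]; exact dvd_sub h.2 h.1
  · have := h _ X_mem
    rwa [AddSubgroup.coe_neg, dotInt_neg_right, dvd_neg] at this

theorem Pq.smul0 {v : leechLattice} (h : Pq v) {n : Co0} (hn : n ∈ N0) : Pq (n • v) :=
  pq_iff.2 fun t ht => by
    rw [dotInt_co0_left]
    exact pq_iff.1 h _ (mem_N0.1 (inv_mem hn) t ht)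

theorem cw_Tri3 {t : leechLattice} (ht : t ∈ Tri3) : Cw 0 t := by
  have a := cw_add_U 0
  have b := cw_add_X 0
  rw [zero_add] at a b
  rcases ht with rfl | rfl | rfl
  · exact a
  · exact b.trans (cw_neg _)
  · simpa [sub_eq_add_neg] using b.add (a.trans (cw_neg _))

theorem Cw.smul0 {v w : leechLattice} (h : Cw v w) {n : Co0} (hn : n ∈ N0) : Cw (n • v) (n • w) := by
  have a := cw_Tri3 (mem_N0.1 hn _ U_mem)
  have b : Cw 0 (n • vX) := by simpa using (cw_Tri3 (mem_N0.1 hn _ X_mem)).trans (cw_neg _)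
  have k : ∀ t, Cw 0 (n • t) → Cg (v + t) w → Cw (n • v) (n • w) := fun t e f => by
    have := (Cw.refl (n • v)).add e
    rw [add_zero, ← smul_add] at this
    exact this.trans (Cw.of_cg (f.smul n))
  rcases cw_iff.1 h with e | e | e | e
  · exact Cw.of_cg (e.smul n)
  · exact k _ a e
  · exact k _ b e
  · exact k (vX + vU) (by simpa using b.add a) (add_assoc v _ _ ▸ e)

theorem cg_min {v w : leechLattice} (h : Cw v w) (hv : v ∈ H16.Min) (hw : w ∈ H16.Min)
    (hU : dotInt (v : GolayPt → ℤ) (vU : GolayPt → ℤ) = 0)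
    (hX : dotInt (v : GolayPt → ℤ) (vX : GolayPt → ℤ) = 0) : Cg v w := by
  have k : ∀ t ∈ Tri3, ¬ Cg (v + t) w := fun t ht e => by
    have d : dotInt (v : GolayPt → ℤ) (t : GolayPt → ℤ) = 0 := by
      rcases ht with rfl | rfl | rfl
      · exact hU
      · rw [AddSubgroup.coe_neg, dotInt_neg_right, hX, neg_zero]
      · rw [AddSubgroup.coe_sub, dotInt_sub_right, hU, hX, sub_zero]
    have n : sqNorm ((v + t : leechLattice) : GolayPt → ℤ) = 64 := by
      rw [AddSubgroup.coe_add, sqNorm_add, d, mem_Min.1 hv, mem_Min.1 (min_Tri3 ht)]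
      norm_num
    have := e.norm_eq n.le (by rw [mem_Min.1 hw]; norm_num)
    rw [n, mem_Min.1 hw] at this
    omega
  rcases cw_iff.1 h with e | e | e | e
  · exact e
  · exact absurd e (k _ U_mem)
  · exact absurd (((Cg.refl v).add (cg_neg vX).symm).trans e) (k _ X_mem)
  · exact absurd (Cg.trans (Cg.symm (cg_iff.2 ⟨vU, by abel⟩)) e) (k _ XU_mem)

theorem cg_sum {g : Co0} (h : ∀ v, Pq v → Cw v (g • v)) {a : leechLattice} {c : ℕ} (ha : Code c a)
    (y p q r : ℕ) (k : isV y = true ∧ (∀ t ∈ [p, q, r], isV t = true ∧ dotC t t = 32 ∧ dotC t UC = 0 ∧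
      dotC t XC = 0) ∧ ∀ i, vec c i = vec p i + vec q i + vec r i + (vec y i + vec y i)) : Cg a (g • a) := by
  have m : ∀ t ∈ [p, q, r], Cg (lv t) (g • lv t) := fun t ht => by
    obtain ⟨a1, a2, a3, a4⟩ := k.2.1 t ht
    have b := code_lv a1
    have b3 := (b.dot code_U).trans a3
    have b4 := (b.dot code_X).trans a4
    exact cg_min (h _ ⟨show (16 : ℤ) ∣ _ from b3 ▸ dvd_zero _, b4 ▸ dvd_zero _⟩) (b.norm.trans a2)
      (smul_mem_Min g (b.norm.trans a2)) b3 b4
  have e : Cg a (lv p + lv q + lv r) := cg_iff.2 ⟨lv y, Subtype.ext (by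
    simp only [AddSubgroup.coe_add]
    rw [← ha.2, ← (code_lv k.1).2, ← (code_lv (k.2.1 p (by simp)).1).2, ← (code_lv (k.2.1 q (by simp)).1).2,
      ← (code_lv (k.2.1 r (by simp)).1).2]
    exact funext k.2.2)⟩
  refine e.trans (Cg.trans ?_ (e.symm.smul g))
  rw [smul_add, smul_add]
  exact ((m p (by simp)).add (m q (by simp))).add (m r (by simp))

theorem eq_of_cg {a b : leechLattice} (ha : a ∈ Tri3) (hb : b ∈ Tri3) (h : Cg a b) : a = b := by
  by_contra e
  have d := dot_Tri3 ha hb e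
  have n := mem_Min.1 (min_Tri3 hb)
  rcases h.short (by rw [mem_Min.1 (min_Tri3 ha)]; norm_num) (by omega) with f | f | f
  · exact e f
  · rw [f, AddSubgroup.coe_neg, H16.dotInt_neg_left, dotInt_self] at d
    omega
  · omega

theorem mem_L0_of {g : Co0} (hg : g ∈ N0) (h : ∀ v, Pq v → Cw v (g • v)) : g ∈ L0 := by
  have a := cg_sum h code_U
    0x120010000e00100010001000100010001000100010001000100010000e000e001000100010000e000e000e00100012
    0x1000100010001000100010001000100010001000100010001000100010001000100010001000100014001400100010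
    0x1000100010001000100010001000100010001000100010001000100010001400100010001000140010001000100010
    0x1000100014001000100010001000100010001000100010001000100014001000100010001000100010001000100010
    (by decide +kernel)
  have b := cg_sum h code_X
    0x120010001000100010000e00100010000e00100010001000100010001000100010000e0010000e000e000e00120010
    0x1000100010001000100010001000100010001000100010001000100010001000100010001000100014001400100010
    0x1000100010001000100010001000100010001000100010001000100010001000100014001000140010001000100010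
    0x1000100010001000100014001000100014001000100010001000100010001000100010001000100010001000100010
    (by decide +kernel)
  refine ⟨(eq_of_cg U_mem (mem_N0.1 hg _ U_mem) a).symm, neg_injective ((smul_neg _ _).symm.trans
    (eq_of_cg X_mem (mem_N0.1 hg _ X_mem) ?_).symm)⟩
  exact (cg_neg vX).symm.trans (b.trans ((cg_neg vX).smul g))

theorem eqns_ERecExtA : True := by
  have := @Tri3.eq_1
  have := @N0.eq_1
  trivial

end H21.ER
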