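import Mathlib
import Cfsg.Agent.Lib.ERec.ExtA
import Cfsg.Agent.Lib.ERec.Mod

/-!
Extension of the elementwise hypothesis from a subgroup of index two to the whole centraliser.
-/

set_option autoImplicit false

namespace H21.ER

open Cfsg Subgroup H16 H95 H48.BR

variable {G : Type*} [Group G] {z : G} {Q H : Subgroup G} {φ : H →* Stab vU} {cls : leechLattice → G → Prop}

theorem EtH.tw (M : EtH z Q H φ cls) {n : Co0} (hn : n ∈ N0) {c : G} (hc : c * z = z * c) {K : Subgroup G}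
    {ψ : K →* Stab vU} (le : K ≤ centralizer {z}) (le' : Q ≤ K) (fx : ∀ k, Sw (ψ k))
    (sj : ∀ γ : Stab vU, (γ : Co0) • vX = vX → ∃ k, ψ k = γ) (ker : ∀ k, ψ k = 1 ↔ (k : G) ∈ Q)
    (sm : ∀ {v x} (k : K), cls (n • v) (c * x * c⁻¹) →
      cls (n • (ψ k : Co0) • v) (c * (k * x * (k : G)⁻¹) * c⁻¹)) :
    EtH z Q K ψ fun v x => cls (n • v) (c * x * c⁻¹) := by
  have e1 : ∀ x y, c * (x * y) * c⁻¹ = c * x * c⁻¹ * (c * y * c⁻¹) := fun x y => by group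
  have e2 : ∀ x, c * (x * z) * c⁻¹ = c * x * c⁻¹ * z := fun x => by rw [e1, hc, mul_inv_cancel_right]
  have e3 : ∀ x y, c * x * c⁻¹ = c * y * c⁻¹ ↔ x = y := fun x y => by rw [mul_left_inj, mul_right_inj]
  have nm := mem_normalizer_iff.1 (M.h.norm c hc)
  refine ⟨M.h, M.card, le, le', fx, sj, ker, fun a => (nm _).2 (M.mem a), fun a => ?_, fun x hx => ?_,
    fun v hv => ?_, fun a b => ?_, fun a b => ?_, fun a b => M.congr a (b.smul0 hn), fun a => ?_, sm, fun a => ?_⟩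
  · simpa using (M.perp a).smul0 (inv_mem hn)
  · obtain ⟨w, hw⟩ := M.ex_cls _ ((nm x).1 hx)
    exact ⟨n⁻¹ • w, by rwa [smul_inv_smul]⟩
  · obtain ⟨y, hy⟩ := M.ex_elt _ (hv.smul0 hn)
    exact ⟨c⁻¹ * y * c, by simpa [mul_assoc] using hy⟩
  · rw [smul_add, e1]; exact M.add a b
  · rw [← e3 _ _, ← e3 _ (_ * z), e2, ← M.eq_iff a b]
    exact ⟨fun h => h.smul0 hn, fun h => by simpa using h.smul0 (inv_mem hn)⟩
  · rw [e2]; exact M.mul_z a
  · rw [← e3, e1, mul_one, mul_inv_cancel, M.sq a, sqNorm_co0]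

variable [Finite G]

theorem EtH.smul0 (M : EtH z Q H φ cls) {n : Co0} (hn : n ∈ N0) {c : G} (hc : c * z = z * c)
    (R : ∀ h : H, ∃ k : H, (k : G) = c * h * c⁻¹ ∧ (φ k : Co0) = n * φ h * n⁻¹) {v : leechLattice} {x : G}
    (h : cls v x) : cls (n • v) (c * x * c⁻¹) :=
  M.rigid (M.tw hn hc M.le M.le' M.fixX M.surj M.ker fun {v x} k a => by
    obtain ⟨l, e1, e2⟩ := R k
    have := M.smul l a
    rw [e1, e2, mul_smul, mul_smul, inv_smul_smul] at this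
    rwa [show c * (k * x * (k : G)⁻¹) * c⁻¹ = c * k * c⁻¹ * (c * x * c⁻¹) * (c * k * c⁻¹)⁻¹ by group]) h

theorem EtH.eq_one (M : EtH z Q H φ cls) (hX : ∀ c, (φ c : Co0) • vX = vX) {n : Co0} (hn : n ∈ N0)
    (h : ∀ g ∈ L0, n * g * n⁻¹ = g) : n = 1 := by
  have m : n ∈ L0 := mem_L0_of hn fun v hv => by
    obtain ⟨x, hx⟩ := M.ex_elt v hv
    refine (M.eq_iff hx (M.smul0 hn (c := 1) (by simp)
      (fun k => ⟨k, by simp, (h _ ⟨(φ k).2, hX k⟩).symm⟩) hx)).2 (Or.inl (by simp))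
  exact congrArg Subtype.val (mem_bot.1 (center_L0 ▸ mem_center_iff.2 fun g : L0 =>
    Subtype.ext (mul_inv_eq_iff_eq_mul.1 (h g g.2)).symm) : (⟨n, m⟩ : L0) = 1)

theorem EtH.exists_N0 (M : EtH z Q H φ cls) (hX : ∀ c, (φ c : Co0) • vX = vX) (α : MulAut L0) :
    ∃ n ∈ N0, ∀ g : L0, (α g : Co0) = n * g * n⁻¹ := by
  haveI := finite_L0
  let θ := L0.normalizerMonoidHom.comp (inclusion N0_le)
  have i : Function.Injective θ := (injective_iff_map_eq_one θ).2 fun n hn => Subtype.ext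
    (M.eq_one hX n.2 fun g hg => congrArg Subtype.val (DFunLike.congr_fun hn (⟨g, hg⟩ : L0)))
  haveI := Finite.of_injective _ i
  obtain ⟨n, rfl⟩ := (i.bijective_of_nat_card_le (card_aut.le.trans card_N0)).2 α
  exact ⟨n, n.2, fun _ => rfl⟩

theorem EtH.exists_act (M : EtH z Q H φ cls) (hX : ∀ c, (φ c : Co0) • vX = vX) {c : G} (hc : c * z = z * c)
    (hH : ∀ h : H, c * h * c⁻¹ ∈ H) : ∃ n ∈ N0, ∀ h : H, (φ ⟨_, hH h⟩ : Co0) = n * φ h * n⁻¹ := by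
  haveI := finite_L0
  let ψ : H →* L0 := ((Stab vU).subtype.comp φ).codRestrict _ fun c => ⟨(φ c).2, hX c⟩
  have hψ : Function.Surjective ψ := fun g => by
    obtain ⟨c, e⟩ := M.surj ⟨g, g.2.1⟩ g.2.2
    exact ⟨c, Subtype.ext (congrArg Subtype.val e :)⟩
  have hk : ∀ c, ψ c = 1 ↔ (c : G) ∈ Q := fun c =>
    ((Subtype.ext_iff (a1 := ψ c) (a2 := 1)).trans
      (Subtype.ext_iff (a1 := φ c) (a2 := 1)).symm).trans (M.ker c)
  let κ : H →* H := ((MulAut.conj c).toMonoidHom.comp H.subtype).codRestrict _ hH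
  have nm : ∀ h, ψ (κ h) = 1 ↔ ψ h = 1 := fun h =>
    (hk _).trans ((mem_normalizer_iff.1 (M.h.norm c hc) h).symm.trans (hk h).symm)
  let β := ψ.liftOfSurjective hψ ⟨ψ.comp κ, fun h e => (nm h).2 e⟩
  have hβ : ∀ h, β (ψ h) = ψ (κ h) := fun h => MonoidHom.liftOfRightInverse_comp_apply _ _ _ _ h
  have i : Function.Injective β := (injective_iff_map_eq_one β).2 fun g e => by
    obtain ⟨h, rfl⟩ := hψ g
    exact (nm h).1 ((hβ h).symm.trans e)
  obtain ⟨n, hn, e⟩ := M.exists_N0 hX (MulEquiv.ofBijective β ⟨i, Finite.surjective_of_injective i⟩)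
  exact ⟨n, hn, fun h => (congrArg Subtype.val (hβ h)).symm.trans (e (ψ h))⟩

theorem EtH.ext (M : EtH z Q H φ cls) (hX : ∀ c, (φ c : Co0) • vX = vX)
    (hi : H.relIndex (centralizer {z}) = 2) :
    ∃ (φ' : centralizer ({z} : Set G) →* Stab vU) (cls' : leechLattice → G → Prop), Et z Q φ' cls' := by
  have hm : ∀ a b : centralizer ({z} : Set G), (a : G) * b ∈ H ↔ ((a : G) ∈ H ↔ (b : G) ∈ H) :=
    fun a b => mul_mem_iff_of_index_two hi
  have hH : ∀ (c : centralizer ({z} : Set G)) (h : H), (c : G) * h * (c : G)⁻¹ ∈ H := fun c h =>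
    (normal_of_index_eq_two hi).conj_mem ⟨h, M.le h.2⟩ h.2 c
  choose f hf R using fun c : centralizer ({z} : Set G) => M.exists_act hX (mem_cent_iff.1 c.2) (hH c)
  have U : ∀ c, ∀ n ∈ N0, (∀ h : H, (φ ⟨_, hH c h⟩ : Co0) = n * φ h * n⁻¹) → f c = n := fun c n hn e => by
    refine (inv_mul_eq_one.1 (M.eq_one hX (mul_mem (inv_mem hn) (hf c)) fun g hg => ?_)).symm
    obtain ⟨h, eh⟩ := M.surj ⟨g, hg.1⟩ hg.2
    have a := (R c h).symm.trans (e h)
    rw [eh] at a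
    calc n⁻¹ * f c * g * (n⁻¹ * f c)⁻¹ = n⁻¹ * (f c * g * (f c)⁻¹) * n := by group
      _ = g := by rw [a]; group
  let F := MonoidHom.mk' f fun a b => U _ _ (mul_mem (hf a) (hf b)) fun h => by
    have := R a ⟨_, hH b h⟩
    rw [R b h] at this
    rw [show f a * f b * φ h * (f a * f b)⁻¹ = f a * (f b * φ h * (f b)⁻¹) * (f a)⁻¹ by group, ← this]
    exact congrArg (fun t => (φ t : Co0)) (Subtype.ext (by simp [mul_assoc]))
  have FH : ∀ (c : centralizer ({z} : Set G)) (h : (c : G) ∈ H), F c = φ ⟨c, h⟩ := fun c h =>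
    U _ _ (L0_le ⟨(φ _).2, hX _⟩) fun k => congrArg Subtype.val
      (show φ (⟨c, h⟩ * k * (⟨c, h⟩ : H)⁻¹) = φ ⟨c, h⟩ * φ k * (φ ⟨c, h⟩)⁻¹ by rw [map_mul, map_mul, map_inv])
  have FL : ∀ c : centralizer ({z} : Set G), (c : G) ∈ H → F c ∈ L0 := fun c h => FH c h ▸ ⟨(φ _).2, hX _⟩
  have sm : ∀ (c : centralizer ({z} : Set G)) {v x}, cls v x → cls (F c • v) (c * x * (c : G)⁻¹) :=
    fun c _ _ a => M.smul0 (hf c) (mem_cent_iff.1 c.2) (fun h => ⟨_, rfl, R c h⟩) a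
  obtain ⟨p, hp, fp⟩ : ∃ p ∈ Tri3, ∀ c, F c • p = p := by
    by_cases e : ∀ c : centralizer ({z} : Set G), (c : G) ∈ H
    · exact ⟨_, U_mem, fun c => (FL c (e c)).1⟩
    obtain ⟨t, ht⟩ := not_forall.1 e
    obtain ⟨p, hp, a⟩ := exists_fix (hf t) (map_mul F t t ▸ FL _ ((hm t t).2 Iff.rfl))
    refine ⟨p, hp, fun c => ?_⟩
    by_cases d : (c : G) ∈ H
    · exact fix_Tri3 (FL c d) hp
    · have := fix_Tri3 (FL (t⁻¹ * c) ((hm _ _).2 (iff_of_false (fun b => ht (inv_mem_iff.1 b)) d))) hp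
      rw [map_mul, map_inv, mul_smul, inv_smul_eq_iff] at this
      exact this.trans a
  obtain ⟨k, hk, rfl⟩ := exists_to_U hp
  let ψ : centralizer ({z} : Set G) →* Stab vU := ((MulAut.conj k⁻¹).toMonoidHom.comp F).codRestrict _ fun c => by
    change (k⁻¹ * F c * k⁻¹⁻¹) • vU = vU
    rw [inv_inv, mul_smul, mul_smul, fp, inv_smul_smul]
  have hψ : ∀ c, (ψ c : Co0) = k⁻¹ * F c * k⁻¹⁻¹ := fun _ => rfl
  refine ⟨ψ, _, M.tw hk (c := 1) (by simp) le_rfl (M.le'.trans M.le)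
    (fun c => sw_of (mul_mem (mul_mem (inv_mem hk) (hf c)) (inv_mem (inv_mem hk)))) (fun γ hγ => ?_)
    (fun c => ⟨fun e => M.h.mem_of_trivial fun x hx => ?_, fun e => Subtype.ext ?_⟩) fun c a => ?_⟩
  · have m := conj_L0 hk (g := γ) ⟨γ.2, hγ⟩
    obtain ⟨h, e⟩ := M.surj ⟨_, m.1⟩ m.2
    refine ⟨⟨h, M.le h.2⟩, Subtype.ext ?_⟩
    rw [hψ, FH _ h.2, e]
    simp [mul_assoc]
  · obtain ⟨v, hv⟩ := M.ex_cls x hx
    have a := sm c hv
    rw [conj_eq_one_iff.1 ((hψ c).symm.trans (congrArg Subtype.val e)), one_smul] at a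
    exact (M.eq_iff hv a).1 (Cw.refl v)
  · rw [hψ, FH c (M.le' e), (M.ker _).2 e]
    simp
  · have := sm c a
    rw [hψ, inv_inv, mul_smul, mul_smul, smul_inv_smul]
    simpa using this

end H21.ER
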