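import Cfsg.Agent.Lib.ERec.Sys

/-! The frame of a group of type 2E6(2) (helper48). -/

set_option autoImplicit false

namespace H48.ER

open Cfsg H54 H16 Subgroup H77.YM H21.ER
open H95 hiding zp zp_zero zp_one zp_add zp_inj zp_comm

variable {G : Type*} [Group G] [Finite G] {z : G} {Q : Subgroup G} {φ : centralizer ({z} : Set G) →* Stab vU}
  {cls : leechLattice → G → Prop}

theorem exists_fr (M : H21.ER.Et z Q φ cls) {s : G} (hc : IsConj z s) (hne : s ≠ z)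
    (h1 : ∃ c : centralizer ({z} : Set G), cls (e8 none) (c * s * (c : G)⁻¹))
    (h2 : ∀ {Q' : Subgroup G} {s : G}, Pair Q Q' z s → Nat.card Q' = 2 ^ 21 → cls (e8 none) s → ∀ γ : Stab vU,
      (∃ b : centralizer ({z} : Set G), (b : G) ∈ Q' ∧ φ b = γ) ↔ (γ : Co0) ∈ epsGroup ∧ (γ : Co0) • vX = vX) :
    ∃ q, Fr z Q cls q := by
  have : ∀ i, ∃ x, i < 20 → cls (lv (nth BV i)) x := fun i => by
    by_cases hi : i < 20
    · obtain ⟨x, hx⟩ := M.ex_elt (lv (nth BV i)) ⟨by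
        unfold H48.BR.Pp
        rw [(code_lv (bv_spec hi).1).dot code_U]
        exact Int.dvd_of_emod_eq_zero (bv_spec hi).2.2.2.1, by
        rw [(code_lv (bv_spec hi).1).dot code_X]
        exact Int.dvd_of_emod_eq_zero (bv_spec hi).2.2.2.2.1⟩
      exact ⟨x, fun _ => hx⟩
    · exact ⟨1, fun h => absurd h hi⟩
  choose q hq using this
  have B : Bas z q := ⟨M.h.sq, M.h.ne_one, fun i hi => M.h.central _ (M.mem (hq i hi)), fun i hi => by
    rw [M.sq (hq i hi), (code_lv (bv_spec hi).1).norm]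
    exact Int.dvd_of_emod_eq_zero (bv_spec hi).2.1, fun i hi j hj => by
    have h1 := M.commute_iff (hq i hi) (hq j hj)
    rw [(code_lv (bv_spec hi).1).dot (code_lv (bv_spec hj).1)] at h1
    have h2 := (bv_spec hi).2.2.2.2.2 j hj
    unfold Bf
    split_ifs at h2 ⊢
    · exact (M.h.comm _ (M.mem (hq i hi)) _ (M.mem (hq j hj))).resolve_left fun c => by have := h1.1 c; omega
    · rw [zp_zero, mul_one]; exact h1.2 (by omega)⟩
  obtain ⟨c, h⟩ := h1
  have ne : ∀ {w}, cls (e8 none) w → w ≠ 1 ∧ w ≠ z := fun hw => by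
    rw [← not_or, ← M.cw_zero_iff hw, M.cw_zero_iff h]
    rintro (k | k)
    · rw [conj_eq_one_iff] at k
      rw [k, isConj_one_left] at hc
      exact M.h.ne_one hc
    · refine hne ?_
      calc s = (c : G)⁻¹ * (c * s * (c : G)⁻¹) * c := by group
        _ = z := by rw [k, mul_assoc, ← mem_cent_iff.1 c.2, inv_mul_cancel_left]
  have cj : ∀ {w}, cls (e8 none) w → IsConj z w := fun hw => by
    obtain ⟨d, -, e1⟩ := M.exists_conj h hw (γ := 1) (by rw [M.cw_zero_iff hw, not_or]; exact ne hw)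
      (one_smul _ _) (by simpa using Cw.refl _)
    exact (hc.trans (isConj_iff.2 ⟨_, rfl⟩)).trans (isConj_iff.2 ⟨_, e1⟩)
  have im : ∀ {w}, cls (e8 none) w → ∀ γ : Stab vU, (∃ b : centralizer ({z} : Set G), (b : G) ∈ QW Q z w ∧ φ b = γ) ↔
      (γ : Co0) ∈ epsGroup ∧ (γ : Co0) • vX = vX := fun hw => by
    obtain ⟨g, rfl⟩ := isConj_iff.1 (cj hw)
    rw [QW_eq M.h]
    exact h2 (M.pair (M.mem hw) (ne hw).2) (M.card_conj g) hw
  have ind : ∀ b : centralizer ({z} : Set G), Ind z cls (φ b) b := fun b =>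
    ⟨mem_cent_iff.1 b.2, fun _ _ => M.smul b⟩
  refine ⟨q, M.h, M.card, B, M.mem, M.cls_zero, M.add, M.eq_iff, M.congr, M.mul_z, fun γ hγ => ?_, hq, cj,
    fun {w b} hw hb hz => ?_, fun {w γ} hw hγ hU => ?_⟩
  · obtain ⟨b, hb⟩ := M.surj ⟨γ, hγ.1⟩ hγ.2
    exact ⟨b, by simpa [hb] using ind b⟩
  · have := (im hw _).1 ⟨⟨b, mem_cent_iff.2 hz⟩, hb, rfl⟩
    exact ⟨_, this.1, ⟨fixU _, this.2⟩, ind _⟩
  · obtain ⟨b, hb, e⟩ := (im hw ⟨γ, hU.1⟩).2 ⟨hγ, hU.2⟩
    exact ⟨b, hb, by simpa [e] using ind b⟩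

end H48.ER
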