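import Cfsg.Agent.Lib.ERec.TcA
import Cfsg.Agent.Lib.CosetEnum.Hur
import Cfsg.Agent.Lib.YB.K0

/-!
# The Coxeter diagram Y333 (helper48)

Letters d1 c1 b1 a b2 c2 d2 - b3 c3 d3 = 0, …, 10.
-/

set_option autoImplicit false
set_option maxRecDepth 100000

namespace H48.ER

open Cfsg H54 H94 H7 H18.TC MulAction

universe u

/-- the Coxeter relators of E7 on d1 c1 b1 a b2 c2 b3 -/
def RE : List (List ℕ) := [[0, 0], [0, 1, 0, 1, 0, 1], [0, 2, 0, 2], [0, 3, 0, 3], [0, 4, 0, 4], [0, 5, 0, 5], [0, 6, 0, 6], [1, 1], [1,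
    2, 1, 2, 1, 2], [1, 3, 1, 3], [1, 4, 1, 4], [1, 5, 1, 5], [1, 6, 1, 6], [2, 2], [2, 3, 2, 3, 2, 3], [2, 4,
    2, 4], [2, 5, 2, 5], [2, 6, 2, 6], [3, 3], [3, 4, 3, 4, 3, 4], [3, 5, 3, 5], [3, 6, 3, 6, 3, 6], [4, 4],
    [4, 5, 4, 5, 4, 5], [4, 6, 4, 6], [5, 5], [5, 6, 5, 6], [6, 6]]
/-- the reflection in the highest root -/
def wN : List ℕ := [5, 4, 3, 2, 1, 0, 6, 3, 4, 5, 2, 1, 3, 6, 4, 2, 3, 2, 4, 6, 3, 1, 2, 5, 4, 3, 6, 0, 1,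
  2, 3, 4, 5]
/-- the central elements of the Weyl groups of type D6 and E7 -/
def wD : List ℕ := rep 5 [0, 1, 2, 3, 4, 6]
def wE : List ℕ := rep 9 [0, 1, 2, 3, 4, 5, 6]
def v1 : List (ℕ × ℕ × ℕ) := [(61, 52, 1), (60, 48, 1), (55, 12, 0), (56, 24, 0), (57, 34, 0), (58, 42, 0), (40, 52, 1), (41, 10, 0), (42,
    22, 0), (43, 32, 0), (44, 40, 0), (45, 46, 0), (47, 48, 1), (48, 8, 0), (49, 20, 0), (50, 30, 0), (51, 38,
    0), (53, 40, 1), (54, 6, 0), (55, 18, 0), (56, 28, 0), (58, 34, 1), (39, 48, 1), (40, 8, 0), (41, 20, 0),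
    (42, 30, 0), (43, 38, 0), (45, 40, 1), (39, 12, 0), (40, 24, 0), (41, 34, 0), (38, 6, 0), (39, 18, 0),
    (37, 4, 0), (35, 2, 1), (37, 16, 1), (39, 28, 1), (41, 42, 1), (43, 48, 0), (44, 52, 0), (45, 42, 0), (47,
    6, 0), (48, 18, 0), (49, 28, 0), (51, 30, 1), (52, 32, 1), (53, 4, 0), (54, 16, 0), (56, 18, 1), (57, 24,
    1), (40, 34, 1), (34, 24, 0), (35, 12, 0), (36, 34, 0), (37, 24, 0), (38, 42, 0), (40, 28, 0), (42, 30,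
    1), (43, 32, 1), (26, 52, 1), (27, 10, 0), (28, 22, 0), (29, 32, 0), (30, 40, 0), (31, 46, 0), (33, 20,
    0), (34, 8, 0), (35, 30, 0), (36, 20, 0), (25, 48, 1), (26, 8, 0), (27, 20, 0), (28, 30, 0), (29, 38, 0),
    (31, 40, 1), (32, 18, 0), (33, 6, 0), (20, 12, 0), (21, 24, 0), (22, 34, 0), (23, 42, 0), (25, 6, 0), (26,
    18, 0), (27, 28, 0), (29, 30, 1), (30, 32, 1), (5, 52, 1), (6, 10, 0), (7, 22, 0), (8, 32, 0), (9, 40, 0),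
    (10, 46, 0), (12, 48, 1), (13, 8, 0), (14, 20, 0), (15, 30, 0), (16, 38, 0), (18, 40, 1), (19, 6, 0), (20,
    18, 0), (21, 28, 0), (23, 34, 1), (24, 4, 0), (25, 16, 0), (27, 18, 1), (28, 20, 1), (29, 22, 1), (30, 16,
    1), (32, 4, 0), (33, 28, 1), (35, 18, 0), (36, 38, 1), (38, 48, 1), (39, 30, 0), (40, 38, 0), (42, 40, 1),
    (43, 28, 0), (45, 34, 1), (46, 4, 0), (47, 16, 0), (49, 18, 1), (50, 20, 1), (51, 22, 1), (52, 2, 0), (54,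
    4, 1), (55, 6, 1), (56, 12, 1), (42, 32, 0), (43, 40, 0), (44, 52, 1), (45, 10, 0), (46, 22, 0), (47, 32,
    0), (48, 40, 0), (49, 46, 0), (51, 8, 0), (52, 20, 0), (53, 30, 0), (50, 10, 0), (51, 22, 0), (52, 32, 0),
    (41, 30, 0), (39, 28, 1), (41, 38, 1), (43, 48, 1), (44, 8, 0), (45, 20, 0), (46, 30, 0), (47, 38, 0),
    (49, 6, 0), (43, 12, 0), (44, 24, 0), (45, 34, 0), (42, 6, 0), (43, 18, 0), (40, 30, 1), (41, 4, 0), (35,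
    20, 1), (36, 18, 1), (37, 24, 1), (38, 18, 1), (39, 20, 1), (32, 6, 1), (33, 4, 1), (34, 8, 1), (35, 6,
    1), (36, 12, 1), (37, 6, 1), (38, 8, 1), (39, 2, 1), (41, 16, 1), (43, 28, 1), (45, 42, 1), (47, 48, 0),
    (48, 12, 0), (47, 8, 0), (44, 34, 1), (35, 42, 1), (37, 48, 0), (38, 24, 0), (39, 12, 0), (40, 34, 0),
    (41, 24, 0), (42, 42, 0), (44, 28, 0), (46, 4, 0), (45, 6, 0), (44, 4, 0), (37, 20, 0), (38, 8, 0), (39,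
    30, 0), (40, 20, 0), (36, 18, 0), (37, 6, 0), (33, 30, 1), (34, 34, 1), (31, 18, 1), (32, 20, 1), (33, 24,
    1), (34, 16, 1), (36, 4, 0), (37, 28, 1), (39, 18, 0), (40, 38, 1), (42, 48, 1), (43, 8, 0), (42, 12, 0),
    (41, 6, 0), (39, 20, 1), (36, 6, 1), (37, 4, 1), (38, 8, 1), (39, 2, 1), (37, 30, 1), (35, 18, 1), (36,
    20, 1), (37, 16, 1), (39, 4, 0), (29, 32, 0), (30, 40, 0), (28, 30, 0), (26, 28, 1), (28, 38, 1), (30, 46,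
    1), (32, 52, 1), (33, 32, 0), (34, 40, 0), (31, 48, 1), (32, 30, 0), (29, 40, 1), (23, 12, 0), (24, 24,
    0), (22, 6, 0), (23, 18, 0), (24, 42, 1), (26, 34, 0), (27, 48, 0), (28, 52, 0), (29, 42, 0), (26, 30, 1),
    (27, 32, 1), (11, 52, 1), (12, 10, 0), (13, 22, 0), (14, 32, 0), (15, 40, 0), (16, 46, 0), (18, 8, 0),
    (19, 20, 0), (20, 30, 0), (21, 8, 0), (22, 20, 0), (23, 48, 1), (24, 38, 0), (26, 40, 1), (27, 28, 0),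
    (29, 34, 1), (30, 28, 1), (32, 38, 1), (34, 46, 1), (36, 32, 0), (37, 22, 0), (38, 10, 0), (35, 30, 0),
    (36, 20, 0), (37, 8, 0), (33, 40, 1), (31, 30, 1), (32, 32, 1), (33, 28, 1), (35, 18, 0), (36, 6, 0), (28,
    42, 1), (30, 48, 0), (31, 52, 0), (17, 10, 0), (18, 22, 0), (19, 32, 0), (20, 10, 0), (21, 22, 0), (22,
    52, 1), (23, 40, 0), (24, 46, 0), (26, 30, 0), (27, 48, 1), (28, 38, 0), (30, 40, 1), (31, 42, 1), (33,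
    34, 0), (34, 24, 0), (35, 12, 0), (25, 32, 0), (26, 52, 1), (27, 40, 0), (28, 46, 0), (30, 48, 1), (29,
    52, 1), (25, 34, 1), (21, 24, 1), (22, 18, 1), (23, 20, 1), (24, 24, 1), (20, 12, 1), (21, 6, 1), (22, 8,
    1), (23, 12, 1), (19, 34, 1), (18, 24, 1), (17, 12, 1)]
def v2 : List (ℕ × ℕ × ℕ) := [(0, 0, 0), (30, 46, 1), (32, 40, 0), (33, 32, 0), (34, 22, 0), (35, 10, 0), (36, 52, 1), (37, 40, 0), (29,
    40, 1), (30, 38, 1), (32, 30, 0), (33, 20, 0), (34, 8, 0), (35, 48, 1), (28, 32, 1), (29, 30, 1), (30, 28,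
    1), (32, 18, 0), (33, 6, 0), (25, 12, 0), (26, 24, 0), (27, 52, 0), (28, 48, 0), (24, 6, 0), (25, 18, 0),
    (26, 40, 1), (23, 8, 0), (24, 20, 0), (22, 10, 0), (23, 22, 0), (24, 46, 0), (26, 38, 0), (28, 42, 1),
    (30, 34, 0), (31, 24, 0), (32, 12, 0), (33, 42, 0), (35, 38, 1), (37, 46, 1), (38, 30, 0), (39, 20, 0),
    (36, 40, 1), (23, 20, 1), (24, 22, 1), (25, 18, 1), (26, 20, 1), (27, 24, 1), (28, 18, 1), (29, 16, 1),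
    (31, 4, 0), (21, 4, 0), (22, 30, 1), (23, 32, 1), (19, 18, 0), (20, 6, 0), (17, 48, 1), (18, 20, 0), (19,
    8, 0), (20, 38, 0), (22, 40, 1), (23, 28, 0), (25, 30, 1), (26, 34, 1), (27, 28, 1), (29, 18, 0), (30, 6,
    0), (31, 28, 0), (33, 34, 1), (34, 30, 1), (35, 32, 1), (36, 28, 1), (38, 18, 0), (39, 38, 1), (41, 48,
    1), (33, 48, 0), (34, 52, 0), (25, 48, 1), (17, 24, 0), (18, 12, 0), (14, 28, 1), (16, 18, 0), (17, 6, 0),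
    (18, 42, 1), (20, 48, 0), (21, 52, 0), (22, 34, 0), (23, 42, 0), (25, 38, 1), (27, 30, 0), (28, 20, 0),
    (29, 8, 0), (30, 30, 0), (31, 38, 0), (33, 40, 1), (34, 42, 1), (36, 34, 0), (37, 24, 0), (38, 48, 0),
    (39, 42, 0), (41, 28, 0), (40, 34, 0), (17, 12, 1), (18, 6, 1), (19, 8, 1), (20, 10, 1), (21, 4, 1), (22,
    6, 1), (23, 12, 1), (24, 8, 1), (25, 6, 1), (26, 4, 1), (27, 2, 1), (16, 24, 1), (17, 18, 1), (18, 20, 1),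
    (19, 22, 1), (15, 34, 1), (12, 48, 0), (13, 42, 0), (15, 28, 0), (17, 30, 1), (18, 32, 1), (19, 16, 0),
    (21, 18, 1), (22, 24, 1), (23, 20, 1), (24, 18, 1), (25, 16, 1), (27, 4, 0), (28, 16, 0), (30, 18, 1),
    (31, 20, 1), (32, 22, 1), (33, 24, 1), (34, 18, 1), (35, 16, 1), (37, 30, 1), (38, 28, 1), (40, 42, 1),
    (42, 48, 0), (11, 38, 1), (13, 48, 1), (14, 30, 0), (15, 38, 0), (17, 40, 1), (18, 18, 0), (19, 28, 0),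
    (21, 34, 1), (22, 30, 1), (23, 28, 1), (25, 18, 0), (26, 6, 0), (27, 18, 0), (28, 28, 0), (30, 30, 1),
    (31, 32, 1), (32, 34, 1), (33, 28, 1), (35, 18, 0), (36, 38, 1), (38, 30, 0), (39, 48, 1), (40, 38, 0),
    (35, 20, 1), (36, 18, 1), (34, 30, 1), (17, 22, 0), (18, 32, 0), (19, 40, 0), (20, 52, 1), (16, 20, 0),
    (17, 30, 0), (15, 18, 0), (10, 20, 1), (11, 18, 1), (12, 24, 1), (13, 16, 1), (15, 28, 1), (17, 38, 1),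
    (19, 48, 1), (20, 46, 1), (22, 40, 0), (23, 32, 0), (24, 22, 0), (25, 10, 0), (26, 22, 0), (27, 32, 0),
    (28, 40, 0), (29, 46, 0), (31, 48, 1), (32, 38, 0), (34, 28, 0), (36, 16, 0), (38, 24, 1), (39, 18, 1),
    (40, 20, 1), (37, 34, 1), (35, 18, 0), (12, 34, 0), (13, 24, 0), (9, 30, 1), (10, 28, 1), (12, 18, 0),
    (13, 42, 1), (15, 34, 0), (16, 48, 0), (17, 42, 0), (19, 40, 1), (20, 38, 1), (22, 30, 0), (23, 20, 0),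
    (24, 8, 0), (25, 20, 0), (26, 30, 0), (27, 38, 0), (29, 40, 1), (30, 42, 1), (32, 48, 0), (33, 34, 0),
    (34, 24, 0), (35, 42, 0), (37, 28, 0), (39, 30, 1), (29, 52, 1), (30, 40, 0), (28, 48, 1), (18, 52, 0),
    (19, 48, 0), (17, 40, 1), (7, 46, 1), (9, 40, 0), (10, 32, 0), (11, 22, 0), (12, 52, 1), (13, 40, 0), (14,
    32, 0), (15, 46, 0), (17, 38, 0), (19, 42, 1), (21, 34, 0), (22, 24, 0), (23, 12, 0), (24, 24, 0), (25,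
    34, 0), (26, 42, 0), (28, 38, 1), (30, 46, 1), (32, 32, 0), (33, 22, 0), (34, 40, 0), (35, 52, 1), (36,
    32, 0), (37, 40, 0), (38, 46, 0), (31, 30, 0), (32, 20, 0), (29, 40, 1), (14, 30, 1), (15, 32, 1), (6, 40,
    1), (7, 38, 1), (9, 30, 0), (10, 20, 0), (11, 48, 1), (12, 38, 0), (14, 40, 1), (15, 28, 0), (17, 30, 1),
    (18, 34, 1), (19, 28, 1), (21, 18, 0), (22, 6, 0), (23, 18, 0), (24, 28, 0), (26, 34, 1), (27, 30, 1),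
    (28, 32, 1), (29, 28, 1), (31, 18, 0), (32, 38, 1), (34, 48, 1), (35, 30, 0), (36, 38, 0), (38, 40, 1),
    (34, 34, 0), (10, 24, 1), (11, 18, 1), (12, 20, 1), (13, 22, 1), (9, 34, 1), (5, 52, 0), (6, 48, 0), (7,
    42, 0), (9, 28, 0), (11, 30, 1), (12, 32, 1), (13, 16, 0), (15, 18, 1), (16, 20, 1), (17, 24, 1), (18, 18,
    1), (19, 16, 1), (21, 4, 0), (22, 16, 0), (24, 18, 1), (25, 24, 1), (26, 20, 1), (27, 22, 1), (28, 18, 1),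
    (29, 16, 1), (31, 30, 1), (32, 28, 1), (34, 42, 1), (36, 48, 0), (37, 52, 0), (20, 2, 0), (22, 4, 1), (23,
    6, 1), (24, 12, 1), (25, 8, 1), (26, 10, 1), (27, 6, 1), (28, 4, 1), (19, 4, 0), (20, 16, 0), (22, 18, 1),
    (23, 24, 1), (24, 20, 1), (25, 22, 1), (26, 18, 1), (18, 6, 0), (19, 18, 0), (20, 28, 0), (22, 34, 1),
    (23, 30, 1), (24, 32, 1), (17, 12, 0), (18, 24, 0), (19, 34, 0), (20, 42, 0), (16, 8, 0), (17, 20, 0),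
    (18, 30, 0), (15, 6, 0), (16, 18, 0), (14, 4, 0), (4, 10, 1), (5, 8, 1), (6, 6, 1), (7, 12, 1), (8, 4, 1),
    (9, 6, 1), (10, 8, 1), (11, 10, 1), (12, 2, 1), (14, 16, 1), (16, 28, 1), (18, 38, 1), (20, 48, 1), (21,
    38, 0), (23, 40, 1), (24, 28, 0), (26, 16, 0), (28, 2, 0), (30, 8, 1), (31, 6, 1), (32, 4, 1), (33, 12,
    1), (34, 6, 1), (35, 8, 1), (36, 10, 1), (29, 20, 1), (30, 18, 1), (27, 4, 0), (28, 30, 1), (25, 18, 0),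
    (26, 6, 0), (11, 22, 0), (12, 10, 0), (13, 32, 0), (14, 22, 0), (15, 40, 0), (16, 32, 0), (10, 20, 0),
    (11, 8, 0), (12, 30, 0), (13, 20, 0), (9, 18, 0), (10, 6, 0), (3, 22, 1), (4, 20, 1), (5, 18, 1), (6, 24,
    1), (7, 16, 1), (9, 4, 0), (10, 28, 1), (12, 18, 0), (13, 38, 1), (15, 30, 0), (16, 46, 1), (18, 40, 0),
    (19, 52, 1), (20, 40, 0), (21, 46, 0), (23, 30, 0), (24, 20, 0), (25, 8, 0), (26, 38, 0), (28, 28, 0),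
    (30, 16, 0), (32, 24, 1), (33, 18, 1), (34, 20, 1), (35, 22, 1), (31, 34, 1), (29, 18, 0), (18, 42, 1),
    (20, 48, 0), (21, 52, 0), (22, 34, 0), (23, 24, 0), (24, 12, 0), (17, 48, 1), (18, 38, 0), (20, 40, 1),
    (15, 32, 1), (16, 34, 1), (14, 40, 1), (6, 34, 0), (7, 24, 0), (8, 12, 0), (2, 32, 1), (3, 30, 1), (4, 28,
    1), (6, 18, 0), (7, 6, 0), (8, 42, 1), (10, 34, 0), (11, 24, 0), (12, 48, 0), (13, 52, 0), (14, 42, 0),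
    (16, 28, 0), (18, 30, 1), (19, 32, 1), (20, 28, 1), (22, 18, 0), (23, 6, 0), (24, 42, 1), (26, 48, 0),
    (27, 34, 0), (28, 24, 0), (29, 42, 0), (31, 28, 0), (33, 30, 1), (34, 32, 1), (26, 30, 0), (27, 20, 0),
    (11, 20, 1), (12, 22, 1), (13, 18, 1), (14, 24, 1), (10, 30, 1), (11, 32, 1), (1, 40, 1), (2, 38, 1), (4,
    30, 0), (5, 20, 0), (6, 8, 0), (7, 48, 1), (8, 38, 0), (10, 40, 1), (11, 28, 0), (13, 34, 1), (14, 16, 0),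
    (16, 18, 1), (17, 20, 1), (18, 22, 1), (19, 18, 1), (20, 16, 1), (22, 4, 0), (23, 34, 1), (24, 28, 1),
    (26, 18, 0), (27, 38, 1), (29, 48, 1), (30, 30, 0), (31, 38, 0), (33, 40, 1), (18, 40, 0), (19, 32, 0),
    (20, 22, 0), (21, 10, 0), (22, 52, 1), (23, 40, 0), (24, 32, 0), (25, 22, 0), (16, 38, 1), (18, 30, 0),
    (19, 20, 0), (20, 8, 0), (21, 48, 1), (15, 30, 1), (16, 28, 1), (18, 18, 0), (19, 6, 0), (13, 24, 0), (14,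
    48, 0), (12, 18, 0), (0, 46, 1), (2, 40, 0), (3, 32, 0), (4, 22, 0), (5, 10, 0), (6, 52, 1), (7, 40, 0),
    (8, 46, 0), (10, 30, 0), (11, 20, 0), (12, 38, 0), (14, 42, 1), (16, 34, 0), (17, 24, 0), (18, 12, 0),
    (19, 42, 0), (21, 38, 1), (23, 30, 0), (24, 20, 0), (25, 46, 1), (27, 40, 0), (28, 52, 1), (29, 32, 0),
    (30, 40, 0), (31, 46, 0), (24, 22, 1), (25, 20, 1), (26, 18, 1), (27, 24, 1), (18, 6, 1), (19, 12, 1),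
    (20, 8, 1), (21, 6, 1), (22, 4, 1), (23, 10, 1), (24, 8, 1), (25, 6, 1), (26, 12, 1), (17, 18, 1), (18,
    24, 1), (19, 20, 1), (20, 18, 1), (18, 48, 0), (15, 28, 0), (13, 48, 1)]

/-- the Coxeter relators of Y333 -/
def RX : List (List ℕ) := [[0, 0], [0, 1, 0, 1, 0, 1], [0, 2, 0, 2], [0, 3, 0, 3], [0, 4, 0, 4], [0, 5, 0, 5], [0, 6, 0, 6], [0, 8, 0,
    8], [0, 9, 0, 9], [0, 10, 0, 10], [1, 1], [1, 2, 1, 2, 1, 2], [1, 3, 1, 3], [1, 4, 1, 4], [1, 5, 1, 5],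
    [1, 6, 1, 6], [1, 8, 1, 8], [1, 9, 1, 9], [1, 10, 1, 10], [2, 2], [2, 3, 2, 3, 2, 3], [2, 4, 2, 4], [2, 5,
    2, 5], [2, 6, 2, 6], [2, 8, 2, 8], [2, 9, 2, 9], [2, 10, 2, 10], [3, 3], [3, 4, 3, 4, 3, 4], [3, 5, 3, 5],
    [3, 6, 3, 6], [3, 8, 3, 8, 3, 8], [3, 9, 3, 9], [3, 10, 3, 10], [4, 4], [4, 5, 4, 5, 4, 5], [4, 6, 4, 6],
    [4, 8, 4, 8], [4, 9, 4, 9], [4, 10, 4, 10], [5, 5], [5, 6, 5, 6, 5, 6], [5, 8, 5, 8], [5, 9, 5, 9], [5,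
    10, 5, 10], [6, 6], [6, 8, 6, 8], [6, 9, 6, 9], [6, 10, 6, 10], [8, 8], [8, 9, 8, 9, 8, 9], [8, 10, 8,
    10], [9, 9], [9, 10, 9, 10, 9, 10], [10, 10]]

/-- the six orders of the arms -/
def AR : List (List ℕ) := [[0, 1, 2, 3, 4, 5, 8, 9], [0, 1, 2, 3, 8, 9, 4, 5], [6, 5, 4, 3, 2, 1, 8, 9],
  [6, 5, 4, 3, 8, 9, 2, 1], [10, 9, 8, 3, 2, 1, 4, 5], [10, 9, 8, 3, 4, 5, 2, 1]]
def SPI : List (List ℕ) := [[3, 2, 1, 3, 4, 5, 3, 6, 7], [3, 2, 1, 3, 6, 7, 3, 4, 5], [3, 4, 5, 3, 2, 1, 3, 6, 7],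
  [3, 4, 5, 3, 6, 7, 3, 2, 1], [3, 6, 7, 3, 2, 1, 3, 4, 5], [3, 6, 7, 3, 4, 5, 3, 2, 1]]
def SK : List (List ℕ) := [[3, 2, 1, 3, 4, 5, 3, 8, 9], [3, 8, 9, 3, 4, 5, 3, 2, 1], [3, 2, 1, 3, 8, 9, 3, 4, 5],
  [3, 8, 9, 3, 2, 1, 3, 4, 5]]
noncomputable def idxA (k : ℕ) : ℕ := nth [0, 2, 6, 16, 37, 74, 40, 76] k

variable {G : Type u} [Group G] {g : ℕ → G}

theorem comm_ev {s : G} {w : List ℕ} (h : ∀ k ∈ w, Commute s (g k)) : Commute s (ev g w) :=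
  Commute.list_prod_right _ _ (List.forall_mem_map.2 fun k hk => h k (List.mem_reverse.1 hk))

theorem e7_eq (h : Sat g 7 RE) : ev g wE = ev g wN * ev g wD := by
  have := h.eq_of_vk v1 (wE ++ (wD ++ wN).reverse) [] (by decide +kernel)
  rw [ev_append, h.ev_reverse, ev_nil, inv_mul_eq_one, ev_append] at this
  exact this.symm

theorem n_br (h : Sat g 7 RE) : (ev g wN * g 5) ^ 3 = 1 := by
  have := h.eq_of_vk v2 (rep 3 (5 :: wN)) [] (by decide +kernel)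
  rwa [ev_rep, ev_cons, ev_nil] at this

theorem sp_comm (h : Sat g 8 ErA.rels) : ∀ w ∈ SPI, ∀ k < 8, Commute (ev g (rep 10 w)) (g k) := by
  obtain ⟨pt, a, T⟩ := ErA.isEnum.tab h (CPt.of (g 0)) fun S hS => CPt.smul_eq_self_iff.2 (by
    simp only [ErA.subs, List.mem_cons, List.not_mem_nil, or_false] at hS
    rcases hS with rfl | rfl | rfl | rfl | rfl | rfl | rfl | rfl
    · rw [ev_single]; exact Commute.refl _
    all_goals first | (rw [ev_single]; exact h.comm (by decide)) | skip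
    have := h.eq_of_vk [(15, 2, 1), (13, 18, 1), (11, 32, 1), (9, 44, 1), (8, 56, 0), (6, 44, 0), (4, 32, 0),
      (2, 18, 0), (0, 2, 0)] ([1, 0, 2, 1, 3, 2, 4, 3, 6, 3, 4, 2, 3, 1, 2, 0, 1] ++ 0 ::
        ([1, 0, 2, 1, 3, 2, 4, 3, 6, 3, 4, 2, 3, 1, 2, 0, 1].reverse ++ [0])) [] (by decide +kernel)
    rw [ev_append, ev_cons, ev_append, h.ev_reverse, ev_single, ev_nil] at this
    generalize ev g _ = t at this ⊢
    show t * g 0 = g 0 * t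
    calc t * g 0 = t * g 0 * (g 0 * t⁻¹ * g 0 * t) := by rw [this, mul_one]
      _ = t * (g 0 * g 0) * t⁻¹ * g 0 * t := by group
      _ = _ := by rw [h.sq]; group)
  have C := h.ctab T (idx := idxA) (x₀ := 0) (congrArg CPt.val a)
    [(0, 1), (1, 2), (2, 3), (3, 4), (4, 5), (3, 6), (6, 7)] (by decide +kernel)
  exact fun w hw k hk => C.comm ((by decide +kernel : ∀ w ∈ SPI, ∀ k < 8, band (ltAll 8 (k :: rep 10 w))
    (Nat.beq (tr ErA.tab (rep 10 w) (idxA k)) (idxA k)) = true) w hw k hk)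

theorem sp_cent (h : Sat g 11 RX) (e : ∀ f ∈ AR, ev g (wE.map (lab f 11)) = 1) :
    ∀ w ∈ SK, ∀ k ∈ H18.YB.fK, Commute (ev g (rep 10 w)) (g k) := fun w hw k hk => by
  obtain ⟨f, hf, l, c, w', hw', k', hk', e1, rfl⟩ := (by decide +kernel : ∀ w ∈ SK, ∀ k ∈ H18.YB.fK, ∃ f ∈ AR,
    f.length = 8 ∧ subRels f 11 (wE.map (lab f 11) :: RX) ErA.rels = true ∧ ∃ w' ∈ SPI, ∃ k' < 8,
      rep 10 w = (rep 10 w').map (lab f 11) ∧ k = lab f 11 k') w hw k hk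
  have := (h.add (e f hf)).sub f c
  rw [l] at this
  rw [e1, ev_map]
  exact sp_comm this w' hw' k' hk'

theorem sat_RK (h : Sat g 11 RX) (e : ∀ f ∈ AR, ev g (wE.map (lab f 11)) = 1)
    (s : ∀ w ∈ SK, ev g (rep 10 w) = 1) : Sat (fun x => g (lab (List.range 11) 11 x)) 11 H18.YB.RK := by
  have e' : ∀ w ∈ [[0, 1, 2, 3, 4, 5, 8], [0, 1, 2, 3, 8, 9, 4], [10, 9, 8, 3, 2, 1, 4], [10, 9, 8, 3, 4, 5, 2]],
      ev g (rep 9 w) = 1 := fun w hw => by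
    obtain ⟨f, hf, k⟩ := (by decide +kernel : ∀ w ∈ [[0, 1, 2, 3, 4, 5, 8], [0, 1, 2, 3, 8, 9, 4],
      [10, 9, 8, 3, 2, 1, 4], [10, 9, 8, 3, 4, 5, 2]], ∃ f ∈ AR, rep 9 w = wE.map (lab f 11)) w hw
    rw [k]; exact e f hf
  have a := e' [0, 1, 2, 3, 8, 9, 4] (by decide)
  have b := e' [10, 9, 8, 3, 2, 1, 4] (by decide)
  have a' := H18.YB.rep_conj (m := 9) (h.add a) [9, 8, 3, 2, 1, 0, 4] [0, 1, 2, 3, 8, 9, 4] [4] true
    [(0, 2, 0)] (by decide +kernel)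
  have b' := H18.YB.rep_conj (m := 9) (h.add b) [1, 2, 3, 8, 9, 10, 4] [10, 9, 8, 3, 2, 1, 4] [4] true
    [(0, 2, 0)] (by decide +kernel)
  exact ((((((((((h.add a).add b).add a').add b').add (e' [0, 1, 2, 3, 4, 5, 8] (by decide))).add
    (e' [10, 9, 8, 3, 4, 5, 2] (by decide))).add (s [3, 2, 1, 3, 4, 5, 3, 8, 9] (by decide))).add
    (s [3, 8, 9, 3, 4, 5, 3, 2, 1] (by decide))).add (s [3, 2, 1, 3, 8, 9, 3, 4, 5] (by decide))).add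
    (s [3, 8, 9, 3, 2, 1, 3, 4, 5] (by decide))).sub (List.range 11) (by decide +kernel)

end H48.ER
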