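import Cfsg.Agent.Lib.YM.Sgn2

/-!
Coordinates in an extraspecial group of order 2^21 with a hyperbolic basis; symbolic signs
(the method of `Lib/YM/Ex`, `Sgn`, `Sgn2` in 20 coordinates).
-/

set_option autoImplicit false
set_option maxRecDepth 100000

namespace H48.ER

open H54 Finset H77.YM

theorem land_lt1 (x : ℕ) : Nat.land x 1023 < 4096 :=
  lt_of_le_of_lt (Nat.and_le_right : x &&& 1023 ≤ 1023) (by norm_num)

theorem par_land1 (x : ℕ) : (par (Nat.land x 1023) : ZMod 2) = ∑ j ∈ range 10, bt x j := by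
  rw [par_spec (land_lt1 x), sum_range_succ, sum_range_succ, show Nat.land x 1023 = x &&& 1023 from rfl,
    bt_and x 1023 11, show bt 1023 11 = 0 by decide, mul_zero, add_zero, bt_and x 1023 10,
    show bt 1023 10 = 0 by decide, mul_zero, add_zero]
  refine sum_congr rfl fun j hj => ?_
  have : bt 1023 j = 1 := by
    have := mem_range.1 hj
    interval_cases j <;> decide
  rw [bt_and, this, mul_one]

/-- the cocycle -/
def be (A B : ℕ) : ℕ := par (Nat.land (Nat.land (Nat.shiftRight A 10) B) 1023)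

theorem be_spec (A B : ℕ) : (be A B : ZMod 2) = ∑ j ∈ range 10, bt A (10 + j) * bt B j := by
  unfold be
  rw [par_land1]
  exact sum_congr rfl fun j _ => by
    rw [show Nat.land (Nat.shiftRight A 10) B = (A >>> 10) &&& B from rfl, bt_and, bt_shr]

/-- the symplectic form -/
def bf (A B : ℕ) : ℕ := Nat.xor (be A B) (be B A)

theorem be_le (A B : ℕ) : be A B = 0 ∨ be A B = 1 := par_le _

theorem bf_le (A B : ℕ) : bf A B = 0 ∨ bf A B = 1 := by
  unfold bf
  rcases be_le A B with h | h <;> rcases be_le B A with h' | h' <;> rw [h, h'] <;> decide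

theorem bf_cast (A B : ℕ) : (bf A B : ZMod 2) = be A B + be B A := by
  unfold bf
  rcases be_le A B with h | h <;> rcases be_le B A with h' | h' <;> rw [h, h'] <;> decide

theorem bf_xor (A A' B : ℕ) : (bf (A ^^^ A') B : ZMod 2) = bf A B + bf A' B := by
  simp only [bf_cast, be_spec, bt_xor, add_mul, mul_add, sum_add_distrib]; ring

theorem bf_zero (B : ℕ) : (bf 0 B : ZMod 2) = 0 := by
  simp [bf_cast, be_spec, bt_zero]

/-- the dual index -/
def du (i : ℕ) : ℕ := if i < 10 then i + 10 else i - 10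

theorem bf_pow (m : ℕ) {i : ℕ} (hi : i < 20) : (bf m (2 ^ i) : ZMod 2) = bt m (du i) := by
  simp only [bf_cast, be_spec, bt_pow]
  interval_cases i <;> simp [sum_range_succ, du]

def Bf (i j : ℕ) : ZMod 2 := if i = j + 10 ∨ j = i + 10 then 1 else 0

theorem cocyc (a b : ℕ) :
    ∑ i ∈ range 20, bt a i * ∑ j ∈ range i, bt b j * Bf i j = (be a b : ZMod 2) := by
  rw [be_spec]
  simp [sum_range_succ, Bf]

attribute [irreducible] be bf

def emul (A B : ℕ) : ℕ := Nat.xor (Nat.xor A B) (Nat.shiftLeft (be A B) 20)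

theorem shl_shr (c : ℕ) : (c <<< 20) >>> 20 = c := Nat.shiftLeft_shiftRight c 20

theorem testBit_shl {c i : ℕ} (hi : i < 20) : (c <<< 20).testBit i = false := by
  rw [Nat.testBit_shiftLeft]; simp; omega

variable {G : Type*} [Group G]

def e (q : ℕ → G) (m : ℕ) : G := E q 20 m

def el (z : G) (q : ℕ → G) (ρ : ℕ → ZMod 2) (A : ℕ) : G := e q A * zp z (val ρ (A >>> 20))

theorem e_zero (q : ℕ → G) : e q 0 = 1 := E_nil q 20

theorem e_pow (q : ℕ → G) {i : ℕ} (hi : i < 20) : e q (2 ^ i) = q i := by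
  rw [e, E_pow, if_pos hi]

theorem el_lt (z : G) (q : ℕ → G) (ρ : ℕ → ZMod 2) {m : ℕ} (h : m < 2 ^ 20) : el z q ρ m = e q m := by
  rw [el, Nat.shiftRight_eq_div_pow, Nat.div_eq_of_lt h, val_zero, zp_zero, mul_one]

structure Bas (z : G) (q : ℕ → G) : Prop where
  zz : z * z = 1
  z1 : z ≠ 1
  zq : ∀ i < 20, q i * z = z * q i
  sq : ∀ i < 20, q i * q i = 1
  cm : ∀ i < 20, ∀ j < 20, q i * q j = q j * q i * zp z (Bf i j)

/-- the centraliser of the basis -/
def Cen (z : G) (q : ℕ → G) : Prop := ∀ x, x * z = z * x → (∀ i < 20, x * q i = q i * x) → x = 1 ∨ x = z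

namespace Bas

variable {z : G} {q : ℕ → G} (B : Bas z q)
include B

theorem E_z {n : ℕ} (hn : n ≤ 20) (m : ℕ) : E q n m * z = z * E q n m :=
  E_ind q (P := fun x => Commute x z) (Commute.one_left z) (fun _ _ => Commute.mul_left)
    fun i hi _ => B.zq i (by omega)

theorem e_z (m : ℕ) : e q m * z = z * e q m := B.E_z le_rfl m

theorem q_E {k : ℕ} (hk : k < 20) {n : ℕ} (hn : n ≤ 20) (m : ℕ) :
    q k * E q n m = E q n m * q k * zp z (∑ j ∈ range n, bt m j * Bf k j) := by
  induction n with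
  | zero => simp [E_zero]
  | succ n ih =>
    rw [E_succ, ← mul_assoc, ih (by omega), sum_range_succ, zp_add B.zz, bt]
    split_ifs with c
    · rw [one_mul, mul_assoc, ← zp_comm (B.zq n (by omega)), ← mul_assoc, mul_assoc _ (q k),
        B.cm k hk n (by omega)]
      simp only [mul_assoc, ← zp_add B.zz, add_comm]
    · simp

theorem E_mul {n : ℕ} (hn : n ≤ 20) (a b : ℕ) : E q n a * E q n b =
    E q n (a ^^^ b) * zp z (∑ i ∈ range n, bt a i * ∑ j ∈ range i, bt b j * Bf i j) := by
  induction n with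
  | zero => simp [E_zero]
  | succ n ih =>
    have hq := B.zq n (by omega)
    rw [E_succ, E_succ, E_succ, sum_range_succ, zp_add B.zz, Nat.testBit_xor]
    generalize hS : (∑ i ∈ range n, bt a i * ∑ j ∈ range i, bt b j * Bf i j) = S at ih ⊢
    have ih' := ih (by omega)
    have h2 := B.q_E (k := n) (by omega) (n := n) (by omega) b
    generalize (∑ j ∈ range n, bt b j * Bf n j) = T at h2 ⊢
    unfold bt
    cases a.testBit n <;> cases b.testBit n <;> simp only [Bool.false_eq_true, if_false, if_true,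
      Bool.xor_false, Bool.xor_true, Bool.not_false, mul_one, zero_mul,
      one_mul, zp_zero, bne_self_eq_false]
    · exact ih'
    · rw [← mul_assoc, ih', mul_assoc, ← zp_comm hq, mul_assoc]
    · rw [mul_assoc, h2, ← mul_assoc, ← mul_assoc, ih', mul_assoc _ _ (q n), ← zp_comm hq]
      simp only [mul_assoc]
    · calc _ = E q n a * (q n * E q n b) * q n := by simp only [mul_assoc]
        _ = E q n a * E q n b * (q n * (zp z T * q n)) := by rw [h2]; simp only [mul_assoc]
        _ = _ := by rw [← zp_comm hq, ← mul_assoc (q n), B.sq n (by omega), one_mul, ih', mul_assoc]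

theorem e_mul (a b : ℕ) : e q a * e q b = e q (a ^^^ b) * zp z (be a b) := by
  have h := B.E_mul le_rfl a b
  rw [cocyc] at h
  exact h

theorem e_mul0 {a b : ℕ} (h : be a b = 0) : e q a * e q b = e q (a ^^^ b) := by
  rw [B.e_mul, h]; simp

theorem e_ap (a b : ℕ) : Ap z (e q a * e q b) (e q (a ^^^ b)) := by
  rw [B.e_mul]; exact ap_zp _ _ _

theorem e_comm (a b : ℕ) : e q a * e q b = e q b * e q a * zp z (bf a b) := by
  rw [B.e_mul, B.e_mul, Nat.xor_comm b, mul_assoc, ← zp_add B.zz, bf_cast]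
  congr 2
  rw [add_comm, add_assoc, z2_add, add_zero]

theorem e_conj (a b : ℕ) : e q a * e q b * (e q a)⁻¹ = e q b * zp z (bf a b) := by
  rw [B.e_comm, mul_assoc _ (e q a), zp_comm (B.e_z a)]; group

theorem e_comm0 {a b : ℕ} (h : bf a b = 0) : e q a * e q b = e q b * e q a := by
  rw [B.e_comm, h]; simp

theorem e_conj1 {a b : ℕ} (h : bf a b = 1) : e q a * e q b * (e q a)⁻¹ = e q b * z := by
  rw [B.e_conj, h]; simp

theorem e_sq {a : ℕ} (h : be a a = 0) : e q a * e q a = 1 := by
  rw [B.e_mul0 h, Nat.xor_self, e_zero]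

theorem bits_of_ap_one {m : ℕ} (h : Ap z (e q m) 1) {i : ℕ} (hi : i < 20) : m.testBit i = false := by
  have hd : du i < 20 := by unfold du; split_ifs <;> omega
  have hdd : du (du i) = i := by unfold du; split_ifs <;> omega
  have h1 := B.e_comm m (2 ^ du i)
  have h2 : e q m * e q (2 ^ du i) = e q (2 ^ du i) * e q m := by
    rcases h with h | h <;> rw [h]
    · simp
    · rw [one_mul, B.e_z]
  rw [h2, bf_pow m hd, hdd, left_eq_mul] at h1
  exact bt_eq_zero.1 (zp_inj B.z1 (h1.trans (zp_zero z).symm))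

theorem bits_of_ap {m n : ℕ} (h : Ap z (e q m) (e q n)) {i : ℕ} (hi : i < 20) :
    m.testBit i = n.testBit i := by
  have h1 : Ap z (e q (m ^^^ n)) 1 := by
    refine ((B.e_ap m n).symm B.zz).trans B.zz ?_
    refine (h.mul B.zz (Ap.refl z _) (B.e_z n)).trans B.zz ?_
    have := B.e_ap n n
    rwa [Nat.xor_self, e_zero] at this
  have := B.bits_of_ap_one h1 hi
  rw [Nat.testBit_xor] at this
  revert this; cases m.testBit i <;> cases n.testBit i <;> simp

theorem eq_of_ap {m n : ℕ} (h : Ap z (e q m) (e q n)) (hm : m < 2 ^ 20) (hn : n < 2 ^ 20) : m = n := by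
  apply Nat.eq_of_testBit_eq
  intro i
  by_cases hi : i < 20
  · exact B.bits_of_ap h hi
  · have : 2 ^ 20 ≤ 2 ^ i := Nat.pow_le_pow_right (by norm_num) (by omega)
    rw [Nat.testBit_lt_two_pow (by omega), Nat.testBit_lt_two_pow (by omega)]

theorem el_z (ρ : ℕ → ZMod 2) (A : ℕ) : el z q ρ A * z = z * el z q ρ A := by
  rw [el, mul_assoc, ← zp_comm rfl, ← mul_assoc, B.e_z, mul_assoc]

theorem el_emul {ρ : ℕ → ZMod 2} (h : ρ 0 = 1) (A C : ℕ) :
    el z q ρ (emul A C) = el z q ρ A * el z q ρ C := by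
  have e1 : emul A C = (A ^^^ C) ^^^ (be A C <<< 20) := rfl
  have e2 : e q (emul A C) = e q (A ^^^ C) := E_congr q fun i hi => by
    rw [e1, Nat.testBit_xor, testBit_shl hi, Bool.xor_false]
  have e3 : val ρ (emul A C >>> 20) = be A C + (val ρ (A >>> 20) + val ρ (C >>> 20)) := by
    rw [e1, Nat.shiftRight_xor_distrib, Nat.shiftRight_xor_distrib, shl_shr (be A C), val_xor,
      val_xor, val_bit h (be_le A C), add_comm]
  unfold el
  rw [e2, e3, zp_add B.zz, zp_add B.zz, ← mul_assoc, ← B.e_mul, mul_assoc (e q A), mul_assoc (e q A),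
    ← mul_assoc (e q C), zp_comm (B.e_z C)]
  simp only [mul_assoc]

end Bas

/-- image of an element with symbolic sign -/
noncomputable def aapp (A : List ℕ) (X : ℕ) : ℕ :=
  fld emul A X (Nat.shiftLeft (Nat.shiftRight X 20) 20)
noncomputable def amul (A C : List ℕ) : List ℕ := mapR (aapp A) C

def ID : List ℕ := [1, 2, 4, 8, 16, 32, 64, 128, 256, 512, 1024, 2048, 4096, 8192, 16384, 32768, 65536,
  131072, 262144, 524288]

theorem ID_eq : ID = (List.range 20).map (2 ^ ·) := by decide +kernel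

noncomputable def inn (m : ℕ) : List ℕ := mapR (fun a => Nat.xor a (Nat.shiftLeft (bf m a) 20)) ID

/-- the expected sign of the image of the basis element `a` -/
noncomputable def expS (L : List (ℕ × ℕ)) (a : ℕ) : ℕ :=
  List.rec (motive := fun _ => ℕ) 0
    (fun p _ ih => Nat.xor (sel (Nat.beq (bf p.1 a) 1) p.2 0) ih) L

theorem val_expS (ρ : ℕ → ZMod 2) (a : ℕ) (L : List (ℕ × ℕ)) :
    val ρ (expS L a) = bf (selx ρ L) a := by
  induction L with
  | nil => rw [selx, bf_zero]; exact val_zero ρ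
  | cons p L ih =>
    have e1 : expS (p :: L) a = sel (Nat.beq (bf p.1 a) 1) p.2 0 ^^^ expS L a := rfl
    have e2 : val ρ (sel (Nat.beq (bf p.1 a) 1) p.2 0) = bf (if val ρ p.2 = 0 then 0 else p.1) a := by
      rcases z2 (val ρ p.2) with h | h
      · rw [if_pos h, bf_zero]
        cases Nat.beq (bf p.1 a) 1
        exacts [val_zero ρ, h]
      · rw [if_neg (by rw [h]; decide)]
        rcases bf_le p.1 a with h' | h' <;> rw [h']
        exacts [val_zero ρ, h]
    rw [e1, selx, val_xor, bf_xor, ih, e2]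

theorem land_bits {x y : ℕ} (h : Nat.beq (Nat.land x 1048575) y = true) {i : ℕ} (hi : i < 20) :
    x.testBit i = y.testBit i := by
  rw [← Nat.eq_of_beq_eq_true h, show Nat.land x 1048575 = x &&& (2 ^ 20 - 1) from rfl,
    Nat.testBit_and, Nat.testBit_two_pow_sub_one]
  simp [hi]

def Act (z : G) (q : ℕ → G) (g : G) (A : List ℕ) : Prop := g * z = z * g ∧
  List.Forall₂ (fun i a => Ap z (g * q i * g⁻¹) (e q a)) (List.range 20) A

def Rep (z : G) (q : ℕ → G) (ρ : ℕ → ZMod 2) (g : G) (A : List ℕ) : Prop := g * z = z * g ∧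
  List.Forall₂ (fun i a => g * q i * g⁻¹ = el z q ρ a) (List.range 20) A

noncomputable def addEF (a b : ℕ) (rows : List ℕ) (k : List ℕ → Bool) : Bool :=
  force (Nat.xor a b) fun x => band (Nat.beq (Nat.land x 1048575) 0)
    (force (enc (Nat.shiftRight x 20)) fun y => force (redF rows y) fun v =>
      sel (Nat.beq (Nat.shiftRight v 32) 0) (k rows) (k (v :: rows)))

noncomputable def addPF (A : List ℕ) : List ℕ → List ℕ → (List ℕ → Bool) → Bool :=
  List.rec (motive := fun _ => List ℕ → List ℕ → (List ℕ → Bool) → Bool) (fun _ rows k => k rows)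
    (fun a _ ih C rows k => List.rec (motive := fun _ => Bool) (k rows)
      (fun b C' _ => addEF a b rows fun rows' => ih C' rows' k) C) A

noncomputable def add2F (gens : ℕ → List ℕ) (R : List (ℕ × ℕ × ℕ)) :
    List ℕ → (List ℕ → Bool) → Bool :=
  List.rec (motive := fun _ => List ℕ → (List ℕ → Bool) → Bool) (fun rows k => k rows)
    (fun r _ ih rows k => addEF (aapp (gens r.1) r.2.1) r.2.2 rows fun rows' => ih rows' k) R

noncomputable def add1F (gens : ℕ → List ℕ) (R : List (List ℕ × List ℕ × ℕ)) :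
    List ℕ → (List ℕ → Bool) → Bool :=
  List.rec (motive := fun _ => List ℕ → (List ℕ → Bool) → Bool) (fun rows k => k rows)
    (fun r _ ih rows k => wK amul gens r.1 ID fun A => forceL (inn r.2.2) fun I =>
      wK amul gens r.2.1 I fun C => addPF A C rows fun rows' => ih rows' k) R

noncomputable def outOkF (rows : List ℕ) (L : List (ℕ × ℕ)) (A : List ℕ) : Bool :=
  allLt (fun i => force (nth A i) fun a => band (Nat.beq (Nat.land a 1048575) (Nat.pow 2 i))
    (force (enc (Nat.shiftRight a 20)) fun y =>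
      Nat.beq (Nat.shiftRight (redF rows y) 32) (expS L (Nat.pow 2 i)))) 20

namespace Bas

variable {z : G} {q : ℕ → G} (B : Bas z q) {ρ : ℕ → ZMod 2} {g h : G} {A C : List ℕ}
include B

theorem fld_xor {L A : List ℕ}
    (H : List.Forall₂ (fun i a => Ap z (g * q i * g⁻¹) (e q a)) L A) : ∀ m acc x,
    Ap z x (e q acc) → Ap z (x * (g * EL q L m * g⁻¹)) (e q (fld Nat.xor A m acc)) := by
  induction H with
  | nil => intro m acc x hx; rw [EL, mul_one, mul_inv_cancel, mul_one]; exact hx
  | @cons i a L A h _ ih =>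
    intro m acc x hx
    rw [fld_cons, EL]
    split_ifs
    · have := ih (m >>> 1) _ _ ((hx.mul B.zz h (B.e_z a)).trans B.zz (B.e_ap acc a))
      rw [show x * (g * (q i * EL q L (m >>> 1)) * g⁻¹) =
        x * (g * q i * g⁻¹) * (g * EL q L (m >>> 1) * g⁻¹) by group]
      exact this
    · rw [one_mul]; exact ih (m >>> 1) _ _ hx

theorem act_app (H : Act z q g A) (m : ℕ) : Ap z (g * e q m * g⁻¹) (e q (mapp A m)) := by
  have := B.fld_xor H.2 m 0 1 (by rw [e_zero]; exact Ap.refl _ _)
  rwa [one_mul] at this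

theorem act_mul (H : Act z q g A) (H' : Act z q h C) : Act z q (g * h) (mmul A C) := by
  refine ⟨by rw [mul_assoc, H'.1, ← mul_assoc, H.1, mul_assoc], ?_⟩
  rw [mmul, mapR_eq, List.forall₂_map_right_iff]
  refine H'.2.imp fun i a ha => ?_
  have := (ha.conj H.1).trans B.zz (B.act_app H a)
  convert this using 1
  group

omit B in
theorem act_of (hz : g * z = z * g) (hl : A.length = 20)
    (H : ∀ i < 20, Ap z (g * q i * g⁻¹) (e q (A.getD i 0))) : Act z q g A :=
  ⟨hz, forall2_range.2 ⟨hl, H⟩⟩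

omit B in
theorem act_get (H : Act z q g A) {i : ℕ} (hi : i < 20) : Ap z (g * q i * g⁻¹) (e q (A.getD i 0)) :=
  (forall2_range.1 H.2).2 i hi

omit B in
theorem ID_getD {i : ℕ} (hi : i < 20) : e q (ID.getD i 0) = q i := by
  rw [ID_eq, List.getD_eq_getElem?_getD, List.getElem?_map, List.getElem?_range hi]
  exact e_pow q hi

omit B in
theorem act_one : Act z q 1 ID :=
  act_of (by simp) rfl fun i hi => by rw [ID_getD hi]; simpa using Ap.refl _ _

theorem act_e (m : ℕ) : Act z q (e q m) ID :=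
  act_of (B.e_z m) rfl fun i hi => by
    rw [ID_getD hi, ← e_pow q hi, B.e_conj]; exact ap_zp _ _ _

theorem act_inv (H : Act z q g A) (hl : C.length = 20) (e' : mmul A C = ID) : Act z q g⁻¹ C := by
  have hz : g⁻¹ * z = z * g⁻¹ := (Commute.inv_left (a := g) (b := z) H.1).eq
  refine act_of hz hl fun i hi => ?_
  have h1 := B.act_app H (C.getD i 0)
  have h2 : mapp A (C.getD i 0) = ID.getD i 0 := by
    rw [← e', mmul, mapR_eq]
    simp [List.getD_eq_getElem?_getD, List.getElem?_eq_getElem (hl ▸ hi : i < C.length)]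
  rw [h2, ID_getD hi] at h1
  have := (h1.conj hz).symm B.zz
  convert this using 1
  group

theorem act_word {gs : ℕ → G} {gens : ℕ → List ℕ} {w : List ℕ}
    (H : ∀ x ∈ w, Act z q (gs x) (gens x)) : ∀ {g A}, Act z q g A →
    Act z q (g * evw gs w) (w.foldl (fun a x => mmul a (gens x)) A) := by
  induction w with
  | nil => intro g A h; simpa [evw] using h
  | cons x w ih =>
    intro g A h
    have := ih (fun y hy => H y (List.mem_cons_of_mem _ hy)) (B.act_mul h (H x List.mem_cons_self))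
    simpa [evw, mul_assoc] using this

/-- the matrix of an element modulo signs is unique -/
theorem act_eq (H : Act z q g A) (H' : Act z q g C) {i : ℕ} (hi : i < 20) {j : ℕ} (hj : j < 20) :
    (A.getD i 0).testBit j = (C.getD i 0).testBit j :=
  B.bits_of_ap (((act_get H hi).symm B.zz).trans B.zz (act_get H' hi)) hj

theorem fld_emul (hρ : ρ 0 = 1) {L A : List ℕ}
    (H : List.Forall₂ (fun i a => g * q i * g⁻¹ = el z q ρ a) L A) : ∀ m acc,
    el z q ρ (fld emul A m acc) = el z q ρ acc * (g * EL q L m * g⁻¹) := by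
  induction H with
  | nil => intro m acc; simp [EL]; rfl
  | @cons i a L A h _ ih =>
    intro m acc
    rw [fld_cons, EL, ih]
    split_ifs
    · rw [B.el_emul hρ, ← h]; group
    · rw [one_mul]

theorem rep_app (hρ : ρ 0 = 1) (H : Rep z q ρ g A) (X : ℕ) :
    el z q ρ (aapp A X) = g * el z q ρ X * g⁻¹ := by
  have e1 : e q ((X >>> 20) <<< 20) = 1 :=
    (E_congr q fun i hi => by rw [testBit_shl hi, Nat.zero_testBit]).trans (e_zero q)
  have e2 : el z q ρ ((X >>> 20) <<< 20) = zp z (val ρ (X >>> 20)) := by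
    rw [el, e1, shl_shr (X >>> 20), one_mul]
  refine (B.fld_emul hρ H.2 X _).trans ?_
  change el z q ρ ((X >>> 20) <<< 20) * (g * e q X * g⁻¹) = _
  rw [e2, el, zp_comm (B.e_z X), ← mul_assoc g, zp_comm H.1]
  simp only [mul_assoc]

theorem rep_mul (hρ : ρ 0 = 1) (H : Rep z q ρ g A) (H' : Rep z q ρ h C) :
    Rep z q ρ (g * h) (amul A C) := by
  refine ⟨by rw [mul_assoc, H'.1, ← mul_assoc, H.1, mul_assoc], ?_⟩
  rw [amul, mapR_eq, List.forall₂_map_right_iff]
  refine H'.2.imp fun i a ha => ?_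
  rw [B.rep_app hρ H, ← ha]; group

omit B in
theorem el_xor_shl (m c : ℕ) (hm : m < 2 ^ 20) :
    el z q ρ (m ^^^ (c <<< 20)) = e q m * zp z (val ρ c) := by
  have e2 : e q (m ^^^ (c <<< 20)) = e q m := E_congr q fun i hi => by
    rw [Nat.testBit_xor, testBit_shl hi, Bool.xor_false]
  rw [el, e2, Nat.shiftRight_xor_distrib, shl_shr c, val_xor, Nat.shiftRight_eq_div_pow m,
    Nat.div_eq_of_lt hm, val_zero, zero_add]

theorem rep_inn (hρ : ρ 0 = 1) (m : ℕ) : Rep z q ρ (e q m) (inn m) := by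
  refine ⟨B.e_z m, ?_⟩
  rw [inn, mapR_eq, ID_eq, List.map_map, List.forall₂_map_right_iff, List.forall₂_same]
  intro i hi
  have hi := List.mem_range.1 hi
  refine Eq.trans ?_ (el_xor_shl (2 ^ i) (bf m (2 ^ i)) (Nat.pow_lt_pow_right (by norm_num) hi)).symm
  rw [val_bit hρ (bf_le _ _), ← B.e_conj, e_pow q hi]

omit B in
theorem rep_one : Rep z q ρ 1 ID := by
  refine ⟨by simp, ?_⟩
  rw [ID_eq, List.forall₂_map_right_iff, List.forall₂_same]
  intro i hi
  have hi := List.mem_range.1 hi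
  rw [el_lt z q ρ (Nat.pow_lt_pow_right (by norm_num) hi), e_pow q hi]; simp

theorem rep_word (hρ : ρ 0 = 1) {gs : ℕ → G} {gens : ℕ → List ℕ} {w : List ℕ}
    (H : ∀ x ∈ w, Rep z q ρ (gs x) (gens x)) : ∀ {g A}, Rep z q ρ g A →
    Rep z q ρ (g * evw gs w) (w.foldl (fun a x => amul a (gens x)) A) := by
  induction w with
  | nil => intro g A h; simpa [evw] using h
  | cons x w ih =>
    intro g A h
    have := ih (fun y hy => H y (List.mem_cons_of_mem _ hy))
      (B.rep_mul hρ h (H x List.mem_cons_self))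
    simpa [evw, mul_assoc] using this

omit B in
theorem exists_rho (gs : ℕ → G) (As : ℕ → List ℕ) {n : ℕ} (hn : n ≤ 13)
    (H : ∀ k < n, Act z q (gs k) (As k) ∧ ∀ i < 20, (As k).getD i 0 < 2 ^ 20) :
    ∃ ρ : ℕ → ZMod 2, ρ 0 = 1 ∧ ∀ k < n, Rep z q ρ (gs k) (syR (As k) (21 + 20 * k)) := by
  classical
  refine ⟨fun j => if j = 0 then 1 else if gs ((j - 1) / 20) * q ((j - 1) % 20) * (gs ((j - 1) / 20))⁻¹ =
    e q ((As ((j - 1) / 20)).getD ((j - 1) % 20) 0) then 0 else 1, if_pos rfl, fun k hk => ?_⟩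
  obtain ⟨h1, h2⟩ := H k hk
  have hl := (forall2_range.1 h1.2).1
  refine ⟨h1.1, forall2_range.2 ⟨(syR_length _ _).trans hl, fun i hi => ?_⟩⟩
  have e1 : 1 <<< (21 + 20 * k + i) = (2 ^ (1 + 20 * k + i)) <<< 20 := by
    rw [Nat.shiftLeft_eq, Nat.shiftLeft_eq, one_mul, ← pow_add]; congr 1; ring
  rw [syR_getD _ _ _ (by omega), e1, el_xor_shl _ _ (h2 i hi), val_pow _ (by omega),
    if_neg (by omega), show (1 + 20 * k + i - 1) / 20 = k by omega,
    show (1 + 20 * k + i - 1) % 20 = i by omega]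
  split_ifs with c
  · simpa using c
  · simpa using (act_get h1 hi).resolve_left c

omit B in
theorem rep_eq (H : Rep z q ρ g A) (H' : Rep z q ρ g C) :
    List.Forall₂ (fun a b => el z q ρ a = el z q ρ b) A C := by
  obtain ⟨-, H⟩ := H
  obtain ⟨-, H'⟩ := H'
  generalize List.range 20 = L at H H'
  induction H generalizing C with
  | nil => cases H'; exact .nil
  | cons h _ ih => cases H' with | cons h' H' => exact .cons (h.symm.trans h') (ih H')

theorem rep_ap (H : Rep z q ρ g A) (e' : Ap z h g) : Rep z q ρ h A := by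
  rcases e' with rfl | rfl
  · exact H
  · refine ⟨by rw [← mul_assoc, ← H.1], forall2_range.2 ⟨(forall2_range.1 H.2).1,
      fun i hi => ?_⟩⟩
    rw [← (forall2_range.1 H.2).2 i hi, mul_assoc g, ← B.zq i hi]; group

theorem addEF_spec {a b : ℕ} {rows : List ℕ} {k : List ℕ → Bool} (h : addEF a b rows k = true)
    (hz : ZF ρ rows) (e' : el z q ρ a = el z q ρ b) : ∃ rows', ZF ρ rows' ∧ k rows' = true := by
  unfold addEF at h
  rw [force_eq, band_eq_true, force_eq, force_eq] at h
  obtain ⟨h1, h2⟩ := h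
  have e1 : e q a = e q b := E_congr q fun i hi => by
    have := land_bits h1 hi
    rw [show Nat.xor a b = a ^^^ b from rfl, Nat.testBit_xor, Nat.zero_testBit] at this
    revert this; cases a.testBit i <;> cases b.testBit i <;> simp
  rw [el, el, e1, mul_right_inj] at e'
  have e2 : val ρ (redF rows (enc (Nat.shiftRight (Nat.xor a b) 20)) >>> 32) = 0 := by
    rw [hz.red, enc_shr, show Nat.shiftRight (Nat.xor a b) 20 = (a ^^^ b) >>> 20 from rfl,
      Nat.shiftRight_xor_distrib, val_xor, zp_inj B.z1 e', z2_add]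
  revert h2
  cases Nat.beq _ 0
  · exact fun h2 => ⟨_, fun r hr => (List.mem_cons.1 hr).elim (fun x => x ▸ e2) (hz r), h2⟩
  · exact fun h2 => ⟨_, hz, h2⟩

theorem addPF_spec {k : List ℕ → Bool} {A C : List ℕ}
    (H : List.Forall₂ (fun a b => el z q ρ a = el z q ρ b) A C) : ∀ {rows}, ZF ρ rows →
    addPF A C rows k = true → ∃ rows', ZF ρ rows' ∧ k rows' = true := by
  induction H with
  | nil => exact fun hz h => ⟨_, hz, h⟩
  | @cons a b A C e' _ ih =>
    intro rows hz h
    have h : addEF a b rows (fun rows' => addPF A C rows' k) = true := h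
    obtain ⟨r, hr, h'⟩ := B.addEF_spec h hz e'
    exact ih hr h'

theorem add2F_spec (hρ : ρ 0 = 1) {gs : ℕ → G} {gens : ℕ → List ℕ} {k : List ℕ → Bool}
    {R : List (ℕ × ℕ × ℕ)} (H : ∀ r ∈ R, Rep z q ρ (gs r.1) (gens r.1) ∧
      gs r.1 * el z q ρ r.2.1 * (gs r.1)⁻¹ = el z q ρ r.2.2) : ∀ {rows}, ZF ρ rows →
    add2F gens R rows k = true → ∃ rows', ZF ρ rows' ∧ k rows' = true := by
  induction R with
  | nil => exact fun hz h => ⟨_, hz, h⟩
  | cons r R ih =>
    intro rows hz h
    obtain ⟨h1, h2⟩ := H r List.mem_cons_self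
    have h : addEF (aapp (gens r.1) r.2.1) r.2.2 rows (fun rows' => add2F gens R rows' k) = true := h
    obtain ⟨r, hr, h'⟩ := B.addEF_spec h hz ((B.rep_app hρ h1 _).trans h2)
    exact ih (fun x hx => H x (List.mem_cons_of_mem _ hx)) hr h'

theorem add1F_spec (hρ : ρ 0 = 1) {gs : ℕ → G} {gens : ℕ → List ℕ} {k : List ℕ → Bool}
    (hg : ∀ x, Rep z q ρ (gs x) (gens x)) {R : List (List ℕ × List ℕ × ℕ)}
    (H : ∀ r ∈ R, Ap z (evw gs r.1) (e q r.2.2 * evw gs r.2.1)) : ∀ {rows}, ZF ρ rows →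
    add1F gens R rows k = true → ∃ rows', ZF ρ rows' ∧ k rows' = true := by
  induction R with
  | nil => exact fun hz h => ⟨_, hz, h⟩
  | cons r R ih =>
    intro rows hz h
    have h : addPF _ _ rows _ = true := ((wK_eq _ _ _ _ _).trans
      ((forceL_eq _ _).trans (wK_eq _ _ _ _ _))).symm.trans h
    have h1 := B.rep_word hρ (w := r.1) (fun x _ => hg x) (rep_one (ρ := ρ))
    rw [one_mul] at h1
    replace h1 := B.rep_ap h1 ((H r List.mem_cons_self).symm B.zz)
    obtain ⟨r, hr, h'⟩ := B.addPF_spec (rep_eq h1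
      (B.rep_word hρ (fun x _ => hg x) (B.rep_inn hρ _))) hz h
    exact ih (fun x hx => H x (List.mem_cons_of_mem _ hx)) hr h'

theorem outF_spec (cen : Cen z q) {rows : List ℕ} {L : List (ℕ × ℕ)} (hz : ZF ρ rows) (H : Rep z q ρ g A)
    (h : outOkF rows L A = true) : Ap z g (e q (selx ρ L)) := by
  have key : ∀ i < 20, g * q i * g⁻¹ = e q (selx ρ L) * q i * (e q (selx ρ L))⁻¹ := by
    intro i hi
    have := (allLt_iff _ _).1 h i hi
    rw [force_eq, band_eq_true, force_eq, nth_eq] at this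
    rw [(forall2_range.1 H.2).2 i hi, el, ← enc_shr (A.getD i 0 >>> 20), ← hz.red]
    have h2 : redF rows (enc (A.getD i 0 >>> 20)) >>> 32 = expS L (2 ^ i) := Nat.eq_of_beq_eq_true this.2
    rw [h2, val_expS, ← e_pow q hi, B.e_conj]
    congr 1
    exact E_congr q fun j hj => land_bits this.1 hj
  have hn := B.e_z (selx ρ L)
  generalize e q (selx ρ L) = n at key hn
  rcases cen (n⁻¹ * g) (by rw [mul_assoc, H.1, ← mul_assoc, (Commute.inv_left (a := n) (b := z) hn).eq,
    mul_assoc]) (fun i hi => by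
      have := key i hi
      calc n⁻¹ * g * q i = n⁻¹ * (g * q i * g⁻¹) * g := by group
        _ = _ := by rw [this]; group) with c | c
  · exact Or.inl (inv_mul_eq_one.1 c).symm
  · exact Or.inr (inv_mul_eq_iff_eq_mul.1 c)

end Bas

end H48.ER
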