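import Cfsg.Agent.Lib.ERec.Dat
import Cfsg.Agent.Lib.ERec.Basic
import Cfsg.Agent.Lib.YM.Fr

/-!
Coordinates in the extraspecial group of a group of type 2E6(2); the sign changes; relabelling of the frame.
-/

set_option autoImplicit false
set_option maxRecDepth 100000
set_option linter.unusedSectionVars false

namespace H48.ER

open Cfsg H54 H16 Subgroup H77.YM
open H95 hiding zp zp_zero zp_one zp_add zp_inj zp_comm
open H21.ER (Cw Pq cw_iff)

theorem bv_spec {i : ℕ} (hi : i < 20) : isV (nth BV i) = true ∧ dotC (nth BV i) (nth BV i) % 32 = 0 ∧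
    dotC (nth BV i) (nth BV i) ≤ 64 ∧ dotC (nth BV i) UC % 16 = 0 ∧ dotC (nth BV i) XC % 16 = 0 ∧
      ∀ j < 20, dotC (nth BV i) (nth BV j) % 16 = if i = j + 10 ∨ j = i + 10 then 8 else 0 := by
  have := (allLt_iff _ _).1 bv_chk i hi
  simp only [force_eq, band_eq_true, decide_eq_true_eq, allLt_iff] at this
  exact ⟨this.1, this.2.1.1, this.2.1.2.1, this.2.1.2.2.1, this.2.1.2.2.2, this.2.2⟩

theorem par_land0 (x : ℕ) : (par (Nat.land x 511) : ZMod 2) = ∑ j ∈ Finset.range 9, bt x j := by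
  rw [show Nat.land x 511 = x &&& 511 from rfl,
    par_spec (lt_of_le_of_lt (Nat.and_le_right : x &&& 511 ≤ 511) (by norm_num)), Finset.sum_range_succ,
    Finset.sum_range_succ, Finset.sum_range_succ, bt_and x 511 11, bt_and x 511 10, bt_and x 511 9,
    show bt 511 11 = 0 by decide, show bt 511 10 = 0 by decide, show bt 511 9 = 0 by decide, mul_zero, mul_zero,
    mul_zero, add_zero, add_zero, add_zero]
  refine Finset.sum_congr rfl fun j hj => ?_
  have : bt 511 j = 1 := by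
    have := Finset.mem_range.1 hj
    interval_cases j <;> decide
  rw [bt_and, this, mul_one]

noncomputable def cv (m : ℕ) : L2 := ((selL BV m).map clsC).sum

theorem isC_spec {a m : ℕ} (h : isC a m = true) {v : leechLattice} (hv : mk2 v = cv m) : Cw v (lv a) := by
  unfold isC at h
  simp only [bor_eq_true] at h
  have h2 := L2_add_self (clsC a)
  have hU : clsC UC = mk2 vU := congrArg mk2 code_U.lv_eq
  have hX : clsC XC = mk2 vX := congrArg mk2 code_X.lv_eq
  rw [cw_iff]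
  rcases h with (h | h) | h | h <;> have := zs_spec h <;> simp only [List.map_cons, List.sum_cons] at this <;>
    replace this := (add_left_cancel (h2.trans this.symm)).symm
  · exact Or.inl (mk2_eq.1 (hv.trans this))
  · exact Or.inr (Or.inl (mk2_eq.1 (by rw [map_add, hv, ← hU, add_comm]; exact this)))
  · exact Or.inr (Or.inr (Or.inl (mk2_eq.1 (by rw [map_add, hv, ← hX, add_comm]; exact this))))
  · refine Or.inr (Or.inr (Or.inr (mk2_eq.1 ?_)))
    rw [map_add, map_add, hv, ← hU, ← hX, add_comm, add_comm (cv m)]; exact this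

noncomputable def EtL (Es : List (List ℕ)) : ℕ → List ℕ :=
  List.rec (motive := fun _ => ℕ → List ℕ) (fun _ => ID)
    (fun E _ ih t => forceL (ih (Nat.shiftRight t 1)) fun X => sel (od t) (mmul E X) X) Es

theorem EtL_cons (E : List ℕ) (Es : List (List ℕ)) (t : ℕ) : EtL (E :: Es) t =
    if t.testBit 0 then mmul E (EtL Es (t >>> 1)) else EtL Es (t >>> 1) := by
  rw [← od_eq, ← sel_eq]; exact forceL_eq _ _

/-- the matrix of the sign change number `t` -/
noncomputable def Et (t : ℕ) : List ℕ := EtL EK t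

noncomputable def faL (m : ℕ) (Es : List (List ℕ)) : ℕ → Bool :=
  List.rec (motive := fun _ => ℕ → Bool) (fun _ => true)
    (fun E _ ih a => band (Nat.beq (mapp E m) (sel (od a) (Nat.xor m 32) m))
      (ih (Nat.shiftRight a 1))) Es

/-- the sign changes move the class `m` by multiples of the class of the frame, according to `a` -/
noncomputable def faOk (m a : ℕ) : Bool := band (Nat.beq (be m 32) 0) (faL m EK a)

theorem CBL_mem : ∀ b ∈ CBL, H15.ofMask b ∈ code := fun b hb =>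
  H15.ofMask_mem_of_isCode ((by decide +kernel : ∀ b ∈ CBL, H15.isCode b = true) b hb)

noncomputable def ep (t : ℕ) : Co0 := eps (H15.ofMask (H15.encL CBL t)) (H15.encL_mem_codeSets CBL_mem t)

/-- the stabiliser of `u` and `x` -/
def InU (γ : Co0) : Prop := γ • vU = vU ∧ γ • vX = vX

theorem InU.one : InU 1 := ⟨one_smul _ _, one_smul _ _⟩

theorem InU.mul {γ δ : Co0} (h : InU γ) (k : InU δ) : InU (γ * δ) :=
  ⟨by rw [mul_smul, k.1, h.1], by rw [mul_smul, k.2, h.2]⟩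

theorem exists_ep {γ : Co0} (hU : InU γ) (h : γ ∈ epsGroup) : ∃ t < 512, γ = ep t := by
  obtain ⟨c, hc, rfl⟩ := mem_epsGroup.1 h
  obtain ⟨m, hm, rfl⟩ := H15.exists_isCode_of_mem_codeSets hc
  obtain ⟨u, hu, rfl⟩ := H15.isCode_iff.1 hm
  have h3 : ∀ i < 24, ∀ v : leechLattice, eps _ hc • v = v → (v : GolayPt → ℤ) (H15.pt i) = 4 →
      tb (H15.cw u) i = false := fun i hi v h2 c3 => by
    by_contra c
    have c1 : H15.pt i ∈ H15.ofMask (H15.cw u) := by
      rw [H15.mem_ofMask, H15.idx_pt hi, ← tb_eq]; simpa using c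
    have c2 := congrArg (fun v : leechLattice => (v : GolayPt → ℤ) (H15.pt i)) h2
    simp only [eps_smul_apply, if_pos c1] at c2
    omega
  have h4 := (allLt_iff _ _).1 cb_chk u hu
  rw [force_eq, h3 0 (by norm_num) _ hU.1 (by decide +kernel), h3 23 (by norm_num) _ hU.1 (by decide +kernel),
    h3 1 (by norm_num) _ hU.2 (by rw [← code_X.2]; decide +kernel), bor_eq_true, bor_eq_true, bor_eq_true,
    Nat.beq_eq] at h4
  simp only [Bool.false_eq_true, false_or] at h4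
  exact ⟨_, Nat.lt_succ_of_le (Nat.and_le_right : (u >>> 2) &&& 511 ≤ 511), by simp only [ep, h4]; rfl⟩

/-- the span of `u` and `x` -/
noncomputable def SpL : AddSubgroup leechLattice := AddSubgroup.closure {vU, vX}

theorem U_mem : vU ∈ SpL := AddSubgroup.subset_closure (by simp)
theorem X_mem : vX ∈ SpL := AddSubgroup.subset_closure (by simp)

theorem cw_add {s : leechLattice} (hs : s ∈ SpL) : ∀ v, Cw v (v + s) := by
  induction hs using AddSubgroup.closure_induction with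
  | mem x hx =>
    rcases hx with rfl | rfl
    exacts [H21.ER.cw_add_U, H21.ER.cw_add_X]
  | zero => intro v; rw [add_zero]; exact H21.ER.Cw.refl v
  | add a b _ _ ha hb => intro v; rw [← add_assoc]; exact (ha v).trans (hb _)
  | neg a _ ha => intro v; have := (ha (v + -a)).symm; rwa [neg_add_cancel_right] at this

/-- `n` preserves the span -/
def Sp (n : Co0) : Prop := n • vU ∈ SpL ∧ n • vX ∈ SpL

theorem Sp.cw {n : Co0} (h : Sp n) {v w : leechLattice} (e : Cw v w) : Cw (n • v) (n • w) := by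
  rcases cw_iff.1 e with e | e | e | e <;> refine H21.ER.Cw.trans ?_ (H21.ER.Cw.of_cg (e.smul n))
  · exact H21.ER.Cw.refl _
  · rw [smul_add]; exact cw_add h.1 _
  · rw [smul_add]; exact cw_add h.2 _
  · rw [smul_add, smul_add]; exact (cw_add h.2 _).trans (cw_add h.1 _)

theorem InU.fix {γ : Co0} (h : InU γ) {s : leechLattice} (hs : s ∈ SpL) : γ • s = s := by
  induction hs using AddSubgroup.closure_induction with
  | mem x hx =>
    rcases hx with rfl | rfl
    exacts [h.1, h.2]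
  | zero => exact smul_zero γ
  | add a b _ _ ha hb => rw [smul_add, ha, hb]
  | neg a _ ha => rw [smul_neg, ha]

theorem InU.conj {γ n : Co0} (h : InU γ) (hn : Sp n) : InU (n⁻¹ * γ * n) :=
  ⟨by rw [mul_smul, mul_smul, h.fix hn.1, inv_smul_smul], by rw [mul_smul, mul_smul, h.fix hn.2, inv_smul_smul]⟩

theorem eps_conj {γ n : Co0} (h : γ ∈ epsGroup) (hn : n ∈ monoGroup) : n * γ * n⁻¹ ∈ epsGroup := by
  obtain ⟨c, hc, rfl⟩ := mem_epsGroup.1 h
  obtain ⟨σ, hσ, d, hd, rfl⟩ := hn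
  rw [mono_eq_eps_mul, mul_assoc (eps d hd), permHom_mul_eps, mul_inv_rev, mul_assoc, mul_assoc,
    mul_inv_cancel_left]
  exact mul_mem ⟨_, _, rfl⟩ (mul_mem ⟨_, _, rfl⟩ (inv_mem ⟨_, _, rfl⟩))

variable {G : Type*} [Group G]

/-- `g` induces `γ` -/
def Ind (z : G) (cls : leechLattice → G → Prop) (γ : Co0) (g : G) : Prop :=
  g * z = z * g ∧ ∀ v x, cls v x → cls (γ • v) (g * x * g⁻¹)

theorem Ind.one (z : G) (cls : leechLattice → G → Prop) : Ind z cls 1 1 :=
  ⟨by simp, fun v x h => by simpa using h⟩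

theorem Ind.mul {z a b : G} {cls : leechLattice → G → Prop} {γ δ : Co0} (h : Ind z cls γ a)
    (k : Ind z cls δ b) : Ind z cls (γ * δ) (a * b) :=
  ⟨by rw [mul_assoc, k.1, ← mul_assoc, h.1, mul_assoc], fun v x c => by
    have := h.2 _ _ (k.2 v x c)
    rwa [← mul_smul, show a * (b * x * b⁻¹) * a⁻¹ = a * b * x * (a * b)⁻¹ by group] at this⟩

structure Fr (z : G) (Q : Subgroup G) (cls : leechLattice → G → Prop) (q : ℕ → G) : Prop where
  h : L3 Q z
  card : Nat.card Q = 2 ^ 21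
  bas : Bas z q
  mem : ∀ {v x}, cls v x → x ∈ Q
  zero : cls 0 1
  add : ∀ {v w x y}, cls v x → cls w y → cls (v + w) (x * y)
  eq_iff : ∀ {v w x y}, cls v x → cls w y → (Cw v w ↔ y = x ∨ y = x * z)
  congr : ∀ {v w x}, cls v x → Cw v w → cls w x
  mul_z : ∀ {v x}, cls v x → cls v (x * z)
  lift : ∀ γ, InU γ → ∃ g, Ind z cls γ g
  hq : ∀ i < 20, cls (lv (nth BV i)) (q i)
  conj : ∀ {w}, cls (e8 none) w → IsConj z w
  img1 : ∀ {w b}, cls (e8 none) w → b ∈ QW Q z w → b * z = z * b → ∃ γ ∈ epsGroup, InU γ ∧ Ind z cls γ b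
  img2 : ∀ {w γ}, cls (e8 none) w → γ ∈ epsGroup → InU γ → ∃ b ∈ QW Q z w, Ind z cls γ b

def IsA (z : G) (cls : leechLattice → G → Prop) (q : ℕ → G) (γ : Co0) (A : List ℕ) : Prop :=
  InU γ ∧ ∀ g, Ind z cls γ g → Act z q g A

theorem okB_spec {P u x : ℕ} {γ : Co0} (hP : IsM P γ) {A : List ℕ} (h : okB P u x A = true) :
    A.length = 20 ∧ lv u = γ • vU ∧ lv x = γ • vX ∧
      ∀ i < 20, ∃ a, lv a = γ • lv (nth BV i) ∧ isC a (A.getD i 0) = true := by
  unfold okB at h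
  rw [force_eq, band_eq_true, band_eq_true, band_eq_true, allLt_iff, Nat.beq_eq, Nat.beq_eq, Nat.beq_eq,
    len_eq] at h
  refine ⟨h.1, ?_, ?_, fun i hi => ⟨_, (hP.app (code_lv (bv_spec hi).1) (by
    rw [(code_lv (bv_spec hi).1).norm]; linarith [(bv_spec hi).2.2.1])).lv_eq, ?_⟩⟩
  · exact h.2.1.1 ▸ (hP.app code_U (by rw [norm_U]; norm_num)).lv_eq
  · exact h.2.1.2 ▸ (hP.app code_X (by rw [norm_X]; norm_num)).lv_eq
  · have h2 := h.2.2 i hi
    rwa [force_eq, nth_eq A] at h2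

namespace Fr

variable {z : G} {Q : Subgroup G} {cls : leechLattice → G → Prop} {q : ℕ → G} (F : Fr z Q cls q)
include F

theorem cl_mul {a b : L2} {x y : G} (hx : Cl cls a x) (hy : Cl cls b y) : Cl cls (a + b) (x * y) := by
  obtain ⟨v, rfl, hv⟩ := hx
  obtain ⟨w, rfl, hw⟩ := hy
  exact ⟨v + w, map_add _ _ _, F.add hv hw⟩

theorem cl_ap {a : L2} {x y : G} (hx : Cl cls a x) (hy : Cl cls a y) : Ap z y x := by
  obtain ⟨v, rfl, hv⟩ := hx
  obtain ⟨w, e, hw⟩ := hy
  exact (F.eq_iff hv hw).1 (H21.ER.Cw.of_cg (mk2_eq.1 e.symm))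

theorem cl_of_ap {a : L2} {x y : G} (hx : Cl cls a x) (h : Ap z y x) : Cl cls a y := by
  obtain ⟨v, rfl, hv⟩ := hx
  rcases h with rfl | rfl
  exacts [⟨v, rfl, hv⟩, ⟨v, rfl, F.mul_z hv⟩]

theorem cl_EL {L A : List ℕ} (H : List.Forall₂ (fun i a => cls (lv a) (q i)) L A) :
    ∀ m, Cl cls ((selL A m).map clsC).sum (EL q L m) := by
  induction H with
  | nil => exact fun _ => ⟨0, map_zero _, F.zero⟩
  | @cons i a L A h _ ih =>
    intro m
    have e1 : selL (a :: A) m = Bool.rec (selL A (m / 2)) (a :: selL A (m / 2)) (Nat.beq (m % 2) 1) := rfl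
    rw [EL, e1, Nat.testBit_zero, Nat.shiftRight_one]
    rcases Nat.mod_two_eq_zero_or_one m with c | c <;> rw [c]
    · rw [if_neg (by decide), one_mul]; exact ih (m / 2)
    · rw [if_pos (by decide)]; exact F.cl_mul ⟨_, rfl, h⟩ (ih (m / 2))

theorem cl_e (m : ℕ) : Cl cls (cv m) (e q m) :=
  F.cl_EL (forall2_range.2 ⟨rfl, fun i hi => nth_eq BV i ▸ F.hq i hi⟩) m

theorem e_mem (m : ℕ) : e q m ∈ Q := by
  obtain ⟨v, -, hv⟩ := F.cl_e m
  exact F.mem hv

theorem cls_of_isC {a m : ℕ} (h : isC a m = true) {x : G} (hx : Ap z x (e q m)) : cls (lv a) x := by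
  obtain ⟨v, e, hv⟩ := F.cl_of_ap (F.cl_e m) hx
  exact F.congr hv (isC_spec h e)

theorem isA_of_okA {P : ℕ} {γ : Co0} (hP : IsM P γ) {A : List ℕ} (h : okA P A = true) :
    IsA z cls q γ A := by
  obtain ⟨h1, h2, h3, h4⟩ := okB_spec hP h
  refine ⟨⟨h2.symm.trans code_U.lv_eq, h3.symm.trans code_X.lv_eq⟩, fun g hg => Bas.act_of hg.1 h1 fun i hi => ?_⟩
  obtain ⟨a, e1, e2⟩ := h4 i hi
  have h3 := F.cls_of_isC e2 (Ap.refl _ _)
  rw [e1] at h3
  exact (F.eq_iff h3 (hg.2 _ _ (F.hq i hi))).1 (H21.ER.Cw.refl _)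

theorem cls_y {w : G} (h : Ap z w (e q 32)) : cls (e8 none) w := by
  have := F.cls_of_isC y_chk h
  rwa [(code_e8C (by norm_num)).lv_eq] at this

theorem lift_act {P : ℕ} {A : List ℕ} (h : band (okM P) (okA P A) = true) : ∃ g, Act z q g A := by
  rw [band_eq_true] at h
  have := F.isA_of_okA (isM_el h.1) h.2
  obtain ⟨g, hg⟩ := F.lift _ this.1
  exact ⟨g, this.2 g hg⟩

theorem ind_ap {γ : Co0} {g k : G} (hg : Ind z cls γ g) (hk : Ind z cls γ k) (m : ℕ) :
    Ap z (g * e q m * g⁻¹) (k * e q m * k⁻¹) := by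
  obtain ⟨v, -, hv⟩ := F.cl_e m
  exact (F.eq_iff (hk.2 _ _ hv) (hg.2 _ _ hv)).1 (H21.ER.Cw.refl _)

theorem isA_of {γ : Co0} {A : List ℕ} {k : G} (hU : InU γ) (hk : Ind z cls γ k) (h : Act z q k A) :
    IsA z cls q γ A :=
  ⟨hU, fun g hg => Bas.act_of hg.1 (forall2_range.1 h.2).1 fun i hi => by
    have := F.ind_ap hg hk (2 ^ i)
    rw [e_pow q hi] at this
    exact this.trans F.bas.zz (Bas.act_get h hi)⟩

theorem eps_ind {L : List ℕ} {Es : List (List ℕ)}
    (H : List.Forall₂ (fun b E => ∃ hb, IsA z cls q (eps (H15.ofMask b) hb) E ∧ mapp E 32 = 32) L Es)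
    (hL : ∀ b ∈ L, H15.ofMask b ∈ code) : ∀ t, InU (eps _ (H15.encL_mem_codeSets hL t)) ∧
      ∃ g, Ind z cls (eps _ (H15.encL_mem_codeSets hL t)) g ∧ Act z q g (EtL Es t) ∧
      Ap z (g * e q 32 * g⁻¹) (e q 32) ∧ ∀ m a, be m 32 = 0 → faL m Es a = true →
      Ap z (g * e q m * g⁻¹)
        (e q m * zp (e q 32) (∑ j ∈ Finset.range Es.length, bt t j * bt a j)) := by
  have B := F.bas
  induction H with
  | nil =>
    intro t
    have e1 : eps _ (H15.encL_mem_codeSets hL t) = 1 := by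
      rw [← eps_empty]; simp only [H15.encL_nil, H15.ofMask_zero]
    rw [e1]
    exact ⟨InU.one, 1, Ind.one _ _, Bas.act_one, by simpa using Ap.refl _ _, fun m a _ _ => by simp [Ap]⟩
  | @cons b E L Es h _ ih =>
    intro t
    obtain ⟨hb, h1, h2⟩ := h
    have hL' : ∀ b ∈ L, H15.ofMask b ∈ code := fun c hc => hL c (List.mem_cons_of_mem _ hc)
    obtain ⟨i1, v, hv, i2, j1, j2⟩ := ih hL' (t >>> 1)
    rw [H77.YM.Fr.eps_cons hb hL', EtL_cons]
    have yy : e q 32 * e q 32 = 1 := B.e_sq (by decide +kernel)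
    have hs : ∀ a, ∑ j ∈ Finset.range (E :: Es).length, bt t j * bt a j =
        bt t 0 * bt a 0 + ∑ j ∈ Finset.range Es.length, bt (t >>> 1) j * bt (a >>> 1) j := by
      intro a
      rw [List.length_cons, Finset.sum_range_succ', add_comm]
      simp only [bt_shr, add_comm 1]
    split_ifs with c
    · obtain ⟨u, hu'⟩ := F.lift _ h1.1
      have hu := h1.2 u hu'
      have k1 := B.act_app hu 32
      rw [h2] at k1
      have k2 : ∀ x, u * v * x * (u * v)⁻¹ = u * (v * x * v⁻¹) * u⁻¹ := fun x => by group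
      refine ⟨h1.1.mul i1, u * v, hu'.mul hv, B.act_mul hu i2, k2 _ ▸ (j1.conj hu.1).trans B.zz k1,
        fun m a h0 ha => ?_⟩
      have ha : band (Nat.beq (mapp E m) (sel (od a) (m ^^^ 32) m)) (faL m Es (a >>> 1)) = true := ha
      rw [band_eq_true, Nat.beq_eq, od_eq] at ha
      rw [k2, hs, zp_add yy, ← mul_assoc (e q m)]
      refine ((j2 m _ h0 ha.2).conj hu.1).trans B.zz ?_
      generalize (∑ j ∈ Finset.range Es.length, bt (t >>> 1) j * bt (a >>> 1) j) = s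
      have k3 : e q (mapp E m) = e q m * zp (e q 32) (bt t 0 * bt a 0) := by
        rw [ha.1, bt, bt, if_pos c, one_mul]
        cases a.testBit 0
        · simp
        · simp [B.e_mul0 h0]
      rw [show u * (e q m * zp (e q 32) s) * u⁻¹ = u * e q m * u⁻¹ * (u * zp (e q 32) s * u⁻¹) by group, ← k3]
      refine (B.act_app hu m).mul B.zz ?_ (zp_comm (B.e_z 32).symm s).symm
      rcases z2 s with rfl | rfl
      · simpa using Ap.refl _ _
      · simpa using k1
    · rw [one_mul]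
      refine ⟨i1, v, hv, i2, j1, fun m a h0 ha => ?_⟩
      have ha : band (Nat.beq (mapp E m) (sel (od a) (m ^^^ 32) m)) (faL m Es (a >>> 1)) = true := ha
      rw [band_eq_true] at ha
      rw [hs, bt, if_neg c, zero_mul, zero_add]
      exact j2 m _ h0 ha.2

theorem ek_spec : List.Forall₂ (fun b E => ∃ hb, IsA z cls q (eps (H15.ofMask b) hb) E ∧ mapp E 32 = 32)
    CBL EK := by
  refine List.forall₂_iff_get.2 ⟨rfl, fun i h1 h2 => ?_⟩
  have := (allLt_iff _ _).1 ek_chk i h1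
  rw [band_eq_true, nth_eq, List.getD_eq_getElem _ _ h1, List.getD_eq_getElem _ _ h2] at this
  exact ⟨_, F.isA_of_okA (isM_eps this.1) this.2,
    (by decide +kernel : ∀ E ∈ EK, mapp E 32 = 32) _ (List.get_mem _ _)⟩

theorem ep_mem (t : ℕ) : InU (ep t) := (F.eps_ind F.ek_spec CBL_mem t).1

theorem ep_spec (t : ℕ) {g : G} (hg : Ind z cls (ep t) g) :
    Act z q g (Et t) ∧ ∀ m a, faOk m a = true →
      Ap z (g * e q m * g⁻¹) (e q m * zp (e q 32) (par (Nat.land (Nat.land t a) 511))) := by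
  obtain ⟨h0, k, hk, h1, -, h2⟩ := F.eps_ind F.ek_spec CBL_mem t
  refine ⟨(F.isA_of h0 hk h1).2 g hg, fun m a h => ?_⟩
  unfold faOk at h
  rw [band_eq_true, Nat.beq_eq] at h
  rw [par_land0]
  simp only [show Nat.land t a = t &&& a from rfl, bt_and]
  exact (F.ind_ap hg hk m).trans F.bas.zz (h2 m a h.1 h.2)

theorem yy : e q 32 * e q 32 = 1 := F.bas.e_sq (by decide +kernel)

theorem not_ap_y : ¬ Ap z (e q 32) 1 := fun h => by
  have := F.bas.bits_of_ap_one h (i := 5) (by norm_num)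
  revert this; decide

theorem ap_y_inj {x : G} {s t : ZMod 2} (h : Ap z (x * zp (e q 32) s) (x * zp (e q 32) t)) : s = t := by
  have h := h.mul_left x⁻¹
  rw [inv_mul_cancel_left, inv_mul_cancel_left] at h
  rcases z2 s with rfl | rfl <;> rcases z2 t with rfl | rfl
  · rfl
  · exact absurd (by simpa using h.symm F.bas.zz) F.not_ap_y
  · exact absurd (by simpa using h) F.not_ap_y
  · rfl

theorem conj5 : IsConj z (q 5) :=
  e_pow q (i := 5) (by norm_num) ▸ F.conj (F.cls_y (Ap.refl _ _))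

/-- the frame twisted by a monomial element that preserves the span of `u` and `x` -/
theorem twist {n : Co0} (hn : n ∈ monoGroup) (h1 : Sp n) (h2 : Sp n⁻¹) {q' : ℕ → G} (B : Bas z q')
    (hq : ∀ i < 20, cls (n • lv (nth BV i)) (q' i)) : Fr z Q (fun v x => cls (n • v) x) q' := by
  have e8' : ∀ {w}, cls (n • e8 none) w → cls (e8 none) w := fun h =>
    F.congr h (H21.ER.Cw.of_cg (mem_monoGroup_iff_cg.1 hn))
  have ind : ∀ {γ g}, Ind z cls (n * γ * n⁻¹) g → Ind z (fun v x => cls (n • v) x) γ g := fun h =>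
    ⟨h.1, fun v x c => by simpa [mul_smul] using h.2 _ _ c⟩
  refine ⟨F.h, F.card, B, F.mem, by simpa using F.zero, fun a b => by simpa using F.add a b,
    fun a b => ?_, fun a c => F.congr a (h1.cw c), F.mul_z, fun γ hγ => ?_, hq, fun h => F.conj (e8' h),
    fun h hb hz => ?_, fun h hγ hU => ?_⟩
  · rw [← F.eq_iff a b]
    exact ⟨h1.cw, fun c => by simpa using h2.cw c⟩
  · obtain ⟨g, hg⟩ := F.lift _ (hγ.conj h2)
    exact ⟨g, ind (by simpa using hg)⟩
  · obtain ⟨γ, a, b, c⟩ := F.img1 (e8' h) hb hz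
    exact ⟨n⁻¹ * γ * n, by simpa using eps_conj a (inv_mem hn), b.conj h1, ind (by simpa [mul_assoc] using c)⟩
  · obtain ⟨b, a, c⟩ := F.img2 (e8' h) (eps_conj hγ hn) (by simpa using hU.conj h2)
    exact ⟨b, a, ind c⟩

/-- the frame conjugated by an element of the centraliser of `z` -/
theorem conjF {k : G} (hk : k * z = z * k) {q' : ℕ → G} (B : Bas z q') (hq : ∀ i < 20, q' i = k * q i * k⁻¹) :
    Fr z Q (fun v x => cls v (k⁻¹ * x * k)) q' := by
  have kz : Commute k z := hk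
  have ez : ∀ x, k⁻¹ * (x * z) * k = k⁻¹ * x * k * z := fun x => by
    rw [mul_assoc, mul_assoc, ← hk]; group
  have ind : ∀ {γ g}, Ind z cls γ g → Ind z (fun v x => cls v (k⁻¹ * x * k)) γ (k * g * k⁻¹) := fun {γ g} h =>
    ⟨((kz.mul_left h.1).mul_left kz.inv_left).eq, fun v x c => by
      have := h.2 _ _ c
      rwa [show g * (k⁻¹ * x * k) * g⁻¹ = k⁻¹ * (k * g * k⁻¹ * x * (k * g * k⁻¹)⁻¹) * k by group] at this⟩
  refine ⟨F.h, F.card, B, fun {v x} h => ?_, by simpa using F.zero, fun {v w x y} a b => ?_,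
    fun {v w x y} a b => ?_, fun a c => F.congr a c, fun {v x} a => ?_, fun γ hγ => ?_, fun i hi => ?_,
    fun {w} h => ?_, fun {w b} h hb hz => ?_, fun {w γ} h hγ hU => ?_⟩
  · have := conj_mem_of_normalizer (F.h.norm k hk) (F.mem h)
    rwa [show k * (k⁻¹ * x * k) * k⁻¹ = x by group] at this
  · have := F.add a b
    rwa [show k⁻¹ * x * k * (k⁻¹ * y * k) = k⁻¹ * (x * y) * k by group] at this
  · rw [F.eq_iff a b, ← ez]
    simp only [mul_left_inj, mul_right_inj]
  · show cls v (k⁻¹ * (x * z) * k)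
    rw [ez]; exact F.mul_z a
  · obtain ⟨g, hg⟩ := F.lift γ hγ
    exact ⟨_, ind hg⟩
  · show cls _ (k⁻¹ * q' i * k)
    rw [hq i hi, show k⁻¹ * (k * q i * k⁻¹) * k = q i by group]; exact F.hq i hi
  · exact (F.conj h).trans (isConj_iff.2 ⟨k, by group⟩)
  · obtain ⟨γ, a, c, d⟩ := F.img1 (b := k⁻¹ * b * k) h (by simpa using QW_conj hb k⁻¹)
      ((kz.inv_left.mul_left hz).mul_left kz).eq
    exact ⟨γ, a, c, by simpa [mul_assoc] using ind d⟩
  · obtain ⟨b, a, c⟩ := F.img2 h hγ hU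
    exact ⟨_, QW_conj' a (by group), ind c⟩

variable [Finite G]

theorem ex_e (x : G) (hx : x ∈ Q) : ∃ m < 2 ^ 20, Ap z x (e q m) := by
  have B := F.bas
  let f : Fin (2 ^ 20) × ZMod 2 → Q := fun p => ⟨e q p.1 * zp z p.2, (ap_zp _ _ _).mem F.h.mem (F.e_mem _)⟩
  have hf : Function.Injective f := by
    rintro ⟨a, s⟩ ⟨b, t⟩ h
    have h : e q a * zp z s = e q b * zp z t := congrArg Subtype.val h
    obtain rfl : a = b := Fin.ext (B.eq_of_ap (((ap_zp _ _ s).symm B.zz).trans B.zz (h ▸ ap_zp _ _ t)) a.2 b.2)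
    rw [zp_inj B.z1 (mul_left_cancel h)]
  obtain ⟨p, hp⟩ := (hf.bijective_of_nat_card_le (by
    rw [F.card, Nat.card_prod, Nat.card_zmod, Nat.card_eq_fintype_card, Fintype.card_fin]; norm_num)).2 ⟨x, hx⟩
  have hp' : e q p.1 * zp z p.2 = x := congrArg Subtype.val hp
  exact ⟨p.1, p.1.2, hp' ▸ ap_zp _ _ _⟩

theorem le_of_gens {H : Subgroup G} (hz : z ∈ H) (hq : ∀ i < 20, q i ∈ H) : Q ≤ H := fun x hx => by
  obtain ⟨m, -, h⟩ := F.ex_e x hx
  exact h.mem hz (E_ind q (P := (· ∈ H)) H.one_mem (fun _ _ => H.mul_mem) fun i hi _ => hq i hi)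

theorem cen : Cen z q := fun x hz hq => F.h.cent x fun _ hy => mem_cent_iff.1 (F.le_of_gens (H := centralizer {x})
    (mem_cent_iff.2 hz.symm) (fun i hi => mem_cent_iff.2 (hq i hi).symm) hy)

/-- `w` lies over a frame: it is carried to the standard one by `d⁻¹` -/
theorem good {w d : G} (hd : d * z = z * d) (h : Ap z (d⁻¹ * w * d) (e q 32)) :
    Pair Q (QW Q z w) z w ∧ Nat.card (QW Q z w) = 2 ^ 21 := by
  obtain ⟨g, hg⟩ := isConj_iff.1 (F.conj (F.cls_y h))
  have e1 : d * g * z * (d * g)⁻¹ = w := by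
    rw [show d * g * z * (d * g)⁻¹ = d * (g * z * g⁻¹) * d⁻¹ by group, hg]; group
  have e2 : w ∈ Q := by
    have := conj_mem_of_normalizer (F.h.norm d hd) (F.mem (F.cls_y h))
    rwa [show d * (d⁻¹ * w * d) * d⁻¹ = w by group] at this
  have e3 : w ≠ z := by
    rintro rfl
    rw [mul_assoc, ← hd, inv_mul_cancel_left] at h
    exact F.not_ap_y ((h.symm F.bas.zz).trans F.bas.zz (Or.inr (one_mul _).symm))
  subst e1
  rw [QW_eq F.h]
  exact ⟨F.h.pair (by rw [F.card]; norm_num) e2 e3,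
    by rw [card_map_of_injective (MulAut.conj (d * g)).injective, F.card]⟩

omit [Finite G] in
theorem eps_std {w b : G} (h : Ap z w (e q 32)) (hb : b ∈ QW Q z w) (hz : b * z = z * b) :
    ∃ t < 512, Ind z cls (ep t) b := by
  obtain ⟨γ, h1, h2, h3⟩ := F.img1 (F.cls_y h) hb hz
  obtain ⟨t, ht, rfl⟩ := exists_ep h2 h1
  exact ⟨t, ht, h3⟩

omit [Finite G] in
theorem ex_eps_std {w : G} (h : Ap z w (e q 32)) (t : ℕ) : ∃ b ∈ QW Q z w, Ind z cls (ep t) b :=
  F.img2 (F.cls_y h) ⟨_, H15.encL_mem_codeSets CBL_mem t, rfl⟩ (F.ep_mem t)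

theorem ex_eps {w d : G} {D D' : List ℕ} (hd : Act z q d D) (hd' : Act z q d⁻¹ D')
    (h : Ap z (d⁻¹ * w * d) (e q 32)) (t : ℕ) :
    ∃ b ∈ QW Q z w, Act z q b (mmul D (mmul (Et t) D')) := by
  obtain ⟨b, h1, h2⟩ := F.ex_eps_std h t
  refine ⟨d * (b * d⁻¹), ?_, F.bas.act_mul hd (F.bas.act_mul (F.ep_spec t h2).1 hd')⟩
  rw [← mul_assoc]
  exact QW_conj' h1 (by group)

/-- constraints `(h, ε, a)`: the element moves the class `h` by `ε` times the class of the frame -/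
noncomputable def consOk (D' : List ℕ) (C : List (ℕ × ℕ × ℕ)) : Bool :=
  allL (fun c => band (Nat.ble c.2.1 1) (force (mapp D' c.1) fun m => faOk m c.2.2)) C

noncomputable def okT (C : List (ℕ × ℕ × ℕ)) (t : ℕ) : Bool :=
  allL (fun c => Nat.beq (par (Nat.land (Nat.land t c.2.2) 511)) c.2.1) C

theorem eps_act {w d b : G} {D D' : List ℕ} (hd : Act z q d D) (hd' : Act z q d⁻¹ D')
    (h : Ap z (d⁻¹ * w * d) (e q 32)) (hb : b ∈ QW Q z w) (hz : b * z = z * b)
    {C : List (ℕ × ℕ × ℕ)} (hC : consOk D' C = true)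
    (H : ∀ c ∈ C, Ap z (b * e q c.1 * b⁻¹) (e q c.1 * zp w c.2.1)) :
    ∃ t < 512, okT C t = true ∧ Act z q b (mmul D (mmul (Et t) D')) := by
  have B := F.bas
  have hz' : d⁻¹ * b * d * z = z * (d⁻¹ * b * d) :=
    (((show Commute d⁻¹ z from hd'.1).mul_left hz).mul_left hd.1).eq
  have hb' : d⁻¹ * b * d ∈ QW Q z (d⁻¹ * w * d) := by simpa using QW_conj hb d⁻¹
  obtain ⟨t, ht, e1⟩ := F.eps_std h hb' hz'
  obtain ⟨h1, h2⟩ := F.ep_spec t e1
  refine ⟨t, ht, (allL_iff _ _).2 fun c hc => ?_, ?_⟩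
  · have h3 := (allL_iff _ _).1 hC c hc
    rw [band_eq_true, force_eq, Nat.ble_eq] at h3
    have h4 := h2 _ _ h3.2
    have h5 := B.act_app hd' c.1
    have h6 : Ap z (d⁻¹ * b * d * e q (mapp D' c.1) * (d⁻¹ * b * d)⁻¹)
        (e q (mapp D' c.1) * zp (e q 32) c.2.1) := by
      refine ((h5.symm B.zz).conj hz').trans B.zz ?_
      rw [show d⁻¹ * b * d * (d⁻¹ * e q c.1 * d⁻¹⁻¹) * (d⁻¹ * b * d)⁻¹ =
        d⁻¹ * (b * e q c.1 * b⁻¹) * d⁻¹⁻¹ by group]
      refine ((H c hc).conj hd'.1).trans B.zz ?_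
      rw [show d⁻¹ * (e q c.1 * zp w c.2.1) * d⁻¹⁻¹ =
        d⁻¹ * e q c.1 * d⁻¹⁻¹ * (d⁻¹ * zp w c.2.1 * d) by group]
      refine h5.mul B.zz ?_ (zp_comm (B.e_z 32).symm _).symm
      rcases z2 (c.2.1 : ZMod 2) with k | k <;> rw [k]
      · simpa using Ap.refl _ _
      · simpa using h
    have h7 := F.ap_y_inj ((h4.symm B.zz).trans B.zz h6)
    rw [Nat.beq_eq]
    have h8 : c.2.1 = 0 ∨ c.2.1 = 1 := by omega
    rcases par_le (Nat.land (Nat.land t c.2.2) 511) with k | k <;> rcases h8 with k' | k' <;>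
      rw [k, k'] at h7 ⊢ <;> revert h7 <;> decide
  · have := B.act_mul hd (B.act_mul h1 hd')
    rwa [show d * (d⁻¹ * b * d * d⁻¹) = b by group] at this

/-- commutators of sign changes with elements orthogonal to the frame -/
def FG : List (ℕ × ℕ) := [(1, 1), (1, 2), (1, 4), (1, 16), (1, 256), (1, 16384), (2, 1), (2, 2), (4, 1)]

noncomputable def FM : List ℕ := 32 :: FG.map fun p => mapp (Et p.1) p.2 ^^^ p.2

def FM' : List ℕ := [32, 264876, 1540, 262692, 80, 529488, 344096, 931952, 611576, 346112]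

omit F [Finite G] in
theorem fm_chk : FM = FM' ∧ ∀ p ∈ FG, bf p.2 32 = 0 := by decide +kernel

theorem inE_std {w : G} (h : Ap z w (e q 32)) (c : ℕ) : e q (H15.encL FM' c) ∈ QW Q z w := by
  have B := F.bas
  obtain ⟨p, -⟩ := F.good (d := 1) (w := w) (by simp) (by simpa using h)
  refine H15.encL_induction (P := fun m => e q m ∈ QW Q z w) (by rw [e_zero]; exact one_mem _)
    (fun a b ha hb => ((B.e_ap a b).symm B.zz).mem p.zQ (mul_mem ha hb)) _ (fun m hm => ?_) c
  rw [← fm_chk.1] at hm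
  rcases List.mem_cons.1 hm with rfl | hm
  · exact (h.symm B.zz).mem p.zQ p.h'.mem
  · obtain ⟨r, hr, rfl⟩ := List.mem_map.1 hm
    obtain ⟨b, h1, h2⟩ := F.ex_eps_std h r.1
    have h3 : e q r.2 * w * (e q r.2)⁻¹ = w := by
      rw [mul_inv_eq_iff_eq_mul]
      rcases h with rfl | rfl
      · exact B.e_comm0 (fm_chk.2 r hr)
      · rw [← mul_assoc, B.e_comm0 (fm_chk.2 r hr), mul_assoc, B.e_z, mul_assoc]
    have h4 : b * e q r.2 * b⁻¹ * (e q r.2)⁻¹ ∈ QW Q z w := by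
      rw [mul_assoc, mul_assoc, ← mul_assoc (e q r.2)]
      exact mul_mem h1 (QW_conj' (inv_mem h1) h3)
    have h5 : Ap z (e q r.2)⁻¹ (e q r.2) := by
      have := (B.e_ap r.2 r.2).mul_left (e q r.2)⁻¹
      rw [Nat.xor_self, e_zero, inv_mul_cancel_left, mul_one] at this
      exact this.symm B.zz
    exact ((((B.act_app (F.ep_spec _ h2).1 r.2).mul B.zz h5 (B.e_z _)).trans B.zz
      (B.e_ap _ _)).symm B.zz).mem p.zQ h4

theorem inE {w d : G} {D' : List ℕ} (hd' : Act z q d⁻¹ D') (h : Ap z (d⁻¹ * w * d) (e q 32))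
    {m c : ℕ} (hm : mapp D' m = H15.encL FM' c) : e q m ∈ QW Q z w := by
  have p := (F.good (d := 1) (w := d⁻¹ * w * d) (by simp) (by simpa using h)).1
  have h1 := (F.bas.act_app hd' m).mem p.zQ (hm ▸ F.inE_std h c)
  have := QW_conj h1 d
  rwa [show d * (d⁻¹ * e q m * d⁻¹⁻¹) * d⁻¹ = e q m by group,
    show d * (d⁻¹ * w * d) * d⁻¹ = w by group] at this

end Fr

end H48.ER
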