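import Cfsg.Agent.Lib.ERec.Fr
import Cfsg.Agent.Lib.YM.LineA

/-!
Points 0..9 = b1 b2 b3 d1 d2 d3 z1 z2 z3 a' of the plane of order 3 (a triangle is removed), lines 0..3 =
a c1 c2 c3; relabelling by collineations; candidates for the lines.
-/

set_option autoImplicit false
set_option maxRecDepth 100000
set_option linter.unusedSectionVars false

namespace H48.ER

open Cfsg H54 H16 Subgroup H77.YM
open H95 hiding zp zp_zero zp_one zp_add zp_inj zp_comm

noncomputable def LM (l : ℕ) : ℕ := nth [519, 393, 338, 228] l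
noncomputable def on (l j : ℕ) : Bool := tb (LM l) j
noncomputable def Wm (l : ℕ) : ℕ := nth [531456, 402432, 346112, 233472] l
noncomputable def Dm (l : ℕ) : ℕ := nth [531960, 403062, 346797, 234267] l

theorem be_sub {M a b : ℕ} (hM : ∀ j < 10, M.testBit (10 + j) = false ∨ M.testBit j = false)
    (ha : a &&& M = a) (hb : b &&& M = b) : be a b = 0 := by
  refine nat_of_cast (be_le a b) ?_
  rw [be_spec]
  refine Finset.sum_eq_zero fun j hj => ?_
  rw [← ha, ← hb, bt_and, bt_and]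
  rcases hM j (Finset.mem_range.1 hj) with c | c <;> simp [bt_eq_zero.2 c]

theorem bf_comm (a b : ℕ) : (bf a b : ZMod 2) = bf b a := by rw [bf_cast, bf_cast, add_comm]

def sgen (x : ℕ) : List ℕ := if x = 0 then [0, 7, 8, 9, 5, 4, 6, 1, 2, 3] else
  if x = 1 then [0, 8, 7, 9, 4, 5, 6, 2, 1, 3] else [1, 0, 2, 4, 3, 5, 7, 6, 8, 9]
/-- the collineation given by a word in three generators -/
noncomputable def sw (w : List ℕ) : List ℕ :=
  List.rec (motive := fun _ => List ℕ) [0, 1, 2, 3, 4, 5, 6, 7, 8, 9] (fun x _ ih => comp ih (sgen x)) w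
/-- the action on the indices of the basis -/
noncomputable def sx (σ : List ℕ) (i : ℕ) : ℕ := if i < 10 then nth σ i else 10 + nth σ (i - 10)
noncomputable def symM (σ : List ℕ) : List ℕ := (List.range 20).map fun i => 2 ^ sx σ i

def TrOk (σ : List ℕ) (l l' : ℕ) : Prop := aapp (symM σ) (Wm l) = Wm l' ∧ Wm l < 2 ^ 20 ∧ Wm l' < 2 ^ 20 ∧
  (∀ j < 20, sx σ j < 20) ∧
  (∀ i < 20, (Dm l').testBit i = true → ∃ j < 20, 2 ^ j &&& Dm l = 2 ^ j ∧ sx σ j = i) ∧
  (∀ j < 20, (Dm l).testBit j = true → 2 ^ sx σ j &&& Dm l' = 2 ^ sx σ j) ∧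
  (∀ k < 10, on l' k = true → ∃ j < 10, on l j = true ∧ sx σ j = k) ∧
  ∀ j < 10, on l j = true → sx σ j < 10 ∧ on l' (sx σ j) = true

set_option synthInstance.maxSize 1024 in
noncomputable instance instDecTrOk (σ : List ℕ) (l l' : ℕ) : Decidable (TrOk σ l l') := by
  unfold TrOk; infer_instance

variable {G : Type*} [Group G]

/-- the relabelled frame -/
noncomputable def rl (q : ℕ → G) (σ : List ℕ) (i : ℕ) : G := q (sx σ i)

def CB (Q : Subgroup G) (z : G) (q : ℕ → G) (l : ℕ) (x : G) : Prop :=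
  x * x = 1 ∧ x ∈ QW Q z (e q (Wm l)) ∧ x * z * x⁻¹ = z * e q (Wm l) ∧
  ∀ m, m &&& Dm l = m → Commute x (e q m)

/-- candidates for the line `l` -/
def Cand (Q : Subgroup G) (z : G) (q : ℕ → G) (l : ℕ) (x : G) : Prop :=
  CB Q z q l x ∧ ∀ k < 10, on l k = true → (x * q k) ^ 3 = 1

theorem symM_getD (σ : List ℕ) {i : ℕ} (hi : i < 20) : (symM σ).getD i 0 = 2 ^ sx σ i := by
  rw [symM, List.getD_eq_getElem _ _ (by simpa using hi), List.getElem_map, List.getElem_range]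

theorem CB.cm {Q : Subgroup G} {z x : G} {q : ℕ → G} {l i : ℕ} (h : CB Q z q l x) (hi : i < 20)
    (c : 2 ^ i &&& Dm l = 2 ^ i) : Commute x (q i) := e_pow q hi ▸ h.2.2.2 _ c

namespace Bas

variable {Q : Subgroup G} {z : G} {q : ℕ → G} (B : Bas z q)
include B

theorem q_comm {j k : ℕ} (hj : j < 10) (hk : k < 10) : Commute (q j) (q k) := by
  have := B.cm j (by omega) k (by omega)
  rwa [Bf, if_neg (by omega), zp_zero, mul_one] at this

theorem exists_rep0 {g : G} {A : List ℕ} (H : Act z q g A) (hA : ∀ a ∈ A, a < 2 ^ 20) :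
    ∃ h, Act z q h A ∧ Rep z q (fun _ => 1) h A := by
  have hl := (forall2_range.1 H.2).1
  choose s hs using fun i (hi : i < 20) => (act_get H hi).ex
  obtain ⟨m, hm⟩ := exists_bits (fun i => if h : du i < 20 then s (du i) h else 0) 20
  have key : ∀ i < 20, g * e q m * q i * (g * e q m)⁻¹ = e q (A.getD i 0) := by
    intro i hi
    have hd : du i < 20 := by unfold du; split_ifs <;> omega
    have hdd : du (du i) = i := by unfold du; split_ifs <;> omega
    have h1 := B.e_conj m (2 ^ i)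
    rw [bf_pow m hi, hm _ hd, e_pow q hi] at h1
    simp only [hdd, hi, dif_pos] at h1
    calc _ = g * (e q m * q i * (e q m)⁻¹) * g⁻¹ := by group
      _ = g * q i * g⁻¹ * (g * zp z (s i hi) * g⁻¹) := by rw [h1]; group
      _ = _ := by rw [hs i hi, conj_zp H.1, mul_assoc, ← zp_add B.zz, z2_add, zp_zero, mul_one]
  have hz : g * e q m * z = z * (g * e q m) := by rw [mul_assoc, B.e_z, ← mul_assoc, H.1, mul_assoc]
  refine ⟨g * e q m, act_of hz hl fun i hi => Or.inl (key i hi), hz, forall2_range.2 ⟨hl, fun i hi => ?_⟩⟩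
  rw [key i hi, el_lt]
  rw [List.getD_eq_getElem _ _ (hl ▸ hi)]
  exact hA _ (List.getElem_mem _)

theorem rep0_app {h : G} {A : List ℕ} (H : Rep z q (fun _ => 1) h A) {m n : ℕ} (hm : m < 2 ^ 20)
    (hn : n < 2 ^ 20) (e' : aapp A m = n) : h * e q m * h⁻¹ = e q n := by
  rw [← el_lt z q (fun _ => 1) hm, ← B.rep_app rfl H, e', el_lt z q _ hn]

theorem of_eq {q' : ℕ → G} (h : ∀ i < 20, q' i = q i) : Bas z q' :=
  ⟨B.zz, B.z1, fun i hi => h i hi ▸ B.zq i hi, fun i hi => h i hi ▸ B.sq i hi,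
    fun i hi j hj => h i hi ▸ h j hj ▸ B.cm i hi j hj⟩

theorem rl_gen (x : ℕ) : Bas z (rl q (sgen x)) := by
  have c : (∀ i < 20, sx (sgen x) i < 20) ∧ ∀ i < 20, ∀ j < 20,
      Bf (sx (sgen x) i) (sx (sgen x) j) = Bf i j := by
    unfold sgen; split_ifs <;> decide +kernel
  exact ⟨B.zz, B.z1, fun i hi => B.zq _ (c.1 i hi), fun i hi => B.sq _ (c.1 i hi),
    fun i hi j hj => c.2 i hi j hj ▸ B.cm _ (c.1 i hi) _ (c.1 j hj)⟩

theorem fld_emul' {q' : ℕ → G} {L A : List ℕ}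
    (H : List.Forall₂ (fun i a => q' i = el z q (fun _ => 1) a) L A) : ∀ m acc,
    el z q (fun _ => 1) (fld emul A m acc) = el z q (fun _ => 1) acc * EL q' L m := by
  induction H with
  | nil => intro m acc; simp [EL]; rfl
  | @cons i a L A h _ ih =>
    intro m acc
    rw [fld_cons, EL, ih]
    split_ifs
    · rw [B.el_emul rfl, ← h, mul_assoc]
    · rw [one_mul]

theorem e_rl {σ : List ℕ} (hσ : ∀ j < 20, sx σ j < 20) {m n : ℕ} (hm : m < 2 ^ 20) (hn : n < 2 ^ 20)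
    (c : aapp (symM σ) m = n) : e (rl q σ) m = e q n := by
  have := B.fld_emul' (q' := rl q σ) (L := List.range 20) (A := symM σ) (forall2_range.2 ⟨by simp [symM],
    fun i hi => by
      rw [symM_getD σ hi, el_lt z q _ (Nat.pow_lt_pow_right (by norm_num) (hσ i hi)), e_pow q (hσ i hi)]; rfl⟩)
    m ((m >>> 20) <<< 20)
  rw [show fld emul (symM σ) m ((m >>> 20) <<< 20) = n from c, el_lt z q _ hn, Nat.shiftRight_eq_zero _ _ hm,
    Nat.zero_shiftLeft, el_lt z q _ (by norm_num), e_zero, one_mul] at this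
  exact this.symm

theorem cb_rl {σ : List ℕ} {l l' : ℕ} (c : TrOk σ l l') {x : G} : CB Q z (rl q σ) l x ↔ CB Q z q l' x := by
  unfold CB
  rw [B.e_rl c.2.2.2.1 c.2.1 c.2.2.1 c.1]
  refine and_congr_right fun _ => and_congr_right fun _ => and_congr_right fun _ => ⟨fun h m hm => ?_, fun h m hm => ?_⟩
  · refine E_ind q (P := Commute x) (Commute.one_right _) (fun _ _ => Commute.mul_right) fun i hi k => ?_
    obtain ⟨j, hj, c1, rfl⟩ := c.2.2.2.2.1 i hi (sub_bit hm k)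
    have := h _ c1
    rwa [e_pow _ hj] at this
  · refine E_ind _ (P := Commute x) (Commute.one_right _) (fun _ _ => Commute.mul_right) fun j hj k => ?_
    have := h _ (c.2.2.2.2.2.1 j hj (sub_bit hm k))
    rwa [e_pow _ (c.2.2.2.1 j hj)] at this

theorem cand_rl {σ : List ℕ} {l l' : ℕ} (c : TrOk σ l l') {x : G} :
    Cand Q z (rl q σ) l x ↔ Cand Q z q l' x := by
  refine and_congr (B.cb_rl c) ⟨fun h k hk ok => ?_, fun h j hj ok => ?_⟩
  · obtain ⟨j, hj, oj, rfl⟩ := c.2.2.2.2.2.2.1 k hk ok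
    exact h j hj oj
  · exact h _ (c.2.2.2.2.2.2.2 j hj ok).1 (c.2.2.2.2.2.2.2 j hj ok).2

theorem cand_z {l : ℕ} {u : G} (hu : Cand Q z q l u) : Cand Q z q l (z * u * z⁻¹) := by
  have hW : ∀ m, z * e q m * z⁻¹ = e q m := fun m => by rw [← B.e_z, mul_inv_cancel_right]
  refine ⟨⟨by rw [conj_mul, hu.1.1]; simp, QW_conj' hu.1.2.1 (hW _), ?_, fun m hm => hW m ▸ comm_conj z (hu.1.2.2.2 m hm)⟩,
    fun k hk ok => ?_⟩
  · calc _ = z * (u * z * u⁻¹) * z⁻¹ := by group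
      _ = _ := by rw [hu.1.2.2.1, mul_assoc, hW]
  · rw [show q k = z * q k * z⁻¹ by rw [← B.zq k (by omega), mul_inv_cancel_right], conj_mul, conj_pow, hu.2 k hk ok]
    simp

end Bas

theorem sw_ok (w : List ℕ) : (sw w).length = 10 ∧ ∀ x i, i < 20 → sx (sw (x :: w)) i = sx (sw w) (sx (sgen x) i) := by
  have c : ∀ x, (sgen x).length = 10 ∧ ∀ j < 10, nth (sgen x) j < 10 := fun x => by
    unfold sgen; split_ifs <;> decide +kernel
  refine ⟨?_, fun x i hi => ?_⟩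
  · cases w with
    | nil => rfl
    | cons x w => exact (show (comp (sw w) (sgen x)).length = 10 by rw [comp, mapR_eq, List.length_map, (c x).1])
  · have e1 : ∀ j < 10, nth (sw (x :: w)) j = nth (sw w) (nth (sgen x) j) := fun j hj => by
      rw [show sw (x :: w) = comp (sw w) (sgen x) from rfl, comp, mapR_eq, nth_eq, nth_eq (sgen x),
        List.getD_eq_getElem _ _ (by simpa [(c x).1] using hj),
        List.getD_eq_getElem _ _ (by simpa [(c x).1] using hj), List.getElem_map]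
    unfold sx
    by_cases h : i < 10
    · rw [if_pos h, if_pos h, if_pos ((c x).2 i h), e1 i h]
    · rw [if_neg h, if_neg h, if_neg (by omega), e1 _ (by omega), Nat.add_sub_cancel_left]

theorem lv_UX : lv UXC = vU - vX := Subtype.ext ((code_lv (c := UXC) (by decide +kernel)).2.symm.trans
  ((funext (show ∀ p, vec UXC p = vec UC p - vec XC p by decide +kernel)).trans
    (by rw [code_U.2, code_X.2]; rfl)))

theorem lv_NX : lv NXC = -vX := Subtype.ext ((code_lv (c := NXC) (by decide +kernel)).2.symm.trans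
  ((funext (show ∀ p, vec NXC p = -vec XC p by decide +kernel)).trans (by rw [code_X.2]; rfl)))

namespace Fr

variable {z : G} {Q : Subgroup G} {cls : leechLattice → G → Prop} {q : ℕ → G} (F : Fr z Q cls q)
include F

theorem of_eq {q' : ℕ → G} (h : ∀ i < 20, q' i = q i) : Fr z Q cls q' :=
  { F with bas := F.bas.of_eq h, hq := fun i hi => h i hi ▸ F.hq i hi }

theorem tw {P u x k : ℕ} (c : band (okM P) (band (okB P u x (SA.getD k []))
    (zs [app (matR P) (e8C 23), e8C 23])) = true)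
    (c' : ∀ i < 20, (SA.getD k []).getD i 0 = 2 ^ sx (sgen k) i ∧ sx (sgen k) i < 20)
    (hs : ∀ n : Co0, lv u = n • vU → lv x = n • vX → Sp n ∧ Sp n⁻¹) :
    ∃ cls', Fr z Q cls' (rl q (sgen k)) := by
  rw [band_eq_true, band_eq_true] at c
  have hP := isM_el c.1
  obtain ⟨-, h1, h2, h3⟩ := okB_spec hP c.2.1
  obtain ⟨s1, s2⟩ := hs _ h1 h2
  refine ⟨_, F.twist (n := H16.el P) ?_ s1 s2 (F.bas.rl_gen k) fun i hi => ?_⟩
  · have e0 := code_e8C (i := 23) (by norm_num)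
    have e1 := (hP.app e0 (by rw [e0.norm]; decide +kernel)).lv_eq
    have e2 := zs_spec c.2.2
    simp only [List.map_cons, List.sum_cons, List.map_nil, List.sum_nil, add_zero] at e2
    have e3 := add_right_cancel (e2.trans (L2_add_self (clsC (e8C 23))).symm)
    rw [clsC, clsC, e1, e0.lv_eq] at e3
    exact mem_monoGroup_iff_cg.2 (mk2_eq.1 e3)
  · obtain ⟨a, e1, e2⟩ := h3 i hi
    rw [← e1]
    refine F.cls_of_isC e2 ?_
    rw [(c' i hi).1, e_pow q (c' i hi).2]; exact Ap.refl _ _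

theorem rel1 (x : ℕ) : ∃ cls', Fr z Q cls' (rl q (sgen x)) := by
  by_cases h0 : x = 0
  · subst h0
    obtain ⟨g, hg⟩ := F.lift_act s0_chk
    obtain ⟨k, -, hk⟩ := F.bas.exists_rep0 hg (by decide +kernel)
    refine ⟨_, F.conjF hk.1 (F.bas.rl_gen 0) fun i hi => ?_⟩
    obtain ⟨c1, c2⟩ := (by decide +kernel : ∀ i < 20, (SA.getD 0 []).getD i 0 = 2 ^ sx (sgen 0) i ∧
      sx (sgen 0) i < 20) i hi
    rw [(forall2_range.1 hk.2).2 i hi, c1, el_lt z q _ (Nat.pow_lt_pow_right (by norm_num) c2), e_pow q c2]; rfl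
  by_cases h1 : x = 1
  · subst h1
    refine F.tw s1_chk (by decide +kernel) fun n a b => ?_
    rw [code_X.lv_eq] at a
    rw [code_U.lv_eq] at b
    exact ⟨⟨a ▸ X_mem, b ▸ U_mem⟩, (inv_smul_eq_iff.2 b).symm ▸ X_mem, (inv_smul_eq_iff.2 a).symm ▸ U_mem⟩
  · rw [show sgen x = sgen 2 by simp [sgen, h0, h1]]
    refine F.tw s2_chk (by decide +kernel) fun n a b => ?_
    rw [lv_UX] at a
    rw [lv_NX] at b
    have a' : n⁻¹ • vU = vU - vX := inv_smul_eq_iff.2 (by rw [smul_sub, ← a, ← b]; abel)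
    have b' : n⁻¹ • vX = -vX := inv_smul_eq_iff.2 (by rw [smul_neg, ← b, neg_neg])
    exact ⟨⟨a ▸ sub_mem U_mem X_mem, b ▸ neg_mem X_mem⟩, a' ▸ sub_mem U_mem X_mem, b' ▸ neg_mem X_mem⟩

theorem rel (w : List ℕ) : ∃ cls', Fr z Q cls' (rl q (sw w)) := by
  induction w with
  | nil => exact ⟨cls, F.of_eq fun i hi => congrArg q ((by decide +kernel : ∀ i < 20, sx (sw []) i = i) i hi)⟩
  | cons x w ih =>
    obtain ⟨c, h⟩ := ih
    obtain ⟨c', h'⟩ := h.rel1 x
    exact ⟨c', h'.of_eq fun i hi => congrArg q ((sw_ok w).2 x i hi)⟩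

end Fr

def D0 : ℕ := 531960
def w0 : ℕ := 531456
def cA : List ℕ := [0, 0, 0, 204, 970, 1023, 570, 560, 662, 0, 180, 209, 374, 0, 0, 0, 0, 0, 0, 274]
def LA : List (ℕ × ℕ) := [(8, 8192), (16, 16384), (32, 32768), (64, 65536), (128, 131072), (256, 262144),
  (1024, 513), (2048, 514), (4096, 516)]

theorem be_D {a b : ℕ} (ha : a &&& D0 = a) (hb : b &&& D0 = b) : be a b = 0 :=
  be_sub (M := D0) (by decide) ha hb

theorem lt_D {a : ℕ} (ha : a &&& D0 = a) : a < 2 ^ 20 :=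
  ha ▸ lt_of_le_of_lt Nat.and_le_right (by decide)

def DlOk (A N : List ℕ) (a b : ℕ) : Prop := (∀ a ∈ A, a < 2 ^ 20) ∧ aapp A w0 = w0 ∧
  (∀ c ∈ [a, b], aapp A c = c ∧ be c c = 0 ∧ bf c w0 = 1 ∧ c < 2 ^ 20) ∧
  ∀ i < 20, D0.testBit i = true → nth N i &&& D0 = nth N i ∧ aapp A (nth N i) = 2 ^ i

set_option synthInstance.maxSize 1024 in
noncomputable instance instDecDlOk (A N : List ℕ) (a b : ℕ) : Decidable (DlOk A N a b) := by
  unfold DlOk; infer_instance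

noncomputable def fxs (A : List ℕ) (m : ℕ) : Bool :=
  force (mapp A m) fun n => bor (Nat.ble 1048576 n) (bor (Nat.beq n m) (Nat.beq n (Nat.xor m w0)))

theorem fxs_of {A : List ℕ} {m : ℕ} (h : mapp A m < 2 ^ 20 → mapp A m = m ∨ mapp A m = m ^^^ w0) :
    fxs A m = true := by
  unfold fxs
  rw [force_eq, bor_eq_true, bor_eq_true, Nat.ble_eq, Nat.beq_eq, Nat.beq_eq]
  exact (le_or_gt _ _).imp_right h

noncomputable def fixChk (k f : ℕ) : Bool := allSub (fun m => bimp (fxs (DL k) m) (bimp (fxs (DL (k + 1)) m)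
  (bor (bor (Nat.beq m 0) (Nat.beq m w0)) (bor (Nat.beq m f) (Nat.beq m (Nat.xor f w0))))))
    [3, 4, 5, 6, 7, 8, 10, 11, 12, 19] 0

def CB0 (Q : Subgroup G) (z : G) (q : ℕ → G) (x : G) : Prop :=
  x * x = 1 ∧ x ∈ QW Q z (e q w0) ∧ x * z * x⁻¹ = z * e q w0 ∧ ∀ m, m &&& D0 = m → Commute x (e q m)

namespace Fr

variable {z : G} {Q : Subgroup G} {cls : leechLattice → G → Prop} {q : ℕ → G} [Finite G] (F : Fr z Q cls q)
include F

/-- the frame of a line -/
theorem exists_d {l : ℕ} (hl : l < 3) :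
    ∃ d, Act z q d (DD l) ∧ Act z q d⁻¹ (DI l) ∧ Ap z (d⁻¹ * e q (Wm l) * d) (e q 32) := by
  obtain ⟨d, hd⟩ := F.lift_act ((allLt_iff _ _).1 dp_chk l hl)
  obtain ⟨c1, c2, c3⟩ := (by decide +kernel : ∀ l < 3, (DI l).length = 20 ∧ mmul (DD l) (DI l) = ID ∧
    mapp (DI l) (Wm l) = 32) l hl
  have hd' := F.bas.act_inv hd c1 c2
  have := F.bas.act_app hd' (Wm l)
  rw [inv_inv, c3] at this
  exact ⟨d, hd, hd', this⟩

theorem exists_dA : ∃ d, Act z q d (DD 0) ∧ Act z q d⁻¹ (DI 0) ∧ Ap z (d⁻¹ * e q w0 * d) (e q 32) :=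
  F.exists_d (l := 0) (by norm_num)

theorem pairA : Pair Q (QW Q z (e q w0)) z (e q w0) := by
  obtain ⟨d, hd, -, h⟩ := F.exists_dA
  exact (F.good hd.1 h).1

theorem inD {m : ℕ} (hm : m &&& D0 = m) : e q m ∈ QW Q z (e q w0) := by
  obtain ⟨d, -, hd, h⟩ := F.exists_dA
  refine E_ind q (P := (· ∈ QW Q z (e q w0))) (one_mem _) (fun _ _ => mul_mem) fun i hi c => ?_
  rw [← e_pow q hi]
  exact F.inE hd h ((by decide +kernel : ∀ i < 20, D0.testBit i = true →
    mapp (DI 0) (2 ^ i) = H15.encL FM' (nth cA i)) i hi (sub_bit hm c))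

theorem E_comm {x y : G} (hx : x ∈ Q ⊓ QW Q z (e q w0)) (hy : y ∈ Q ⊓ QW Q z (e q w0)) : Commute x y := by
  have h1 := F.pairA.E_elementary hx
  have h2 := F.pairA.E_elementary hy
  have h3 := F.pairA.E_elementary (mul_mem hx hy)
  calc x * y = (x * y)⁻¹ := eq_inv_of_mul_eq_one_left h3
    _ = y * x := by rw [mul_inv_rev, inv_eq_of_mul_eq_one_left h1, inv_eq_of_mul_eq_one_left h2]

theorem E_char {r : G} (hr : r ∈ Q) (h : ∀ m, m &&& D0 = m → Commute r (e q m)) :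
    ∃ m, m &&& D0 = m ∧ Ap z r (e q m) := by
  obtain ⟨m, hm, a⟩ := F.ex_e r hr
  refine ⟨m, Nat.eq_of_testBit_eq fun j => ?_, a⟩
  rw [Nat.testBit_and]
  by_cases hj : j < 20
  · cases c : D0.testBit j
    · obtain ⟨c1, c2, c3⟩ := (by decide +kernel : ∀ j < 20, D0.testBit j = false →
        du j < 20 ∧ du (du j) = j ∧ 2 ^ du j &&& D0 = 2 ^ du j) j hj c
      have h1 := F.bas.e_comm m (2 ^ du j)
      have h2 : Commute (e q m) (e q (2 ^ du j)) := by
        rcases a.symm F.bas.zz with k | k <;> rw [k]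
        exacts [h _ c3, (h _ c3).mul_left (F.bas.e_z _).symm]
      rw [h2.eq, bf_pow m c1, c2, left_eq_mul] at h1
      rw [bt_eq_zero.1 (zp_inj F.bas.z1 (h1.trans (zp_zero z).symm))]; rfl
    · simp
  · rw [Nat.testBit_lt_two_pow (lt_of_lt_of_le hm (Nat.pow_le_pow_right (by norm_num) (by omega)))]; rfl

theorem E_char' {r : G} (hr : r ∈ Q ⊓ QW Q z (e q w0)) : ∃ m, m &&& D0 = m ∧ Ap z r (e q m) :=
  F.E_char hr.1 fun _ hm => F.E_comm hr ⟨F.e_mem _, F.inD hm⟩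

theorem ww : e q w0 * e q w0 = 1 := F.pairA.h'.sq

theorem exists_cb0 : ∃ x, CB0 Q z q x := by
  have B := F.bas
  obtain ⟨x, h1, h2, h3, h4⟩ := exists_cand F.pairA (by rw [F.card]; norm_num)
    (LA.map fun r => (e q r.1, e q r.2)) (by
      intro r hr'
      obtain ⟨r, hr, rfl⟩ := List.mem_map.1 hr'
      obtain ⟨c1, c2, c3⟩ := (by decide +kernel : ∀ r ∈ LA, r.1 &&& D0 = r.1 ∧ bf r.2 w0 = 0 ∧
        bf r.2 r.1 = 1) r hr
      exact ⟨F.inD c1, B.e_z _, B.e_z _, B.e_comm0 c2, B.e_conj1 c3⟩)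
    (List.pairwise_map.2 ((by decide +kernel : LA.Pairwise fun r s => bf r.2 s.1 = 0).imp B.e_comm0))
  have h5 : ∀ r ∈ LA, Commute x (e q r.1) := fun r hr => h4 _ (List.mem_map_of_mem hr)
  refine ⟨x, h2, h1, h3, fun m hm => E_ind q (P := Commute x) (Commute.one_right x)
    (fun _ _ => Commute.mul_right) fun i hi c => ?_⟩
  rw [← e_pow q hi]
  rcases (by decide +kernel : ∀ i < 20, D0.testBit i = true → i = 19 ∨ ∃ r ∈ LA, 2 ^ i = r.1) i hi
    (sub_bit hm c) with rfl | ⟨r, hr, k⟩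
  · have : e q (2 ^ 19) = e q w0 * e q 1024 * e q 2048 * e q 4096 := by
      rw [B.e_mul0 (by decide +kernel), B.e_mul0 (by decide +kernel), B.e_mul0 (by decide +kernel)]; rfl
    rw [this]
    exact (((show Commute x _ from F.pairA.h'.central x h1).mul_right (h5 (1024, 513) (by decide))).mul_right
      (h5 (2048, 514) (by decide))).mul_right (h5 (4096, 516) (by decide))
  · rw [k]; exact h5 r hr

theorem cb0_mul {x : G} (h : CB0 Q z q x) {m : ℕ} (hm : m &&& D0 = m) : CB0 Q z q (x * e q m) := by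
  refine ⟨?_, mul_mem h.2.1 (F.inD hm), ?_, fun n hn => (h.2.2.2 n hn).mul_left
    (F.E_comm ⟨F.e_mem _, F.inD hm⟩ ⟨F.e_mem _, F.inD hn⟩)⟩
  · rw [mul_assoc, ← mul_assoc (e q m), ← (h.2.2.2 m hm).eq, mul_assoc, F.bas.e_sq (be_D hm hm), mul_one, h.1]
  · rw [← h.2.2.1, mul_assoc x, F.bas.e_z]; group

section
variable {x p : G} (h : CB0 Q z q x) (hp : p ∈ Q) (pp : p * p = 1) (pw : p * e q w0 * p⁻¹ = e q w0 * z)
include h hp pp pw

omit pp in
theorem cyc : x * p * z * (x * p)⁻¹ = z * e q w0 ∧ x * p * e q w0 * (x * p)⁻¹ = z ∧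
    x * p * (z * e q w0) * (x * p)⁻¹ = e q w0 := by
  have a : x * p * z * (x * p)⁻¹ = z * e q w0 := by
    rw [← h.2.2.1, mul_assoc x, F.h.central p hp]; group
  have b : x * p * e q w0 * (x * p)⁻¹ = z := by
    calc _ = x * (p * e q w0 * p⁻¹) * x⁻¹ := by group
      _ = x * e q w0 * x⁻¹ * (x * z * x⁻¹) := by rw [pw]; group
      _ = _ := by
        rw [(h.2.2.2 w0 rfl).eq, h.2.2.1, mul_inv_cancel_right, ← F.bas.e_z, ← mul_assoc, F.ww, one_mul]
  refine ⟨a, b, ?_⟩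
  rw [← conj_mul, a, b, ← F.bas.e_z, mul_assoc, F.bas.zz, mul_one]

theorem br_exists : ∃ m, m &&& D0 = m ∧ (x * e q m * p) ^ 3 = 1 := by
  obtain ⟨a, b, c⟩ := F.cyc h hp pw
  have xi : x⁻¹ = x := inv_eq_of_mul_eq_one_left h.1
  have pi : p⁻¹ = p := inv_eq_of_mul_eq_one_left pp
  have r1 : (x * p) ^ 3 ∈ QW Q z (z * e q w0) := by
    have := mul_mem (QW_conj' ((QW_z F.h).symm ▸ hp : p ∈ QW Q z z) h.2.2.1)
      (QW_conj' h.2.1 (pw.trans (F.bas.e_z _)))
    rwa [xi, pi, show x * p * x * (p * x * p) = (x * p) ^ 3 by rw [pow3]; group] at this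
  have hg : ∀ g : G, g * g ^ 3 * g⁻¹ = g ^ 3 := fun g => by group
  have r2 := QW_conj' r1 c
  rw [hg] at r2
  have r3 := QW_conj' r2 b
  rw [hg, QW_z F.h] at r3
  obtain ⟨m, hm, k⟩ := F.E_char' ⟨r3, r2⟩
  have rr := F.pairA.E_elementary ⟨r3, r2⟩
  have rz := F.h.central _ r3
  refine ⟨m, hm, ?_⟩
  rw [(h.2.2.2 m hm).eq, mul_assoc]
  generalize x * p = g at *
  have cg : Commute (g ^ 3) g := (Commute.refl g).pow_left 3
  rcases k.symm F.bas.zz with k | k <;> rw [k]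
  · rw [cg.mul_pow, pow3 (g ^ 3), rr, one_mul, rr]
  · have : (z * g) ^ 3 = g ^ 3 := by
      calc _ = z * (g * z * g⁻¹) * (g * (g * z * g⁻¹) * g⁻¹) * g ^ 3 := by rw [pow3, pow3]; group
        _ = _ := by rw [a, c, ← mul_assoc z, F.bas.zz, one_mul, F.ww, one_mul]
    rw [mul_assoc, ((show Commute (g ^ 3) z from rz).mul_right cg).mul_pow, this, pow3 (g ^ 3), rr, one_mul, rr]

theorem uniq {x' : G} (h' : CB0 Q z q x') : ∃ m, m &&& D0 = m ∧ x' = x * e q m := by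
  have B := F.bas
  have xi : x⁻¹ = x := inv_eq_of_mul_eq_one_left h.1
  have pi : p⁻¹ = p := inv_eq_of_mul_eq_one_left pp
  have pz : p * z * p⁻¹ = z := by rw [F.h.central p hp, mul_inv_cancel_right]
  have xw : x * e q w0 * x⁻¹ = e q w0 := by rw [(h.2.2.2 w0 rfl).eq, mul_inv_cancel_right]
  have t1 : p * x * p * z * (p * x * p)⁻¹ = e q w0 := by
    calc _ = p * (x * (p * z * p⁻¹) * x⁻¹) * p⁻¹ := by group
      _ = p * z * p⁻¹ * (p * e q w0 * p⁻¹) := by rw [pz, h.2.2.1]; nth_rewrite 2 [← pz]; group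
      _ = _ := by rw [pz, pw, B.e_z, ← mul_assoc, B.zz, one_mul]
  have tt : p * x * p * (p * x * p) = 1 := by
    rw [mul_assoc, ← mul_assoc p, ← mul_assoc p, pp, one_mul, mul_assoc, ← mul_assoc x, h.1, one_mul, pp]
  generalize p * x * p = t at t1 tt
  have ti : t⁻¹ = t := inv_eq_of_mul_eq_one_left tt
  have tc : ∀ a, t * (t * a * t⁻¹) * t⁻¹ = a := fun a => by
    rw [ti, ← mul_assoc, ← mul_assoc, tt, one_mul, mul_assoc, tt, mul_one]
  have t2 : t * e q w0 * t⁻¹ = z := by rw [← t1, tc]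
  have tE : ∀ a ∈ Q ⊓ QW Q z (e q w0), t * a * t⁻¹ ∈ Q ⊓ QW Q z (e q w0) := fun a ha =>
    ⟨QW_z F.h ▸ QW_conj' ha.2 t2, QW_conj' ((QW_z F.h).symm ▸ ha.1 : a ∈ QW Q z z) t1⟩
  have rz : Commute (x * x') z := by
    rw [Commute, SemiconjBy, ← mul_inv_eq_iff_eq_mul]
    calc _ = x * (x' * z * x'⁻¹) * x⁻¹ := by group
      _ = x * z * x⁻¹ * (x * e q w0 * x⁻¹) := by rw [h'.2.2.1]; group
      _ = _ := by rw [h.2.2.1, xw, mul_assoc, F.ww, mul_one]
  have rE : ∀ a ∈ Q ⊓ QW Q z (e q w0), Commute (x * x') a := fun a ha => by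
    obtain ⟨m, hm, k⟩ := F.E_char' ha
    have := (h.2.2.2 m hm).mul_left (h'.2.2.2 m hm)
    rcases k with k | k <;> rw [k]
    exacts [this, this.mul_right rz]
  obtain ⟨n, hn, k⟩ := F.E_char (QW_z F.h ▸ QW_conj' (mul_mem h.2.1 h'.2.1) t2) fun m hm => by
    have := comm_conj t (rE _ (tE _ ⟨F.e_mem m, F.inD hm⟩))
    rwa [tc] at this
  have r1 := tE _ (k.mem ⟨F.h.mem, F.pairA.zQ⟩ (H := Q ⊓ QW Q z (e q w0)) ⟨F.e_mem n, F.inD hn⟩)
  rw [tc] at r1
  obtain ⟨m, hm, k⟩ := F.E_char' r1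
  rcases k with k | k
  · exact ⟨m, hm, by rw [← k, ← mul_assoc, h.1, one_mul]⟩
  · have e1 : x' = x * e q m * z := by rw [mul_assoc, ← k, ← mul_assoc, h.1, one_mul]
    have h2 := F.cb0_mul h hm
    have e2 := h'.1
    rw [e1] at e2
    generalize x * e q m = y at h2 e2
    have e3 : y * z * y⁻¹ * (y * y) * z = 1 := by rw [← e2]; group
    rw [h2.1, h2.2.2.1, mul_one, ← B.e_z, mul_assoc, B.zz, mul_one] at e3
    exact absurd e3 F.pairA.h'.ne_one

end

theorem uniq_br {x : G} (h : CB0 Q z q x) {a : ℕ} (ha : bf a w0 = 1) (hb : (x * e q a) ^ 3 = 1) {m : ℕ}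
    (hm : m &&& D0 = m) (hb' : (x * e q m * e q a) ^ 3 = 1) : m = 0 ∨ m = w0 := by
  have B := F.bas
  have key : ∀ {x}, CB0 Q z q x → (x * e q a) ^ 3 = 1 → ∀ {m}, m &&& D0 = m → (bf m a : ZMod 2) = 0 →
      (x * e q m * e q a) ^ 3 = 1 → m = 0 := by
    intro x h hb m hm h0 hb'
    have c : Commute (e q m) (x * e q a) :=
      (h.2.2.2 m hm).symm.mul_right (B.e_comm0 (nat_of_cast (bf_le _ _) h0))
    rw [(h.2.2.2 m hm).eq, mul_assoc, c.mul_pow, hb, mul_one, pow3, B.e_sq (be_D hm hm), one_mul] at hb'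
    exact B.eq_of_ap (Or.inl (hb'.trans (e_zero q).symm)) (lt_D hm) (by norm_num)
  rcases z2 (bf m a) with c | c
  · exact Or.inl (key h hb hm c hb')
  · have e1 : x * e q w0 = z * x * z⁻¹ := by
      have xi : x⁻¹ = x := inv_eq_of_mul_eq_one_left h.1
      rw [F.h.inv_eq, eq_comm, ← inv_mul_eq_iff_eq_mul, xi, ← mul_assoc, ← mul_assoc]
      nth_rewrite 2 [← xi]
      rw [h.2.2.1, ← B.e_z, mul_assoc, B.zz, mul_one]
    have hw : (w0 ^^^ m) &&& D0 = w0 ^^^ m := sub_xor rfl hm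
    have := key (F.cb0_mul h (m := w0) rfl) (by
      rw [e1, show z * x * z⁻¹ * e q a = z * (x * e q a) * z⁻¹ by
        rw [F.h.inv_eq, mul_assoc, ← B.e_z]; group, conj_pow, hb]; simp) hw
      (by rw [bf_xor, bf_comm, ha, c]; rfl) (by
        rwa [mul_assoc x, B.e_mul0 (be_D rfl hw), Nat.xor_xor_cancel_left])
    exact Or.inr (Nat.xor_eq_zero_iff.1 this).symm

theorem dl_fix {P : ℕ} {A N : List ℕ} (c : band (okM P) (okA P A) = true) {a b : ℕ}
    (c' : DlOk A N a b) {x : G}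
    (h : CB0 Q z q x) (h1 : (x * e q a) ^ 3 = 1) {m : ℕ} (hm : m &&& D0 = m)
    (h2 : (x * e q m * e q b) ^ 3 = 1) : fxs A m = true := by
  have B := F.bas
  obtain ⟨g, hg⟩ := F.lift_act c
  obtain ⟨c1, c2, c3, c5⟩ := c'
  obtain ⟨a1, a2, a3, a4⟩ := c3 a (by simp)
  obtain ⟨b1, b2, b3, b4⟩ := c3 b (by simp)
  obtain ⟨g, ga, gr⟩ := B.exists_rep0 hg c1
  have gw := B.rep0_app gr (by decide) (by decide) c2
  have gz : g * z * g⁻¹ = z := by rw [ga.1, mul_inv_cancel_right]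
  have cb : ∀ {x}, CB0 Q z q x → CB0 Q z q (g * x * g⁻¹) := by
    intro x h
    refine ⟨by rw [conj_mul, h.1]; simp, QW_conj' h.2.1 gw, ?_, fun n hn => E_ind q (P := Commute _)
      (Commute.one_right _) (fun _ _ => Commute.mul_right) fun i hi k => ?_⟩
    · calc _ = g * x * g⁻¹ * (g * z * g⁻¹) * (g * x * g⁻¹)⁻¹ := by rw [gz]
        _ = g * z * g⁻¹ * (g * e q w0 * g⁻¹) := by rw [conj_mul (b := g) (a := z), ← h.2.2.1]; group
        _ = _ := by rw [gz, gw]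
    · obtain ⟨k1, k2⟩ := c5 i hi (sub_bit hn k)
      have := comm_conj g (h.2.2.2 _ k1)
      rwa [B.rep0_app gr (lt_D k1) (Nat.pow_lt_pow_right (by norm_num) hi) k2, e_pow q hi] at this
  have step : ∀ {x a}, CB0 Q z q x → be a a = 0 → bf a w0 = 1 → a < 2 ^ 20 → aapp A a = a →
      (x * e q a) ^ 3 = 1 → ∃ n, (n = 0 ∨ n = w0) ∧ g * x * g⁻¹ = x * e q n := by
    intro x a h a1 a2 a3 a4 hb
    obtain ⟨n, hn, k⟩ := F.uniq h (F.e_mem a) (B.e_sq a1) (B.e_conj1 a2) (cb h)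
    refine ⟨n, F.uniq_br h a2 hb hn ?_, k⟩
    rw [← k, ← B.rep0_app gr a3 a3 a4, conj_mul, conj_pow, hb]; simp
  obtain ⟨n1, k1, e1⟩ := step h a2 a3 a4 a1 h1
  obtain ⟨n2, k2, e2⟩ := step (F.cb0_mul h hm) b2 b3 b4 b1 h2
  have e3 : Ap z (e q n1 * e q (mapp A m)) (e q m * e q n2) := by
    have := (B.act_app ga m).mul_left (e q n1)
    rw [show e q n1 * (g * e q m * g⁻¹) = e q m * e q n2 by
      rw [← conj_mul, e1, mul_assoc x, mul_assoc x] at e2; exact mul_left_cancel e2] at this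
    exact this.symm B.zz
  have e4 := (((B.e_ap _ _).symm B.zz).trans B.zz e3).trans B.zz (B.e_ap _ _)
  refine fxs_of fun lt => ?_
  have l1 : ∀ {n}, n = 0 ∨ n = w0 → n < 2 ^ 20 := by rintro _ (rfl | rfl) <;> decide
  have e5 := B.eq_of_ap e4 (Nat.xor_lt_two_pow (l1 k1) lt) (Nat.xor_lt_two_pow (lt_D hm) (l1 k2))
  have e6 : mapp A m = n1 ^^^ (m ^^^ n2) := by rw [← e5, Nat.xor_xor_cancel_left]
  rw [e6]
  rcases k1 with rfl | rfl <;> rcases k2 with rfl | rfl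
  · simp
  · simp
  · simp [Nat.xor_comm]
  · left; rw [Nat.xor_comm m, Nat.xor_xor_cancel_left]

theorem fix2 {k f a b : ℕ} (c : k + 1 < 6 ∧ DlOk (DL k) (DN k) a b ∧ DlOk (DL (k + 1)) (DN (k + 1)) a b ∧
    fixChk k f = true) {x : G} (h : CB0 Q z q x) (h1 : (x * e q a) ^ 3 = 1) {m : ℕ} (hm : m &&& D0 = m)
    (h2 : (x * e q m * e q b) ^ 3 = 1) : (m = 0 ∨ m = w0) ∨ m = f ∨ m = f ^^^ w0 := by
  have := allSub_spec c.2.2.2 m fun i hi => by
    have := sub_bit hm hi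
    by_cases c : i < 20
    · exact (by decide : ∀ i < 20, D0.testBit i = true → i ∈ [3, 4, 5, 6, 7, 8, 10, 11, 12, 19]) i c this
    · rw [Nat.testBit_lt_two_pow (lt_of_lt_of_le (lt_D rfl) (Nat.pow_le_pow_right (by norm_num) (by omega)))]
        at this
      exact absurd this (by decide)
  simp only [Nat.zero_xor, bimp_eq_true, bor_eq_true, Nat.beq_eq] at this
  exact this (F.dl_fix ((allLt_iff _ _).1 lp_chk k (by omega)) c.2.1 h h1 hm h2)
    (F.dl_fix ((allLt_iff _ _).1 lp_chk _ c.1) c.2.2.1 h h1 hm h2)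

theorem br2 {x : G} (h : CB0 Q z q x) (h1 : (x * e q 512) ^ 3 = 1) : (x * e q 1) ^ 3 = 1 := by
  have B := F.bas
  obtain ⟨m, hm, h2⟩ := F.br_exists h (F.e_mem 1) (B.e_sq (by decide +kernel)) (B.e_conj1 (by decide +kernel))
  obtain ⟨n, hn, h3⟩ := F.br_exists h (F.e_mem 2) (B.e_sq (by decide +kernel)) (B.e_conj1 (by decide +kernel))
  have k1 := F.fix2 (k := 0) (f := 8) (by decide +kernel) h h1 hm h2
  have k2 := F.fix2 (k := 2) (f := 16) (by decide +kernel) h h1 hn h3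
  have k3 := F.fix2 (k := 4) (f := 4120) (b := 2) (by decide +kernel) (F.cb0_mul h hm) h2 (sub_xor hm hn) (by
    rwa [mul_assoc x, B.e_mul0 (be_D hm (sub_xor hm hn)), Nat.xor_xor_cancel_left])
  have k4 : m = 0 ∨ m = w0 := by
    refine k1.resolve_right ?_
    rintro (rfl | rfl) <;> rcases k2 with (rfl | rfl) | rfl | rfl <;> revert k3 <;> decide
  rcases k4 with rfl | rfl
  · rwa [e_zero, mul_one] at h2
  · have xi : x⁻¹ = x := inv_eq_of_mul_eq_one_left h.1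
    have e1 : x * e q w0 * e q 1 = z * (x * e q 1) * z⁻¹ := by
      have : z * x = x * e q w0 * z := by
        rw [mul_assoc, B.e_z, ← h.2.2.1, xi, ← mul_assoc, ← mul_assoc, h.1, one_mul]
      rw [← mul_assoc, this, mul_assoc _ z, ← B.e_z]; group
    rwa [e1, conj_pow, conj_eq_one_iff] at h2

theorem brk {x : G} (h : CB0 Q z q x) (h1 : (x * q 9) ^ 3 = 1) (w : List ℕ) {k : ℕ}
    (c : TrOk (sw w) 0 0 ∧ sx (sw w) 9 = 9 ∧ sx (sw w) 0 = k) : (x * q k) ^ 3 = 1 := by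
  obtain ⟨c', F'⟩ := F.rel w
  have := F'.br2 (x := x) ((F.bas.cb_rl (l := 0) (l' := 0) c.1).2 h) (by
    rwa [show e (rl q (sw w)) 512 = _ from e_pow _ (i := 9) (by norm_num), rl, c.2.1])
  rwa [show e (rl q (sw w)) 1 = _ from e_pow _ (i := 0) (by norm_num), rl, c.2.2] at this

theorem exists_cand0 : ∃ u, Cand Q z q 0 u := by
  have B := F.bas
  obtain ⟨x, h⟩ := F.exists_cb0
  obtain ⟨m, hm, h1⟩ := F.br_exists h (F.e_mem 512) (B.e_sq (by decide +kernel)) (B.e_conj1 (by decide +kernel))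
  have h := F.cb0_mul h hm
  rw [show e q 512 = q 9 from e_pow q (i := 9) (by norm_num)] at h1
  generalize x * e q m = x at h h1
  refine ⟨x, h, fun k hk ok => ?_⟩
  rcases (by decide +kernel : ∀ k < 10, on 0 k = true → k = 0 ∨ k = 1 ∨ k = 2 ∨ k = 9) k hk ok with
    rfl | rfl | rfl | rfl
  exacts [F.brk h h1 [] (by decide +kernel), F.brk h h1 [2] (by decide +kernel),
    F.brk h h1 [2, 1, 0] (by decide +kernel), h1]

theorem cand_all {l : ℕ} (hl : l < 4) : ∃ u, Cand Q z q l u := by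
  obtain ⟨w, -, c⟩ := (by decide +kernel : ∀ l < 4, ∃ w ∈ [[], [0], [0, 2], [0, 2, 0]], TrOk (sw w) 0 l) l hl
  obtain ⟨c', F'⟩ := F.rel w
  obtain ⟨u, hu⟩ := F'.exists_cand0
  exact ⟨u, (F.bas.cand_rl c).1 hu⟩

end Fr

end H48.ER
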