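import Mathlib
import Cfsg.Agent.Lib.BRec.ModX

/-!
# A module of order `2^20` for `3^4 : S6` is the sum of ten planes
-/

set_option autoImplicit false
set_option linter.unusedSectionVars false

namespace H96.EMod
open H96.MRec
open H96.BMod (mk4 dig_mk4 mk4_lt sig_sig sing KK_cases Quad Quad.zero)

/-- conjugates of the generators of `3^4` -/
def nW (n i : ℕ) : List ℕ := (([[[0, 0], [0, 2], [0, 1], [3, 3]], [[0], [0, 1, 1], [2], [3]], [[0], [1, 1], [2], [1, 3]], [[3, 3], [0, 1, 3], [2], [0, 0]], [[0], [0, 1], [2], [1, 3]]] : List (List (List ℕ))).getD n []).getD i []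

/-- the action on the weights -/
def tau (n C : ℕ) : ℕ := mk4 fun i => ((nW n i).map (dig C)).sum

/-- one step towards the representative of the orbit -/
def step (C : ℕ) : ℕ :=
  if C = 27 ∨ C = 1 ∨ C = 10 then C else tau (0x2800063c012d4b48429214a62401010085422d50 / 4 ^ C % 4) C

/-- the weights that occur -/
def good (k : ℕ) : ℕ := ([27, 5, 29, 79, 35, 70, 46, 37, 49, 40] : List ℕ).getD k 0

/-- the weights and their negatives -/
def wt2 : Fin 10 ⊕ Fin 10 → ℕ → ℕ := Sum.elim (fun k => dig (good k)) fun k i => 2 * dig (good k) i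

/-- words permuting the nine planes -/
def rW (k : ℕ) : List ℕ := ([[], [], [10], [6, 10], [10, 10], [6, 10, 10], [10, 6, 10], [10, 6, 10, 10], [10, 10, 6, 10], [10, 10, 6, 10, 10]] : List (List ℕ)).getD k []

/-- words leading to the planes -/
def hW (k : ℕ) : List ℕ := if k = 0 then [] else rW k ++ [9]

/-- the permutations of the planes -/
def piT (n k : ℕ) : Fin 10 := (([[0, 1, 3, 2, 5, 4, 6, 8, 7, 9], [0, 1, 4, 3, 2, 5, 8, 9, 6, 7], [0, 4, 2, 8, 1, 9, 6, 7, 3, 5], [1, 0, 2, 3, 4, 5, 9, 8, 7, 6]] : List (List (Fin 10))).getD n []).getD k 0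

/-- words in the stabiliser of the first plane -/
def uW (n k : ℕ) : List ℕ := (([[[6], [6], [], [], [], [], [6], [6], [6], [6]], [[7], [7], [7], [6, 7, 6], [7], [6, 7, 6], [6, 7, 6], [6, 7, 6], [6, 7, 6], [6, 7, 6]], [[8], [7], [7], [6, 7, 6], [7], [6, 7, 6], [6, 7, 6], [6, 7, 6], [6, 7, 6], [6, 7, 6]], [[], [], [8], [8], [7, 8, 7], [7, 8, 7], [8, 7, 6, 8, 7], [7, 8, 7, 6, 8], [8, 6, 7, 8, 7], [7, 8, 6, 7, 8]]] : List (List (List ℕ))).getD n []).getD k []

/-- separating words -/
def dW (l : ℕ) : List ℕ := ([[], [], [0, 1], [2], [0, 1], [2], [2], [2], [2], [2]] : List (List ℕ)).getD l []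

/-- the letters normalising the centraliser in `3^4` of the first plane -/
def aL (i : ℕ) : ℕ := ([0, 1, 2, 6, 10] : List ℕ).getD i 0

/-- conjugates under the last two letters -/
def gW (m i : ℕ) : List ℕ := (([[[0], [1, 1, 10], [0, 2, 2, 6, 10, 6], [6], [0, 0, 1, 10]], [[0], [0, 0, 10], [6, 10, 6], [6], [0, 0, 1, 1]]] : List (List (List ℕ))).getD m []).getD i []

/-- the orbit of a representative -/
def fam (r : ℕ) : Finset ℕ := (Finset.range 81).filter fun C => step^[6] C = r

theorem nW_lt : ∀ n < 5, ∀ i < 4, ∀ j ∈ nW n i, j < 6 := by decide +kernel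

theorem tau_tau : ∀ n < 4, ∀ C < 81, tau n (tau n C) = C := by decide +kernel

theorem step_lt : ∀ C < 81, step C < 81 := by decide +kernel

theorem step_chk : ∀ C < 81, C = 0 ∨ step^[6] C = 27 ∨ (fam (step^[6] C)).card = 30 := by
  decide +kernel

theorem good_chk : ∀ k : Fin 10, (hW k).foldr (fun n C => tau (n - 6) C) 27 = good k ∧
    (∀ n ∈ hW k, 6 ≤ n ∧ n < 11) ∧ (∀ n ∈ rW k, n = 6 ∨ n = 10) ∧
    ∀ n < 4, ∀ j ∈ uW n k, j = 6 ∨ j = 7 ∨ j = 8 := by decide +kernel

theorem wt2_chk : ∀ k l, k ≠ l → ∃ i < 6, wt2 k i % 3 ≠ wt2 l i % 3 := by decide +kernel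

theorem dW_chk : ∀ l : Fin 10, l ≠ 1 → l ≠ 0 → (∀ i ∈ dW l, i < 3) ∧
    ((dW l).map (dig (good (1 : Fin 10)))).sum % 3 = 0 ∧ ((dW l).map (dig (good l))).sum % 3 ≠ 0 := by
  decide +kernel

theorem dig_good : ∀ k : Fin 10, k ≠ 0 → dig (good k) 0 = 1 ∨ dig (good k) 0 = 2 := by decide +kernel

theorem gW_lt : ∀ m < 2, ∀ i < 5, ∀ j ∈ gW m i, j < 11 := by decide +kernel

variable {Γ V : Type*} [Group Γ] [AddCommGroup V] [Module (ZMod 2) V] [DistribMulAction Γ V]

/-- the relations between the letters -/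
structure Rels (x : ℕ → Γ) : Prop where
  cube : ∀ i < 6, x i * x i * x i = 1
  comm : ∀ i < 6, ∀ j < 6, x i * x j = x j * x i
  triv : x 4 = 1 ∧ x 5 = 1
  invol : ∀ n < 4, x (n + 6) * x (n + 6) = 1
  nrm : ∀ n < 5, ∀ i < 4, x i * x (n + 6) = x (n + 6) * ((nW n i).map x).prod
  tr : ∀ n < 4, ∀ k < 10, x (n + 6) * ((hW k).map x).prod =
    ((hW (piT n k)).map x).prod * ((uW n k).map x).prod
  ten : x 10 = x 7 * x 8
  gx : ∀ m < 2, ∀ i < 5, x (m + 11) * x (aL i) = ((gW m i).map x).prod * x (m + 11)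
  gs : ∀ m < 2, (x (m + 11) * x 3) ^ 3 = x 7

variable {x : ℕ → Γ}

theorem Rels.wt (R : Rels x) {C : ℕ} (hC : C < 81) {c : ℕ → ℕ} {p : V × V}
    (h : ∀ i < 4, x i • p = rho^[c i] p) (e : ∀ i < 4, dig C i % 3 = c i % 3) : Wt x (dig C) p := by
  intro i hi
  by_cases h4 : i < 4
  · rw [h i h4, rho_it_congr (e i h4)]
  · obtain rfl | rfl : i = 4 ∨ i = 5 := by omega
    · rw [R.triv.1, show dig C 4 = 0 by unfold dig; omega, one_smul]; rfl
    · rw [R.triv.2, show dig C 5 = 0 by unfold dig; omega, one_smul]; rfl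

theorem Rels.wt_tau (R : Rels x) {C n : ℕ} (hn : n < 5) {p : V × V} (hp : Wt x (dig C) p) :
    Wt x (dig (tau n C)) (x (n + 6) • p) :=
  R.wt (mk4_lt _) (c := fun i => ((nW n i).map (dig C)).sum) (fun i hi => by
    rw [smul_smul, R.nrm n hn i hi, mul_smul, hp.word (nW_lt n hn i hi), smul_rho_it])
    fun i hi => dig_mk4 _ hi

theorem Rels.wt_word (R : Rels x) {C : ℕ} {p : V × V} (hp : Wt x (dig C) p) : ∀ {w : List ℕ},
    (∀ n ∈ w, 6 ≤ n ∧ n < 11) →
      Wt x (dig (w.foldr (fun n C => tau (n - 6) C) C)) ((w.map x).prod • p)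
  | [], _ => by simpa using hp
  | n :: w, hw => by
    have h := hw n List.mem_cons_self
    have := R.wt_tau (n := n - 6) (by omega)
      (R.wt_word hp (w := w) fun j hj => hw j (List.mem_cons_of_mem _ hj))
    rwa [Nat.sub_add_cancel h.1, ← mul_smul] at this

theorem Rels.occ_step (R : Rels x) (n : ℕ) : ∀ {C : ℕ}, C < 81 →
    (Occ V x (step^[n] C) ↔ Occ V x C) := by
  have key : ∀ n < 4, ∀ C, Occ V x C → Occ V x (tau n C) := fun n hn C ⟨p, h0, hp⟩ =>
    ⟨_, (smul_ne_zero_iff_ne _).2 h0, R.wt_tau (by omega) hp⟩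
  induction n with
  | zero => exact fun _ => Iff.rfl
  | succ n ih =>
    intro C hC
    rw [Function.iterate_succ_apply, ih (step_lt C hC), step]
    split_ifs
    · rfl
    · have h4 : 0x2800063c012d4b48429214a62401010085422d50 / 4 ^ C % 4 < 4 := Nat.mod_lt _ (by norm_num)
      exact ⟨fun h => tau_tau _ h4 C hC ▸ key _ h4 _ h, key _ h4 _⟩

theorem Rels.occ (R : Rels x) (hV : Nat.card V = 2 ^ 20) {v : V} (hv : x 0 • v ≠ v) :
    Occ V x 27 := by
  have : Finite V := Nat.finite_of_card_ne_zero (by rw [hV]; norm_num)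
  obtain ⟨c, p, h0, hp, hc⟩ := exists_wt R.cube R.comm hv
  have h1 : Occ V x (step^[6] (mk4 c)) := (R.occ_step 6 (mk4_lt c)).2
    ⟨p, h0, R.wt (mk4_lt c) (fun i hi => hp i (by omega)) fun i hi => dig_mk4 c hi⟩
  rcases step_chk _ (mk4_lt c) with e | e | e
  · exact absurd e (by unfold mk4; omega)
  · exact e ▸ h1
  · generalize step^[6] (mk4 c) = r at h1 e
    have lt : ∀ C : fam r, (C : ℕ) < 81 := fun C => Finset.mem_range.1 (Finset.mem_filter.1 C.2).1
    choose q q0 hq using fun C : fam r =>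
      (R.occ_step (V := V) 6 (lt C)).1 ((Finset.mem_filter.1 C.2).2.symm ▸ h1)
    have := Nat.card_le_card_of_injective _ (Phi_inj hq q0 fun k l e =>
      exists_dig_ne ((lt k).trans (by norm_num)) ((lt l).trans (by norm_num))
        fun f => e (Subtype.ext f))
    rw [card_KK, Nat.card_prod, hV, Fintype.card_coe, e] at this
    norm_num at this

/-- coordinates adapted to the ten planes -/
structure Fr (x : ℕ → Γ) (β : (Fin 10 → KK) ≃+ V) : Prop where
  rot : ∀ i < 4, ∀ a, x i • β a = β fun k => rho^[dig (good k) i] (a k)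
  tr : ∀ (k : Fin 10) c, β (Pi.single k c) = ((hW k).map x).prod • β (Pi.single 0 c)
  cj : ∀ c, x 6 • β (Pi.single 0 c) = β (Pi.single 0 (cjK c))
  f7 : ∀ c, x 7 • β (Pi.single 0 c) = β (Pi.single 0 c)
  f8 : ∀ c, x 8 • β (Pi.single 0 c) = β (Pi.single 0 c)

theorem exists_fr (R : Rels x) (hV : Nat.card V = 2 ^ 20) {v : V} (hv : x 0 • v ≠ v) :
    ∃ β : (Fin 10 → KK) ≃+ V, Fr x β := by
  have : Finite V := Nat.finite_of_card_ne_zero (by rw [hV]; norm_num)
  obtain ⟨p, h0, hp, ht⟩ : ∃ p : V × V, p ≠ 0 ∧ Wt x (dig 27) p ∧ x 6 • p = sig p := by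
    obtain ⟨p, h0, hp⟩ := R.occ hV hv
    have ht : Wt x (dig 27) (sig (x 6 • p)) :=
      (R.wt_tau (n := 0) (by norm_num) hp).sig.congr (by decide +kernel)
    by_cases e : p + sig (x 6 • p) = 0
    · refine ⟨p, h0, hp, ?_⟩
      rw [← sig_sig (x 6 • p), ← add_self' p (sig (x 6 • p)), e, add_zero]
    · refine ⟨_, e, fun i hi => ?_, ?_⟩
      · rw [smul_add, hp i hi, ht i hi, iterate_map_add]
      · rw [smul_add, smul_sig, smul_smul, R.invol 0 (by norm_num), one_smul, map_add, sig_sig,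
          add_comm]
  let P : Fin 10 → V × V := fun k => ((hW k).map x).prod • p
  have hP : ∀ k : Fin 10, Wt x (dig (good k)) (P k) := fun k =>
    (good_chk k).1 ▸ R.wt_word hp (good_chk k).2.1
  have P0 : P 0 = p := one_smul _ _
  have hw : ∀ k, Wt x (wt2 k) (Sum.elim P (fun k => sig (P k)) k) := by
    rintro (k | k)
    exacts [hP k, (hP k).sig]
  have inj : Function.Injective (Phi (Sum.elim P fun k => sig (P k))) := by
    refine Phi_inj hw ?_ wt2_chk
    rintro (k | k)
    exacts [(smul_ne_zero_iff_ne _).2 h0, sig_ne ((smul_ne_zero_iff_ne _).2 h0)]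
  have fix : ∀ n < 4, tau n 27 = 27 → x (n + 6) • p = p := by
    intro n hn e
    obtain ⟨b, hb⟩ := (inj.bijective_of_nat_card_le (by
      rw [card_KK, Nat.card_prod, hV]; norm_num)).2 (x (n + 6) • p)
    have f := prj_Phi hw wt2_chk b (Sum.inl 0)
    have w := R.wt_tau (n := n) (by omega) hp
    rw [e] at w
    rw [hb, prjL_self (c := wt2 (Sum.inl 0)) w (by simp), Sum.elim_inl, P0] at f
    rcases sm_cases (b (Sum.inl 0)) p with g | ⟨j, g⟩
    · rw [g, sm_zero] at f
      exact absurd f ((smul_ne_zero_iff_ne _).2 h0)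
    · rw [g] at f
      have h2 : rho^[j] (rho^[j] p) = p := by
        rw [← f, ← smul_rho_it, ← f, smul_smul, R.invol n hn, one_smul]
      rw [f, ← h2, rho_it_add, rho_it_add, show j + j + j = 3 * j by ring, rho_it_three, h2]
  have hi : Function.Injective ((AddMonoidHom.fst V V).comp (Phi P)) := by
    refine (injective_iff_map_eq_zero _).2 fun a ha => ?_
    have h1 : (Phi P a).1 = 0 := ha
    have h2 : Phi (Sum.elim P fun k => sig (P k)) (Sum.elim a fun k => cjK (a k)) = 0 := by
      have h3 : ∀ a : KK, cjK (cjK a) = a := by decide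
      rw [Phi_apply, Fintype.sum_sum_type]
      simp only [Sum.elim_inl, Sum.elim_inr, sm_sig, h3]
      rw [← map_sum, ← Phi_apply]
      ext <;> simp [sig_apply, h1, add_self]
    have h4 := (injective_iff_map_eq_zero _).1 inj _ h2
    exact funext fun k => congrFun h4 (Sum.inl k)
  have s1 : ∀ (k : Fin 10) c, Phi P (Pi.single k c) = sm c (P k) := fun k c => by
    rw [Phi_apply, Finset.sum_eq_single k (fun l _ hl => by simp [hl, sm_zero]) (by simp)]
    simp
  refine ⟨AddEquiv.ofBijective _ (hi.bijective_of_nat_card_le (by rw [card_KK, hV]; norm_num)),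
    fun i hi a => ?_, fun k c => ?_, fun c => ?_, fun c => ?_, fun c => ?_⟩
  · have : x i • Phi P a = Phi P fun k => rho^[dig (good k) i] (a k) := by
      simp only [Phi_apply, Finset.smul_sum, smul_sm, hP _ i (by omega), sm_it]
    exact congrArg Prod.fst this
  · have : Phi P (Pi.single k c) = ((hW k).map x).prod • Phi P (Pi.single 0 c) := by
      rw [s1, s1, P0, smul_sm]
    exact congrArg Prod.fst this
  · have : x 6 • Phi P (Pi.single 0 c) = sig (Phi P (Pi.single 0 (cjK c))) := by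
      rw [s1, s1, P0, smul_sm, ht, sm_sig]
    exact congrArg Prod.fst this
  · have : x 7 • Phi P (Pi.single 0 c) = Phi P (Pi.single 0 c) := by
      rw [s1, P0, smul_sm, fix 1 (by norm_num) (by decide +kernel)]
    exact congrArg Prod.fst this
  · have : x 8 • Phi P (Pi.single 0 c) = Phi P (Pi.single 0 c) := by
      rw [s1, P0, smul_sm, fix 2 (by norm_num) (by decide +kernel)]
    exact congrArg Prod.fst this

variable {β : (Fin 10 → KK) ≃+ V}

theorem Fr.stab (F : Fr x β) : ∀ {u : List ℕ}, (∀ j ∈ u, j = 6 ∨ j = 7 ∨ j = 8) → ∀ c,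
    (u.map x).prod • β (Pi.single 0 c) = β (Pi.single 0 (cjK^[u.count 6] c))
  | [], _, c => by simp
  | j :: u, hu, c => by
    rw [List.map_cons, List.prod_cons, mul_smul,
      F.stab fun i hi => hu i (List.mem_cons_of_mem _ hi)]
    rcases hu j List.mem_cons_self with rfl | rfl | rfl
    · rw [F.cj, List.count_cons_self, Function.iterate_succ_apply']
    · rw [F.f7, List.count_cons_of_ne (by norm_num)]
    · rw [F.f8, List.count_cons_of_ne (by norm_num)]

theorem Fr.act (R : Rels x) (F : Fr x β) {n : ℕ} (hn : n < 4) (k : Fin 10) (c : KK) :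
    x (n + 6) • β (Pi.single k c) = β (Pi.single (piT n k) (cjK^[(uW n k).count 6] c)) := by
  rw [F.tr k, smul_smul, R.tr n hn k k.2, mul_smul, F.stab ((good_chk k).2.2.2 n hn), ← F.tr]

theorem Fr.rot1 (F : Fr x β) {i : ℕ} (hi : i < 4) (k : Fin 10) (c : KK) :
    x i • β (Pi.single k c) = β (Pi.single k (rho^[dig (good k) i] c)) := by
  rw [F.rot i hi, sing k (fun k => rho^[dig (good k) i]) _ (by simp)]

theorem Fr.word (F : Fr x β) : ∀ {w : List ℕ}, (∀ i ∈ w, i < 3) → ∀ a,
    (w.map x).prod • β a = β fun k => rho^[(w.map (dig (good k))).sum] (a k)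
  | [], _, a => by simp
  | i :: w, hw, a => by
    rw [List.map_cons, List.prod_cons, mul_smul,
      F.word fun j hj => hw j (List.mem_cons_of_mem _ hj),
      F.rot i ((hw i List.mem_cons_self).trans (by norm_num))]
    simp only [rho_it_add, List.map_cons, List.sum_cons]

theorem mem_of_gens (β : (Fin 10 → KK) ≃+ V) {Z : AddSubgroup V}
    (h : ∀ k c, β (Pi.single k c) ∈ Z) (v : V) : v ∈ Z := by
  obtain ⟨a, rfl⟩ := β.surjective v
  rw [← Finset.univ_sum_single a, map_sum]
  exact sum_mem fun k _ => h k _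

theorem Fr.gfix (R : Rels x) (F : Fr x β) {m : ℕ} (hm : m < 2) (c : KK) :
    x (m + 11) • β (Pi.single 0 c) = β (Pi.single 0 c) := by
  have g0 : x (m + 11) * x 0 = x 0 * x (m + 11) := by
    obtain rfl | rfl : m = 0 ∨ m = 1 := by omega
    exacts [by simpa [aL, gW] using R.gx 0 hm 0 (by norm_num),
      by simpa [aL, gW] using R.gx 1 hm 0 (by norm_num)]
  have g6 : x (m + 11) * x 6 = x 6 * x (m + 11) := by
    obtain rfl | rfl : m = 0 ∨ m = 1 := by omega
    exacts [by simpa [aL, gW] using R.gx 0 hm 3 (by norm_num),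
      by simpa [aL, gW] using R.gx 1 hm 3 (by norm_num)]
  have gs := R.gs m hm
  generalize x (m + 11) = g at g0 g6 gs
  obtain ⟨a, ha⟩ := β.surjective (g • β (Pi.single 0 (0, 1)))
  have e : a = Pi.single 0 (a 0) := by
    have f : x 0 • β a = β a := by
      rw [ha, smul_smul, ← g0, mul_smul, F.rot1 (by norm_num)]; rfl
    rw [F.rot 0 (by norm_num)] at f
    funext k
    by_cases e : k = 0
    · subst e; simp
    · have f' := congrFun (β.injective f) k
      rw [Pi.single_eq_of_ne e]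
      rcases dig_good k e with d | d <;> rw [d] at f' <;> revert f' <;> generalize a k = b <;>
        revert b <;> decide
  rw [e] at ha
  generalize a 0 = d at ha
  obtain ⟨d1, d2⟩ := d
  have ad : ∀ c d : KK, β (Pi.single 0 (c + d)) = β (Pi.single 0 c) + β (Pi.single 0 d) :=
    fun c d => by rw [Pi.single_add, map_add]
  have h1 : g • β (Pi.single 0 (1, 0)) = β (Pi.single 0 (d2, 0)) := by
    have f := congrArg (· • β (Pi.single 0 (0, 1))) g6
    simp only [mul_smul] at f
    rw [← ha, F.cj, F.cj, show cjK (0, 1) = (1, 0) + (0, 1) from rfl, ad, smul_add, ← ha,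
      show cjK (d1, d2) = (d2, 0) + (d1, d2) by ext <;> simp [cjK, add_comm], ad] at f
    exact add_right_cancel f
  have r : ∀ c, x 3 • β (Pi.single 0 c) = β (Pi.single 0 (rho c)) := F.rot1 (by norm_num) 0
  have ne : ∀ {c d : KK}, β (Pi.single 0 c) = β (Pi.single 0 d) → c = d := fun h => by
    simpa using congrFun (β.injective h) 0
  rcases z2 d2 with rfl | rfl
  · rw [show (((0 : ZMod 2), (0 : ZMod 2)) : KK) = 0 from rfl, Pi.single_zero, map_zero,
      smul_eq_zero_iff_eq, ← map_zero β, ← Pi.single_zero (M := fun _ : Fin 10 => KK) 0] at h1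
    exact absurd (ne h1) (by decide)
  rcases z2 d1 with rfl | rfl
  · rcases KK_cases c with rfl | rfl | rfl | rfl
    exacts [by simp, h1, ha.symm, by rw [ad, smul_add, h1, ← ha]]
  · have f := congrArg (· • β (Pi.single 0 (1, 0))) gs
    simp only [pow_succ, pow_zero, one_mul, mul_smul] at f
    rw [F.f7, r, show rho ((1, 0) : KK) = (0, 1) from rfl, ← ha, r,
      show rho ((1, 1) : KK) = (1, 0) from rfl, h1, r, show rho ((1, 0) : KK) = (0, 1) from rfl,
      ← ha] at f
    exact absurd (ne f) (by decide)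

theorem Fr.rigid (R : Rels x) (F : Fr x β) (S : V →+ V) (hS : Function.Injective S)
    (h : ∀ i < 5, ∀ v, S (x (aL i) • v) = x (aL i) • S v) {k : Fin 10} (hk : k ≠ 0) (c : KK) :
    S (β (Pi.single k c)) = β (Pi.single k c) := by
  have hw : ∀ w : List ℕ, (∀ i ∈ w, i < 3 ∨ i = 6 ∨ i = 10) → ∀ v,
      S ((w.map x).prod • v) = (w.map x).prod • S v := by
    intro w
    induction w with
    | nil => simp
    | cons i w ih =>
      intro hw v
      rw [List.map_cons, List.prod_cons, mul_smul, mul_smul,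
        ← ih fun j hj => hw j (List.mem_cons_of_mem _ hj)]
      obtain rfl | rfl | rfl | rfl | rfl : i = 0 ∨ i = 1 ∨ i = 2 ∨ i = 6 ∨ i = 10 := by
        have := hw i List.mem_cons_self; omega
      exacts [h 0 (by norm_num) _, h 1 (by norm_num) _, h 2 (by norm_num) _, h 3 (by norm_num) _,
        h 4 (by norm_num) _]
  have r : ∀ c, x 0 • β (Pi.single 1 c) = β (Pi.single 1 (rho (rho c))) := F.rot1 (by norm_num) 1
  have ad : ∀ c d : KK, β (Pi.single 1 (c + d)) = β (Pi.single 1 c) + β (Pi.single 1 d) :=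
    fun c d => by rw [Pi.single_add, map_add]
  have h0 : ∀ v, S (x 0 • v) = x 0 • S v := h 0 (by norm_num)
  have h1 : S (β (Pi.single 1 (1, 0))) = β (Pi.single 1 (1, 0)) := by
    obtain ⟨a, ha⟩ := β.surjective (S (β (Pi.single 1 (1, 0))))
    have e0 : x 0 • x 0 • β a = β a + x 0 • β a := by
      rw [ha, ← h0, ← h0, ← map_add, r, r, ← ad]
      rfl
    rw [F.rot 0 (by norm_num), F.rot 0 (by norm_num), ← map_add] at e0
    have z : ∀ l, l ≠ 1 → a l = 0 := by
      intro l hl
      by_cases l0 : l = 0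
      · subst l0
        exact (congrFun (β.injective e0) 0).trans (add_self _)
      obtain ⟨d1, d2, d3⟩ := dW_chk l hl l0
      have e := hw _ (fun i hi => Or.inl (d1 i hi)) (β (Pi.single 1 (1, 0)))
      rw [F.word d1, sing 1 (fun k => rho^[((dW l).map (dig (good k))).sum]) _ (by simp),
        ← rho_it_mod, d2, Function.iterate_zero, id, ← ha, F.word d1] at e
      have f := congrFun (β.injective e) l
      rw [← rho_it_mod] at f
      have g : ∀ n < 3, n ≠ 0 → ∀ a : KK, a = rho^[n] a → a = 0 := by decide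
      exact g _ (Nat.mod_lt _ (by norm_num)) d3 _ f
    have e1 : a = Pi.single 1 (a 1) := funext fun l => by
      by_cases e : l = 1
      · subst e; simp
      · simp [e, z l e]
    have t : ∀ c, x 6 • β (Pi.single 1 c) = β (Pi.single 1 (cjK c)) :=
      F.act R (n := 0) (by norm_num) 1
    have e := h 3 (by norm_num) (β (Pi.single 1 (1, 0)))
    rw [show aL 3 = 6 from rfl, t, show cjK (1, 0) = (1, 0) from rfl, ← ha, e1, t] at e
    have f : a 1 = cjK (a 1) := by simpa using congrFun (β.injective e) 1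
    rcases (by decide : ∀ a : KK, a = cjK a → a = 0 ∨ a = (1, 0)) _ f with f | f
    · rw [e1, f, Pi.single_zero, map_zero, eq_comm, map_eq_zero_iff _ hS,
        map_eq_zero_iff _ β.injective] at ha
      exact absurd (congrFun ha 1) (by simp)
    · rw [← ha, e1, f]
  have h2 : S (β (Pi.single 1 (1, 1))) = β (Pi.single 1 (1, 1)) := by
    have e := h0 (β (Pi.single 1 (1, 0)))
    rwa [h1, r] at e
  have h3 : S (β (Pi.single 1 c)) = β (Pi.single 1 c) := by
    rcases (by decide : ∀ a : KK, a = 0 ∨ a = (1, 0) ∨ a = (1, 1) ∨ a = (1, 0) + (1, 1)) c with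
      rfl | rfl | rfl | rfl
    exacts [by simp, h1, h2, by rw [ad, map_add, h1, h2]]
  have e : β (Pi.single k c) = ((rW k).map x).prod • β (Pi.single 1 c) := by
    rw [F.tr k, F.tr 1, hW, if_neg (show ¬ (k : ℕ) = 0 from fun e => hk (Fin.ext e)), List.map_append, List.prod_append,
      mul_smul]
    rfl
  rw [e, hw _ fun i hi => Or.inr ((good_chk k).2.2.1 i hi), h3]

/-- An injective endomorphism of the module is the identity. -/
theorem Fr.rigid_all (R : Rels x) (F : Fr x β) (S : V →+ V) (hS : Function.Injective S)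
    (h : ∀ (g : Γ) v, S (g • v) = g • S v) (v : V) : S v = v := by
  refine mem_of_gens (Z := S.eqLocus (AddMonoidHom.id V)) β (fun k c => ?_) v
  by_cases e : k = 0
  · subst e
    have f : x 9 • β (Pi.single 1 c) = β (Pi.single 0 c) := F.act R (n := 3) (by norm_num) 1 c
    change S _ = _
    rw [← f, h, F.rigid R S hS (fun _ _ => h _) (by decide)]
    rfl
  · exact F.rigid R S hS (fun _ _ => h _) e c

theorem Fr.quad_zero (F : Fr x β) {D : V → ZMod 2} (hq : Quad D)
    (hi : ∀ (g : Γ) v, D (g • v) = D v) (h0 : D (β (Pi.single 0 (1, 0))) = 0) (v : V) : D v = 0 := by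
  have a2 : ∀ a b c d e f g : ZMod 2, a + (b + c + d) = e + f + g →
      a + b + f = e + b + c + (g + b + d) := by decide
  let B : V →+ ZMod 2 := AddMonoidHom.mk' (fun w => D (β (Pi.single 0 (1, 0)) + w) +
    D (β (Pi.single 0 (1, 0))) + D w) fun v w => by
      rw [← add_assoc (β _), add_comm (β _) w]; exact a2 _ _ _ _ _ _ _ (hq _ v w)
  have ad : ∀ k : Fin 10, ∀ c d : KK, β (Pi.single k (c + d)) = β (Pi.single k c) +
      β (Pi.single k d) := fun k c d => by rw [Pi.single_add, map_add]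
  have r : ∀ c, x 3 • β (Pi.single 0 c) = β (Pi.single 0 (rho c)) := F.rot1 (by norm_num) 0
  have Bi : ∀ w, B (x 0 • w) = B w := fun w => by
    have f : x 0 • β (Pi.single 0 (1, 0)) = β (Pi.single 0 (1, 0)) := F.rot1 (by norm_num) 0 _
    simp only [B, AddMonoidHom.mk'_apply, hi]
    rw [← f, ← smul_add, hi, f]
  have key : ∀ w, w ∈ B.ker := by
    refine mem_of_gens β fun k c => ?_
    by_cases e : k = 0
    · subst e
      have h1 : D (β (Pi.single 0 (0, 1))) = 0 := (r (1, 0) ▸ hi (x 3) _).trans h0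
      have h2 : D (β (Pi.single 0 ((1, 0) + (0, 1)))) = 0 := (r (0, 1) ▸ hi (x 3) _).trans h1
      have g1 : β (Pi.single 0 (1, 0)) ∈ B.ker := by simp [B, h0, add_self, hq.zero]
      have g2 : β (Pi.single 0 (0, 1)) ∈ B.ker := by
        simp only [B, AddMonoidHom.mem_ker, AddMonoidHom.mk'_apply, ← ad, h0, h1, h2, add_zero]
      rcases KK_cases c with rfl | rfl | rfl | rfl
      exacts [by simp, g1, g2, ad 0 _ _ ▸ add_mem g1 g2]
    · have f : x 0 • x 0 • β (Pi.single k c) = β (Pi.single k c) + x 0 • β (Pi.single k c) := by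
        simp only [F.rot1 (i := 0) (by norm_num), ← ad]
        congr 2
        rcases dig_good k e with d | d <;> rw [d] <;> revert c <;> decide
      have e2 := Bi (x 0 • β (Pi.single k c))
      rwa [f, map_add, add_eq_right] at e2
  let Z : AddSubgroup V :=
    { carrier := {v | ∀ w, D (v + w) = D w}
      zero_mem' := fun w => by rw [zero_add]
      add_mem' := fun {a b} ha hb w => by rw [add_assoc, ha, hb]
      neg_mem' := fun {a} ha w => by rw [← ha, add_neg_cancel_left] }
  have hZ : ∀ (g : Γ), ∀ v ∈ Z, g • v ∈ Z := fun g v hv w => by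
    rw [← smul_inv_smul g w, ← smul_add, hi, hv]; exact (hi g _).symm
  have z1 : β (Pi.single 0 (1, 0)) ∈ Z := fun w => by
    have := key w
    simp only [B, AddMonoidHom.mem_ker, AddMonoidHom.mk'_apply, h0, add_zero] at this
    exact (by decide : ∀ a b : ZMod 2, a + b = 0 → a = b) _ _ this
  have z2 : β (Pi.single 0 (0, 1)) ∈ Z := r (1, 0) ▸ hZ _ _ z1
  have := mem_of_gens (Z := Z) β (fun k c => F.tr k c ▸ hZ _ _ (by
    rcases KK_cases c with rfl | rfl | rfl | rfl
    exacts [by simp, z1, z2, ad 0 _ _ ▸ add_mem z1 z2])) v 0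
  rwa [add_zero, hq.zero] at this

theorem Fr.quad_eq (F : Fr x β) {D E : V → ZMod 2}
    (hD : Quad D) (hE : Quad E) (iD : ∀ (g : Γ) v, D (g • v) = D v)
    (iE : ∀ (g : Γ) v, E (g • v) = E v) (nD : ∃ v, D v ≠ 0) (nE : ∃ v, E v ≠ 0) (v : V) :
    D v = E v := by
  obtain ⟨a, ha⟩ := nD
  obtain ⟨b, hb⟩ := nE
  refine (by decide : ∀ a b : ZMod 2, a + b = 0 → a = b) _ _
    (F.quad_zero (D := fun v => D v + E v) (fun u v w => ?_) (fun g v => by rw [iD, iE]) ?_ v)
  · linear_combination hD u v w + hE u v w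
  · rw [(z2 _).resolve_left fun e => ha (F.quad_zero hD iD e a),
      (z2 _).resolve_left fun e => hb (F.quad_zero hE iE e b)]
    rfl

variable {U : Type*} [AddCommGroup U] [Module (ZMod 2) U] [DistribMulAction Γ U]
  {α : (Fin 10 → KK) ≃+ U}

theorem all_agree (R : Rels x) (A : Fr x α) (B : Fr x β) {j : ℕ} (hj : j < 13) :
    x j ∈ agree Γ (α.symm.trans β) := by
  have hT : ∀ a, (α.symm.trans β) (α a) = β a := by simp
  generalize α.symm.trans β = T at *
  have gen : ∀ g : Γ, (∀ k c, T (g • α (Pi.single k c)) = g • β (Pi.single k c)) →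
      g ∈ agree Γ T := fun g h => mem_of_gens
    (Z := (T.toAddMonoidHom.comp (DistribSMul.toAddMonoidHom U g)).eqLocus
      ((DistribSMul.toAddMonoidHom V g).comp T.toAddMonoidHom)) α
    fun k c => (h k c).trans (congrArg _ (hT _).symm)
  have h10 : ∀ j < 10, x j ∈ agree Γ T := by
    intro j hj
    by_cases h : j < 4
    · exact gen _ fun k c => by rw [A.rot1 h, B.rot1 h, hT]
    by_cases h' : j < 6
    · obtain rfl | rfl : j = 4 ∨ j = 5 := by omega
      exacts [R.triv.1 ▸ one_mem _, R.triv.2 ▸ one_mem _]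
    · obtain ⟨n, rfl⟩ : ∃ n, j = n + 6 := ⟨j - 6, by omega⟩
      exact gen _ fun k c => by rw [A.act R (by omega), B.act R (by omega), hT]
  have h11 : ∀ j < 11, x j ∈ agree Γ T := fun j hj =>
    (Nat.lt_succ_iff_lt_or_eq.1 hj).elim (h10 j) fun e =>
      e ▸ R.ten ▸ mul_mem (h10 7 (by norm_num)) (h10 8 (by norm_num))
  by_cases h : j < 11
  · exact h11 j h
  obtain ⟨m, rfl⟩ : ∃ m, j = m + 11 := ⟨j - 11, by omega⟩
  refine gen _ fun k c => ?_
  by_cases e : k = 0
  · subst e
    rw [A.gfix R (by omega), B.gfix R (by omega), hT]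
  have e' : T.symm ((x (m + 11))⁻¹ • T (x (m + 11) • α (Pi.single k c))) = α (Pi.single k c) := by
    refine A.rigid R ((((DistribMulAction.toAddEquiv U (x (m + 11))).trans T).trans
      (DistribMulAction.toAddEquiv V (x (m + 11))⁻¹)).trans T.symm).toAddMonoidHom
      (AddEquiv.injective _) (fun i hi u => ?_) e c
    change T.symm ((x (m + 11))⁻¹ • T (x (m + 11) • x (aL i) • u)) =
      x (aL i) • T.symm ((x (m + 11))⁻¹ • T (x (m + 11) • u))
    have m1 : ((gW m i).map x).prod ∈ agree Γ T := list_prod_mem fun y hy => by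
      obtain ⟨j, hj, rfl⟩ := List.mem_map.1 hy
      exact h11 j (gW_lt m (by omega) i hi j hj)
    rw [smul_smul, R.gx m (by omega) i hi, mul_smul, m1, T.symm_apply_eq,
      h11 (aL i) ((by decide : ∀ i < 5, aL i < 11) i hi), T.apply_symm_apply, inv_smul_eq_iff,
      smul_smul (x (m + 11)), R.gx m (by omega) i hi, mul_smul, smul_inv_smul]
  rwa [T.symm_apply_eq, inv_smul_eq_iff, hT] at e'

theorem eqns_ModFr : True := by
  have := @step.eq_1
  have := @hW.eq_1
  have := @aL.eq_1
  have := @gW.eq_1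
  exact True.intro

end H96.EMod
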