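import Cfsg.Agent.Lib.ERec.Tri2

/-! Four commuting lines; the ten nodes satisfy the relators of the diagram Y333 (helper48). -/

set_option autoImplicit false
set_option maxRecDepth 100000
set_option linter.unusedSectionVars false

namespace H48.ER

open Cfsg H54 H16 Subgroup H77.YM H18.TC

universe u

/-- the line or the point of a node -/
noncomputable def ix (k : ℕ) : ℕ := nth [3, 1, 0, 0, 1, 2, 4, 0, 2, 3, 5] k
noncomputable def isL (k : ℕ) : Bool := tb 554 k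
noncomputable def isN (k : ℕ) : Bool := tb 1919 k

set_option synthInstance.maxSize 1024 in
theorem rx_chk : ∀ R ∈ RX, ∃ i < 11, ∃ j < 11, isN i = true ∧ isN j = true ∧ ((i = j ∧ R = rep 2 [i]) ∨
    (isL i = false ∧ isL j = false ∧ ix i < 10 ∧ ix j < 10 ∧ R = rep 2 [i, j]) ∨
    (isL i = true ∧ isL j = true ∧ ix i < 4 ∧ ix j < 4 ∧ R = rep 2 [i, j]) ∨
    (isL i = true ∧ isL j = false ∧ ix i < 4 ∧ ix j < 10 ∧
      ((on (ix i) (ix j) = true ∧ (R = rep 3 [i, j] ∨ R = rep 3 [j, i])) ∨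
      (2 ^ ix j &&& Dm (ix i) = 2 ^ ix j ∧ (R = rep 2 [i, j] ∨ R = rep 2 [j, i]))))) := by decide +kernel

/-- the collineation that puts the lines `i`, `j` in the places 1, 2 -/
def TW (i j : ℕ) : List ℕ := if i = 1 then (if j = 2 then [] else [1, 0]) else
  if i = 2 then (if j = 1 then [2] else [1, 0, 2]) else if j = 1 then [2, 1, 0] else [2, 1, 0, 2]

theorem tw_chk : ∀ i ∈ [1, 2, 3], ∀ j ∈ [1, 2, 3], i ≠ j → TrOk (sw (TW i j)) 0 0 ∧ TrOk (sw (TW i j)) 1 i ∧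
    TrOk (sw (TW i j)) 2 j := by decide +kernel

def PtOk (f σ : List ℕ) (a b : ℕ) : Prop :=
  isN (lab f 11 a) = true ∧ isL (lab f 11 a) = false ∧ ix (lab f 11 a) = sx σ b
def LnOk (f : List ℕ) (a l : ℕ) : Prop :=
  isN (lab f 11 a) = true ∧ isL (lab f 11 a) = true ∧ ix (lab f 11 a) = l

noncomputable instance instDecPtOk (f σ : List ℕ) (a b : ℕ) : Decidable (PtOk f σ a b) := by
  unfold PtOk; infer_instance
noncomputable instance instDecLnOk (f : List ℕ) (a l : ℕ) : Decidable (LnOk f a l) := by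
  unfold LnOk; infer_instance

set_option synthInstance.maxSize 1024 in
theorem ar_chk : ∀ f ∈ AR, ∃ i ∈ [1, 2, 3], ∃ j ∈ [1, 2, 3], i ≠ j ∧
    (PtOk f (sw (TW i j)) 0 3 ∧ LnOk f 1 i ∧ PtOk f (sw (TW i j)) 2 0 ∧ LnOk f 3 0 ∧ PtOk f (sw (TW i j)) 4 1 ∧
      LnOk f 5 j ∧ PtOk f (sw (TW i j)) 6 2) ∧ subRels (f.take 7) 11 RX RE = true ∧ (f.take 7).length = 7 ∧
    (∀ k < 7, lab (f.take 7) 11 k = lab f 11 k) ∧ sx (sw (TW i j)) 5 = ix (lab f 11 7) + 2 ∧
    sx (sw (TW i j)) 6 = ix (lab f 11 1) + 5 := by decide +kernel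

set_option synthInstance.maxSize 1024 in
theorem e7_chk : ∀ f ∈ AR, ∃ f' ∈ AR, ix (lab f' 11 1) = ix (lab f 11 1) ∧ ix (lab f 11 7) ≠ ix (lab f' 11 7) ∧
    ix (lab f 11 7) < 4 ∧ ix (lab f' 11 7) < 4 ∧ ix (lab f 11 1) < 4 ∧ ∃ a ∈ [2, 4, 8], ∃ b ∈ [2, 4, 8],
      ∃ d ∈ [[0, 1, 2, 3], [6, 5, 4, 3], [10, 9, 8, 3]], wD.map (lab f 11) = rep 5 (d ++ [a, b]) ∧
        wD.map (lab f' 11) = rep 5 (d ++ [b, a]) ∧ ([a, b, a, b] ∈ RX ∨ [b, a, b, a] ∈ RX) := by
  decide +kernel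

variable {G : Type u} [Group G]

def t3 (a b c : G) (i : ℕ) : G := if i = 0 then a else if i = 1 then b else c

structure Sys (Q : Subgroup G) (z : G) (q x : ℕ → G) : Prop where
  cand : ∀ l < 4, Cand Q z q l (x l)
  cu : ∀ l < 4, ∀ m < 4, Commute (x l) (x m)

noncomputable def un (q x : ℕ → G) (k : ℕ) : G :=
  if isN k = true then if isL k = true then x (ix k) else q (ix k) else 1

theorem pow_swap {a b : G} {k : ℕ} (h : (a * b) ^ k = 1) : (b * a) ^ k = 1 := by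
  rw [show b * a = b * (a * b) * b⁻¹ by group, conj_pow, h]; simp

theorem ev_congr {g g' : ℕ → G} {w : List ℕ} (h : ∀ k ∈ w, g k = g' k) : ev g w = ev g' w :=
  congrArg _ (List.map_congr_left fun k hk => h k (List.mem_reverse.1 hk))

theorem c3 {Q : Subgroup G} {z a b d : G} {q : ℕ → G} (ha : Cand Q z q 0 a) (hb : Cand Q z q 1 b)
    (hd : Cand Q z q 2 d) : ∀ l < 3, Cand Q z q l (t3 a b d l) := fun l hl => by
  interval_cases l
  exacts [ha, hb, hd]

namespace Bas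

variable {Q : Subgroup G} {z : G} {q : ℕ → G} (B : Bas z q)
include B

theorem ncz {l : ℕ} (hl : l < 4) {x : G} (h : Cand Q z q l x) : ¬ Commute x z := fun c => by
  have h3 := h.1.2.2.1
  rw [c.eq, mul_inv_cancel_right, left_eq_mul] at h3
  obtain ⟨c1, c2⟩ := (by decide +kernel : ∀ l < 4, Wm l < 2 ^ 20 ∧ Wm l ≠ 0) l hl
  exact c2 (B.eq_of_ap (Or.inl (h3.trans (e_zero q).symm)) c1 (by norm_num))

theorem ncm {l k : ℕ} (hl : l < 4) {x : G} (h : Cand Q z q l x) (hk : k < 10) (c : on l k = true) :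
    ¬ Commute x (q k) := fun cm => by
  have h2 := h.2 k hk c
  have hq := B.sq k (by omega)
  rw [cm.mul_pow, pow_succ, pow_two, h.1.1, one_mul, pow_succ, pow_two, hq, one_mul,
    mul_eq_one_iff_eq_inv, inv_eq_of_mul_eq_one_left hq] at h2
  exact B.ncz hl h (h2 ▸ B.zq k (by omega))

theorem q_inj {i j : ℕ} (hi : i < 20) (hj : j < 20) (h : q i = q j) : i = j :=
  Nat.pow_right_injective (le_refl 2) (B.eq_of_ap (Or.inl (by rw [e_pow q hi, e_pow q hj, h]))
    (Nat.pow_lt_pow_right (by norm_num) hi) (Nat.pow_lt_pow_right (by norm_num) hj))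

end Bas

namespace Fr

variable {z : G} {Q : Subgroup G} {cls : leechLattice → G → Prop} {q : ℕ → G} [Finite G] (F : Fr z Q cls q)
include F

theorem exists_sys : ∃ x, Sys Q z q x := by
  have B := F.bas
  obtain ⟨a, ha⟩ := F.cand_all (l := 0) (by norm_num)
  have k1 : ∀ m ∈ [1, 2, 3], ∃ b, Cand Q z q m b ∧ Commute a b := fun m hm => by
    obtain ⟨j, hj, n, m4, j4⟩ := (by decide : ∀ m ∈ [1, 2, 3], ∃ j ∈ [1, 2, 3], m ≠ j ∧ m < 4 ∧ j < 4) m hm
    obtain ⟨b, hb⟩ := F.cand_all m4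
    obtain ⟨d, hd⟩ := F.cand_all j4
    obtain ⟨c0, c1, c2⟩ := tw_chk m hm j hj n
    obtain ⟨c', F'⟩ := F.rel (TW m j)
    rcases F'.ex2a (c3 ((B.cand_rl c0).2 ha) ((B.cand_rl c1).2 hb) ((B.cand_rl c2).2 hd)) with k | k
    exacts [⟨b, hb, k⟩, ⟨_, B.cand_z hb, k⟩]
  have k2 : ∀ i ∈ [1, 2, 3], ∀ j ∈ [1, 2, 3], i ≠ j → ∀ {b d}, Cand Q z q i b → Cand Q z q j d →
      Commute a b → Commute a d → Commute b d := fun i hi j hj n b d hb hd ab ad => by
    obtain ⟨c0, c1, c2⟩ := tw_chk i hi j hj n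
    obtain ⟨c', F'⟩ := F.rel (TW i j)
    exact (F'.tri0 (c3 ((B.cand_rl c0).2 ha) ((B.cand_rl c1).2 hb) ((B.cand_rl c2).2 hd)) ab ad).1
  obtain ⟨b1, h1, a1⟩ := k1 1 (by decide)
  obtain ⟨b2, h2, a2⟩ := k1 2 (by decide)
  obtain ⟨b3, h3, a3⟩ := k1 3 (by decide)
  have c12 := k2 1 (by decide) 2 (by decide) (by decide) h1 h2 a1 a2
  have c13 := k2 1 (by decide) 3 (by decide) (by decide) h1 h3 a1 a3
  have c23 := k2 2 (by decide) 3 (by decide) (by decide) h2 h3 a2 a3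
  refine ⟨fun l => [a, b1, b2, b3].getD l 1, fun l hl => ?_, fun l hl m hm => ?_⟩
  · interval_cases l
    exacts [ha, h1, h2, h3]
  · interval_cases l <;> interval_cases m
    exacts [.refl _, a1, a2, a3, a1.symm, .refl _, c12, c13, a2.symm, c12.symm, .refl _, c23, a3.symm,
      c13.symm, c23.symm, .refl _]

variable {x : ℕ → G} (S : Sys Q z q x)
include S

theorem un_sq (k : ℕ) : un q x k * un q x k = 1 := by
  unfold un
  split_ifs with h1 h2
  · exact (S.cand _ ((by decide +kernel : ∀ k < 11, isL k = true → ix k < 4) k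
      (H18.YB.tb_lt (by norm_num) h1) h2)).1.1
  · exact F.bas.sq _ ((by decide +kernel : ∀ k < 11, ix k < 20) k (H18.YB.tb_lt (by norm_num) h1))
  · exact one_mul 1

theorem satX : Sat (un q x) 11 RX := by
  have B := F.bas
  refine ⟨fun k => eq_inv_of_mul_eq_one_left (F.un_sq S k), if_neg (by decide +kernel), fun R hR => ?_⟩
  obtain ⟨i, -, j, -, hi, hj, h⟩ := rx_chk R hR
  have key : ∀ {k}, (un q x i * un q x j) ^ k = 1 →
      ev (un q x) (rep k [i, j]) = 1 ∧ ev (un q x) (rep k [j, i]) = 1 := fun h => by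
    simp only [ev_rep, ev_cons, ev_nil, one_mul]
    exact ⟨pow_swap h, h⟩
  have k2 : Commute (un q x i) (un q x j) → (un q x i * un q x j) ^ 2 = 1 := fun c => by
    rw [c.mul_pow, pow_two, pow_two, F.un_sq S, F.un_sq S, one_mul]
  rcases h with ⟨rfl, rfl⟩ | ⟨a, b, c, d, rfl⟩ | ⟨a, b, c, d, rfl⟩ | ⟨a, b, c, d, ⟨f, g⟩ | ⟨f, g⟩⟩
  · rw [ev_rep, ev_single, pow_two, F.un_sq S]
  · exact (key (k2 (by simp only [un, hi, hj, a, b, if_true, Bool.false_eq_true, if_false]; exact B.q_comm c d))).1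
  · exact (key (k2 (by simp only [un, hi, hj, a, b, if_true]; exact S.cu _ c _ d))).1
  · have := key (k := 3) (by
      simp only [un, hi, hj, a, b, if_true, Bool.false_eq_true, if_false]; exact (S.cand _ c).2 _ d f)
    rcases g with rfl | rfl
    exacts [this.1, this.2]
  · have := key (k2 (by
      simp only [un, hi, hj, a, b, if_true, Bool.false_eq_true, if_false]
      exact (S.cand _ c).1.cm (by omega) f))
    rcases g with rfl | rfl
    exacts [this.1, this.2]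

theorem arm {f : List ℕ} (hf : f ∈ AR) :
    Ap (q (ix (lab f 11 7) + 2)) (ev (un q x) (wD.map (lab f 11))) (q (ix (lab f 11 1) + 5)) ∧
    ev (un q x) (wN.map (lab f 11)) = q (ix (lab f 11 1) + 5) ∧ ev (un q x) (wE.map (lab f 11)) =
      ev (un q x) (wN.map (lab f 11)) * ev (un q x) (wD.map (lab f 11)) := by
  have B := F.bas
  obtain ⟨i, hi, j, hj, n, ⟨p0, p1, p2, p3, p4, p5, p6⟩, c, l, t, s5, s6⟩ := ar_chk f hf
  obtain ⟨c0, c1, c2⟩ := tw_chk i hi j hj n
  obtain ⟨c', F'⟩ := F.rel (TW i j)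
  have i4 := (by decide : ∀ i ∈ [1, 2, 3], i < 4) i hi
  have j4 := (by decide : ∀ i ∈ [1, 2, 3], i < 4) j hj
  have X := (F.satX S).sub _ c
  rw [l] at X
  have up : ∀ {a b}, a < 7 → PtOk f (sw (TW i j)) a b →
      un q x (lab (f.take 7) 11 a) = rl q (sw (TW i j)) b := fun ha h => by
    rw [t _ ha, un, if_pos h.1, if_neg (by simp [h.2.1]), h.2.2, rl]
  have ul : ∀ {a l}, a < 7 → LnOk f a l → un q x (lab (f.take 7) 11 a) = x l := fun ha h => by
    rw [t _ ha, un, if_pos h.1, if_pos h.2.1, h.2.2]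
  have e1 : ∀ w : List ℕ, (∀ k ∈ w, k < 7) → ev (un q x) (w.map (lab f 11)) =
      ev (fun k => un q x (lab (f.take 7) 11 k)) w := fun w hw => by
    rw [ev_map]; exact ev_congr fun k hk => congrArg (un q x) (t k (hw k hk)).symm
  have := F'.tri1 (c3 ((B.cand_rl c0).2 (S.cand 0 (by norm_num))) ((B.cand_rl c1).2 (S.cand i i4))
    ((B.cand_rl c2).2 (S.cand j j4))) (S.cu 0 (by norm_num) i i4) (S.cu 0 (by norm_num) j j4) X
    ⟨up (by norm_num) p0, ul (by norm_num) p1, up (by norm_num) p2, ul (by norm_num) p3, up (by norm_num) p4,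
      ul (by norm_num) p5, up (by norm_num) p6⟩
  rw [rl, rl, s5, s6] at this
  rw [e1 wD (by decide +kernel), e1 wN (by decide +kernel), e1 wE (by decide +kernel)]
  exact ⟨this.1, this.2, e7_eq X⟩

theorem e7 : ∀ f ∈ AR, ev (un q x) (wE.map (lab f 11)) = 1 := fun f hf => by
  have B := F.bas
  obtain ⟨f', hf', c1, c2, c3, c4, c5, a, -, b, -, d, -, k, k', cm⟩ := e7_chk f hf
  obtain ⟨h1, h2, h3⟩ := F.arm S hf
  obtain ⟨h4, -, -⟩ := F.arm S hf'
  have e1 : ev (un q x) (wD.map (lab f' 11)) = ev (un q x) (wD.map (lab f 11)) := by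
    simp only [k, k', ev_rep, ev_append, ev_cons, ev_nil, one_mul, ((F.satX S).comm cm).eq]
  rw [e1, c1] at h4
  rw [h3, h2, h1.resolve_right fun h => h4.elim (fun h' => ?_) fun h' => ?_, B.sq _ (by omega)]
  · rw [h', left_eq_mul] at h
    exact absurd (B.eq_of_ap (m := 2 ^ (ix (lab f 11 7) + 2)) (n := 0)
      (Or.inl (by rw [e_pow q (by omega), h, e_zero])) (Nat.pow_lt_pow_right (by norm_num) (by omega))
      (by norm_num)) (by positivity)
  · rw [h', mul_right_inj] at h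
    have := B.q_inj (by omega) (by omega) h
    omega

theorem spider : ∀ w ∈ SK, ev (un q x) (rep 10 w) = 1 := fun w hw => by
  have h := sp_cent (F.satX S) (F.e7 S) w hw
  generalize ev (un q x) (rep 10 w) = s at h ⊢
  have hz : ∀ f ∈ AR, Commute s (q (ix (lab f 11 1) + 5)) := fun f hf => (F.arm S hf).2.1 ▸ comm_ev fun k hk =>
    h k ((by decide +kernel : ∀ f ∈ AR, ∀ k ∈ wN.map (lab f 11), k ∈ H18.YB.fK) f hf k hk)
  refine (F.cent (fun l hl => S.cand l (by omega)) (fun l hl => ?_) fun i hi => ?_).resolve_right fun k => ?_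
  · interval_cases l
    exacts [h 3 (by decide), h 1 (by decide), h 5 (by decide)]
  · simp only [List.mem_cons, List.not_mem_nil, or_false] at hi
    rcases hi with rfl | rfl | rfl | rfl | rfl | rfl
    exacts [h 2 (by decide), h 4 (by decide), h 6 (by decide), h 10 (by decide),
      hz [0, 1, 2, 3, 4, 5, 8, 9] (by decide), hz [10, 9, 8, 3, 2, 1, 4, 5] (by decide)]
  · exact F.bas.ncm (l := 3) (by norm_num) (S.cand 3 (by norm_num)) (k := 5) (by norm_num) (by decide +kernel)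
      (k ▸ (h 9 (by decide)).symm)

omit S in
theorem nod : ∃ g : ℕ → G, Sat g 11 H18.YB.RK ∧ IsConj z (g 0) := by
  obtain ⟨x, S⟩ := F.exists_sys
  obtain ⟨c, F'⟩ := F.rel [1, 0, 2]
  have := F'.conj5
  rw [rl, show sx (sw [1, 0, 2]) 5 = 3 by decide +kernel] at this
  exact ⟨_, sat_RK (F.satX S) (F.e7 S) (F.spider S), this⟩

end Fr

end H48.ER
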