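import Cfsg.Agent.Lib.ERec.TriD
import Cfsg.Agent.Lib.YM.Tri

/-! The lines a, c1, c2 seen from the centraliser of `e q 32`. -/

set_option autoImplicit false
set_option maxRecDepth 100000
set_option linter.unusedSectionVars false

namespace H48.ER.Tr

open Cfsg H54 H16 Subgroup H77.YM
open H95 hiding zp zp_zero zp_one zp_add zp_inj zp_comm

variable {G : Type*} [Group G]

noncomputable def Nd (q x : ℕ → G) (k : ℕ) : G :=
  if k < 10 then e q (nth PK k) else if k < 13 then x (k - 10) else e q (nth HB (k - 13))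

theorem Nd_p (q x : ℕ → G) {k : ℕ} (h : k < 10) : Nd q x k = e q (nth PK k) := if_pos h

theorem Nd_q (q x : ℕ → G) {k : ℕ} (h : k < 5) : Nd q x k = q k := by
  rw [Nd_p q x (by omega), (by decide +kernel : ∀ k < 5, nth PK k = 2 ^ k) k h, e_pow q (by omega)]

theorem Nd_l (q x : ℕ → G) {l : ℕ} (h : l < 3) : Nd q x (10 + l) = x l := by
  rw [Nd, if_neg (by omega), if_pos (by omega), Nat.add_sub_cancel_left]

theorem Nd_h (q x : ℕ → G) (j : ℕ) : Nd q x (13 + j) = e q (nth HB j) := by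
  rw [Nd, if_neg (by omega), if_neg (by omega), Nat.add_sub_cancel_left]

theorem evw_rep (g : ℕ → G) (m : ℕ) (w : List ℕ) : evw g (H18.TC.rep m w) = evw g w ^ m := by
  induction m with
  | zero => simp [H18.TC.rep, evw]
  | succ m ih =>
    rw [pow_succ', ← ih, ← evw_append]
    simp [H18.TC.rep, List.replicate_succ]

structure Tw (z : G) (q : ℕ → G) (u : G) : Prop where
  uu : u * u = 1
  uz : u * z * u⁻¹ = e q 32
  uh : ∀ h ∈ HB, Commute u (e q h)

structure Ses (z : G) (q x : ℕ → G) (u : G) (ρ : ℕ → ZMod 2) : Prop where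
  T : Tw z q u
  h0 : ρ 0 = 1
  rep : ∀ k, Rep z q ρ (u * Nd q x k * u⁻¹) (gens3 k)
  rows : ZF ρ ROWS

section
variable {Q : Subgroup G} {z u x : G} {q : ℕ → G}

theorem Tw.cc (T : Tw z q u) (g : G) : u * (u * g * u⁻¹) * u⁻¹ = g := by
  rw [inv_eq_of_mul_eq_one_left T.uu, ← mul_assoc, ← mul_assoc, T.uu, one_mul, mul_assoc, T.uu, mul_one]

theorem Tw.uy (T : Tw z q u) : u * e q 32 * u⁻¹ = z := by rw [← T.uz, T.cc]

theorem Tw.un (T : Tw z q u) {g n : G} (c : Commute u n) (h : Ap z (u * g * u⁻¹) n) :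
    Ap (e q 32) g n := by
  have e1 : u * n * u⁻¹ = n := by rw [c.eq, mul_inv_cancel_right]
  rcases h with h | h
  · exact Or.inl (by rwa [← e1, mul_left_inj, mul_right_inj] at h)
  · exact Or.inr (by rwa [← e1, ← T.uy, conj_mul, mul_left_inj, mul_right_inj] at h)

theorem Tw.uH (T : Tw z q u) (j : ℕ) : u * e q (nth HB j) * u⁻¹ = e q (nth HB j) := by
  rw [mul_inv_eq_iff_eq_mul, nth_eq]
  rcases lt_or_ge j HB.length with h | h
  · rw [List.getD_eq_getElem _ _ h]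
    exact T.uh _ (List.getElem_mem h)
  · rw [List.getD_eq_default _ _ h, e_zero, mul_one, one_mul]

theorem uW (B : Bas z q) (T : Tw z q u) {l : ℕ} (hl : l < 3) :
    u * e q (Wm l) * u⁻¹ = e q (Wm l) := by
  obtain ⟨a, ha, b, hb, c, hc, h1, h2, h3⟩ := (by decide +kernel : ∀ l < 3, ∃ a ∈ HB, ∃ b ∈ HB, ∃ c ∈ HB,
    be a b = 0 ∧ be (a ^^^ b) c = 0 ∧ Wm l = a ^^^ b ^^^ c) l hl
  rw [h3, ← B.e_mul0 h2, ← B.e_mul0 h1, (((T.uh a ha).mul_right (T.uh b hb)).mul_right (T.uh c hc)).eq,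
    mul_inv_cancel_right]

theorem idOk_of (B : Bas z q) {A : List ℕ} (H : Act z q 1 A) : idOk A = true := by
  refine (allLt_iff _ _).2 fun i hi => ?_
  rw [Nat.beq_eq, nth_eq]
  refine Nat.eq_of_testBit_eq fun j => ?_
  rw [show Nat.land (A.getD i 0) 1048575 = A.getD i 0 &&& (2 ^ 20 - 1) from rfl, Nat.testBit_and,
    Nat.testBit_two_pow_sub_one, show Nat.pow 2 i = 2 ^ i from rfl]
  by_cases hj : j < 20
  · rw [B.act_eq H Bas.act_one hi hj, (by decide +kernel : ∀ i < 20, ID.getD i 0 = 2 ^ i) i hi]; simp [hj]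
  · rw [Nat.testBit_two_pow_of_ne (by omega)]; simp [hj]

theorem xW (B : Bas z q) {l : ℕ} (h : CB Q z q l x) : x * e q (Wm l) = z * x * z⁻¹ := by
  have xi : x⁻¹ = x := inv_eq_of_mul_eq_one_left h.1
  rw [inv_eq_of_mul_eq_one_left B.zz, eq_comm, ← inv_mul_eq_iff_eq_mul, ← mul_assoc, ← mul_assoc, xi]
  nth_rewrite 2 [← xi]
  rw [h.2.2.1, ← B.e_z, mul_assoc, B.zz, mul_one]

theorem br (B : Bas z q) {l k : ℕ} (h : Cand Q z q l x) (hk : k < 10) (ok : on l k = true) :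
    x * q k * x = q k * x * q k := braid_of h.1.1 (B.sq k (by omega)) (h.2 k hk ok)

theorem cy {l : ℕ} (hl : l < 3) (h : Cand Q z q l x) : Commute x (e q 32) :=
  h.1.2.2.2 _ ((by decide +kernel : ∀ l < 3, 32 &&& Dm l = 32) l hl)

theorem el_ap (ρ : ℕ → ZMod 2) {n m : ℕ} (h : Nat.beq (Nat.land n 1048575) m = true) :
    Ap z (el z q ρ n) (e q m) := by
  rw [el, show e q n = e q m from E_congr q fun i hi => land_bits h hi]
  exact ap_zp _ _ _

theorem el_y (ρ : ℕ → ZMod 2) {b : ℕ} (h : b = 0 ∨ b = 1) : el z q ρ (b * 32) = zp (e q 32) b := by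
  rcases h with rfl | rfl <;> rw [el_lt z q ρ (by norm_num)] <;> simp [e_zero]

theorem Tw.uem (T : Tw z q u) (B : Bas z q) {ρ : ℕ → ZMod 2} (h0 : ρ 0 = 1) {L : List ℕ}
    (h : ∀ a ∈ L, a ∈ HB) : u * el z q ρ (em L) * u⁻¹ = el z q ρ (em L) := by
  induction L with
  | nil => rw [show em [] = 0 from rfl, el_lt z q ρ (by norm_num), e_zero]; simp
  | cons a L ih =>
    have ha := h a List.mem_cons_self
    rw [show em (a :: L) = emul a (em L) from rfl, B.el_emul h0, ← conj_mul,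
      ih fun b hb => h b (List.mem_cons_of_mem _ hb),
      el_lt z q ρ ((by decide : ∀ a ∈ HB, a < 2 ^ 20) a ha), (T.uh a ha).eq, mul_inv_cancel_right]

theorem Tw.sym (T : Tw z q u) (B : Bas z q) {p p' R : G} {b s : ZMod 2} (uR : u * R * u⁻¹ = R)
    (pp : p * p = 1) (pz : p' * z = z * p')
    (h : u * p * u⁻¹ * p' * (u * p * u⁻¹)⁻¹ = R * zp (e q 32) b * p' * zp z s) :
    p * (u * p' * u⁻¹ * p * (u * p' * u⁻¹)⁻¹) = R * zp (e q 32) s * zp z b := by
  have h1 : ∀ t : ZMod 2, u * zp z t * u⁻¹ = zp (e q 32) t := fun t => by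
    rcases z2 t with rfl | rfl <;> simp [T.uz]
  have h2 : u * zp (e q 32) b * u⁻¹ = zp z b := by rw [← h1, T.cc]
  have h3 : u * _ * u⁻¹ = u * _ * u⁻¹ := congrArg (u * · * u⁻¹) h
  have pi := inv_eq_of_mul_eq_one_left pp
  rw [mul_assoc _ p' (zp z s), zp_comm pz, ← conj_mul (a := R * _), ← conj_mul (a := R), uR, h2,
    ← conj_mul (a := zp z s), h1, show (u * p * u⁻¹)⁻¹ = u * p * u⁻¹ by rw [conj_inv, pi],
    ← conj_mul (a := _ * p'), ← conj_mul (a := u * p * u⁻¹), T.cc] at h3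
  rw [← mul_assoc, ← mul_assoc, h3, mul_assoc R, mul_assoc R, mul_assoc R, ← mul_assoc (zp z b),
    mul_inv_cancel_right, zp_comm (zp_comm (B.e_z 32).symm s).symm]

end

section
variable {z : G} {Q : Subgroup G} {cls : leechLattice → G → Prop} {q : ℕ → G} [Finite G] (F : Fr z Q cls q)
include F

theorem exists_tw : ∃ u, Tw z q u := by
  have B := F.bas
  have h : Ap z (z * e q 32) (e q 32) := Or.inr (B.e_z _).symm
  obtain ⟨x, -, h2, h3, h4⟩ := exists_cand (F.good (d := 1) (w := z * e q 32) (by simp) (by simpa using h)).1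
    (by rw [F.card]; norm_num) (LU.map fun r => (e q r.1, e q r.2.1)) (by
      intro r hr'
      obtain ⟨r, hr, rfl⟩ := List.mem_map.1 hr'
      obtain ⟨c1, c2, c3⟩ := (by decide +kernel : ∀ r ∈ LU, r.1 = H15.encL Fr.FM' r.2.2 ∧ bf r.2.1 32 = 0 ∧
        bf r.2.1 r.1 = 1) r hr
      exact ⟨c1 ▸ F.inE_std h _, B.e_z _, B.e_z _,
        ((show Commute _ z from B.e_z _).mul_right (B.e_comm0 c2)).eq, B.e_conj1 c3⟩)
    (List.pairwise_map.2 ((by decide +kernel : LU.Pairwise fun r s => bf r.2.1 s.1 = 0).imp B.e_comm0))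
  refine ⟨x, h2, by rw [h3, ← mul_assoc, B.zz, one_mul], fun m hm => ?_⟩
  obtain ⟨r, hr, rfl⟩ := (by decide : ∀ m ∈ HB, ∃ r ∈ LU, r.1 = m) m hm
  exact h4 _ (List.mem_map_of_mem hr)

theorem eps_chk {w d b : G} {D D' : List ℕ} (hd : Act z q d D) (hd' : Act z q d⁻¹ D')
    (h : Ap z (d⁻¹ * w * d) (e q 32)) (hb : b ∈ QW Q z w) (hz : b * z = z * b)
    {C : List (ℕ × ℕ × ℕ)} {f : List ℕ → Bool} (c : epsChk D D' C f = true)
    (H : ∀ c ∈ C, b * e q c.1 * b⁻¹ = e q c.1 * zp w c.2.1) : ∃ A, Act z q b A ∧ f A = true := by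
  unfold epsChk at c
  rw [forceL_eq, forceL_eq, band_eq_true, allLt_iff] at c
  obtain ⟨t, ht, h1, h2⟩ := F.eps_act hd hd' h hb hz c.1 fun c hc => Or.inl (H c hc)
  have := c.2 t ht
  rw [bimp_eq_true, forceL_eq, forceL_eq, forceL_eq] at this
  exact ⟨_, h2, this h1⟩

theorem comm_of_ap {l m r : ℕ} (hl : l < 3)
    (c : r < 10 ∧ on l r = true ∧ 2 ^ r &&& Dm m = 2 ^ r ∧ bf (2 ^ r) 32 = 0)
    {a b : G} (ha : Cand Q z q l a) (hb : Cand Q z q m b) (h : Ap (e q 32) ((a * b) ^ 2) 1) :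
    Commute a b := by
  have hr : r < 20 := by omega
  rcases h with h | h
  · rw [pow_two] at h
    calc a * b = (a * b)⁻¹ := eq_inv_of_mul_eq_one_left h
      _ = b * a := by
        rw [mul_inv_rev, inv_eq_of_mul_eq_one_left ha.1.1, inv_eq_of_mul_eq_one_left hb.1.1]
  · exact absurd (Or.inl (no_y ha.1.1 hb.1.1 (F.bas.sq r hr) F.yy (h.trans (one_mul _)) (cy hl ha)
      (e_pow q hr ▸ F.bas.e_comm0 c.2.2.2) (br F.bas ha c.1 c.2.1) (hb.1.cm hr c.2.2.1))) F.not_ap_y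

variable {x : ℕ → G} (hx : ∀ l < 3, Cand Q z q l (x l))
include hx

section
variable {u : G} (T : Tw z q u)
include T

theorem gz {k : ℕ} (hk : k < 13) : u * Nd q x k * u⁻¹ * z = z * (u * Nd q x k * u⁻¹) := by
  have : Commute (Nd q x k) (e q 32) := by
    unfold Nd
    split_ifs with c
    · exact F.bas.e_comm0 (pk_chk k c).2.2
    · exact cy (by omega) (hx _ (by omega))
  have := comm_conj u this
  rwa [T.uy] at this

theorem con {k : ℕ} (hk : k < 13) {c : ℕ × ℕ × ℕ} (hc : c ∈ CC k) :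
    u * Nd q x k * u⁻¹ * e q c.1 * (u * Nd q x k * u⁻¹)⁻¹ = e q c.1 * zp (e q (wm k)) c.2.1 := by
  have B := F.bas
  have k1 : ∀ {n a : G}, Commute u a → u * n * u⁻¹ * a * (u * n * u⁻¹)⁻¹ = u * (n * a * n⁻¹) * u⁻¹ := by
    intro n a h
    calc _ = u * (n * (u⁻¹ * (a * u)) * n⁻¹) * u⁻¹ := by group
      _ = _ := by rw [← h.eq, inv_mul_cancel_left]
  have k2 : ∀ n : G, u * n * u⁻¹ * e q 32 * (u * n * u⁻¹)⁻¹ = u * (n * z * n⁻¹) * u⁻¹ := by
    intro n; rw [← T.uz]; group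
  obtain ⟨-, -, -, ⟨h9, ⟨h1, h2⟩ | ⟨h1, h2⟩⟩ | ⟨h9, ⟨h1, h2, h3⟩ | ⟨h1, h2⟩⟩⟩ := (cc_chk k hk).2.2 c hc
  · rw [k1 (T.uh _ h1), Nd_p q x h9, B.e_conj, h2, wm, if_pos h9, ← mul_assoc, (T.uh _ h1).eq, mul_assoc,
      mul_assoc, ← mul_assoc u, ← T.uz]
    rcases z2 (bf (nth PK k) c.1 : ZMod 2) with s | s <;> simp [s]
  · rw [h1, h2, k2, Nd_p q x h9, B.e_z, mul_inv_cancel_right, T.uz]; simp
  · rw [k1 (T.uh _ h1), h3, Nd, if_neg h9, if_pos hk, ((hx _ (by omega)).1.2.2.2 _ h2).eq,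
      mul_inv_cancel_right, (T.uh _ h1).eq]
    simp
  · rw [h1, h2, k2, Nd, if_neg h9, if_pos hk, (hx _ (by omega)).1.2.2.1,
      ← conj_mul, T.uz, uW B T (by omega), wm, if_neg h9]
    simp

theorem actP {k : ℕ} (hk : k < 10) : Act z q (u * Nd q x k * u⁻¹) (XS k) := by
  obtain ⟨A, h1, h2⟩ := eps_chk F (d := 1) (w := e q 32) Bas.act_one (by rw [inv_one]; exact Bas.act_one)
    (by simpa using Ap.refl _ _) (QW_conj' (by rw [QW_z F.h, Nd_p q x hk]; exact F.e_mem _) T.uz)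
    (gz F hx T (by omega)) ((allLt_iff _ _).1 pt_chk k hk) fun c hc => by
      rw [con F hx T (by omega) hc, wm, if_pos hk]
  exact H18.TC.leq_spec _ _ h2 ▸ h1

theorem actL {l : ℕ} (hl : l < 3) : Act z q (u * Nd q x (10 + l) * u⁻¹) (XS (10 + l)) := by
  have B := F.bas
  obtain ⟨d, d1, d2, d3⟩ := F.exists_d hl
  obtain ⟨A, h1, h2⟩ := eps_chk F d1 d2 d3 (QW_conj' (by
      rw [Nd_l q x hl]; exact (hx l hl).1.2.1) (uW B T hl))
    (gz F hx T (by omega)) ((allLt_iff _ _).1 ln_chk l hl) fun c hc => by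
      rw [con F hx T (by omega) hc, wm, if_neg (by omega), Nat.add_sub_cancel_left]
  unfold brOk at h2
  rw [bimp_eq_true, forceL_eq, forceL_eq, forceL_eq] at h2
  have h3 := B.act_mul h1 (actP F hx T (k := l / 2) (by omega))
  have h4 := B.act_mul (B.act_mul h3 h3) h3
  have h5 := (hx l hl).2 (l / 2) (by omega) ((by decide +kernel : ∀ l < 3, on l (l / 2) = true) l hl)
  rw [← pow3, conj_mul, conj_pow, Nd_l q x hl, Nd_q q x (by omega), h5, mul_one, mul_inv_cancel] at h4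
  exact H18.TC.leq_spec _ _ (h2 (idOk_of B h4)) ▸ h1

/-- the constraints coming from the symmetry between the two extraspecial groups -/
theorem symc {ρ : ℕ → ZMod 2} (h0 : ρ 0 = 1) {r : ℕ × ℕ × List ℕ × ℕ × ℕ} (hr : r ∈ SY) :
    u * Nd q x r.1 * u⁻¹ * el z q ρ (nth PK r.2.1) * (u * Nd q x r.1 * u⁻¹)⁻¹ =
      el z q ρ (emul (syN r) (0 ^^^ r.2.2.2.2 <<< 20)) := by
  have B := F.bas
  obtain ⟨c1, c2, c3, c4, c5, c6, c7⟩ := sy_chk r hr
  have a1 := B.act_app (actP F hx T c1) (nth PK r.2.1)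
  have a2 := B.act_app (actP F hx T c2) (nth PK r.1)
  obtain ⟨s, hs⟩ := (a1.trans B.zz ((el_ap ρ c6).symm B.zz)).ex
  have a3 := el_ap (z := z) (q := q) ρ c7
  have uR := T.uem B h0 c3
  rw [el_lt z q ρ (pk_chk _ c2).1, hs, B.el_emul h0, Bas.el_xor_shl _ _ (by norm_num), e_zero, one_mul,
    val_bit h0 c5]
  rw [syN, B.el_emul h0, B.el_emul h0, el_y ρ c4, el_lt z q ρ (pk_chk _ c2).1] at hs
  rw [B.el_emul h0, el_y ρ c5] at a3
  rw [Nd_p q x c1] at hs
  rw [Nd_p q x c2] at a2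
  have a4 := (a2.mul_left (e q (nth PK r.1))).trans B.zz (B.e_ap _ _)
  rw [T.sym B uR (B.e_sq (pk_chk _ c1).2.1) (B.e_z _) hs] at a4
  rw [F.ap_y_inj ((((ap_zp _ _ _).symm B.zz).trans B.zz a4).trans B.zz (a3.symm B.zz))]

end

theorem rel1 {r : List ℕ × List ℕ × ℕ} (hr : r ∈ R1) :
    evw (Nd q x) r.1 = evw (Nd q x) r.2.1 ∧ r.2.2 = 0 := by
  simp only [R1, List.mem_append, List.mem_map] at hr
  rcases hr with ⟨p, hp, rfl⟩ | ⟨p, hp, rfl⟩ <;> simp only [evw_cons, evw_nil, mul_one, and_true]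
  · obtain ⟨c1, c2, c3⟩ := (by decide +kernel : ∀ p ∈ BR, p.1 < 3 ∧ p.2 < 5 ∧ on p.1 p.2 = true) p hp
    rw [Nd_q q x c2, Nd_l q x c1, ← mul_assoc, ← mul_assoc]
    exact br F.bas (hx _ c1) (by omega) c3
  · obtain ⟨c1, c2, c3⟩ := (by decide +kernel : ∀ p ∈ CML, p.1 < 3 ∧ p.2 < 5 ∧
      2 ^ p.2 &&& Dm p.1 = 2 ^ p.2) p hp
    rw [Nd_q q x c2, Nd_l q x c1]
    exact (hx _ c1).1.cm (by omega) c3

theorem exists_ses : ∃ u ρ, Ses z q x u ρ := by
  have B := F.bas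
  obtain ⟨u, T⟩ := exists_tw F
  have act : ∀ k < 13, Act z q (u * Nd q x k * u⁻¹) (XS k) := fun k hk => by
    by_cases c : k < 10
    · exact actP F hx T c
    · obtain ⟨l, rfl⟩ := Nat.exists_eq_add_of_le (not_lt.1 c)
      exact actL F hx T (by omega)
  obtain ⟨ρ, h0, h1⟩ := Bas.exists_rho (fun k => u * Nd q x k * u⁻¹) XS (n := 13) le_rfl
    fun k hk => ⟨act k hk, (cc_chk k hk).1⟩
  have rep : ∀ k, Rep z q ρ (u * Nd q x k * u⁻¹) (gens3 k) := fun k => by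
    unfold gens3
    split_ifs with c
    · exact h1 k c
    · rw [Nd, if_neg (by omega), if_neg c, T.uH]
      exact B.rep_inn h0 _
  obtain ⟨r1, z1, k1⟩ := B.add2F_spec h0 (gs := fun k => u * Nd q x k * u⁻¹) (fun r hr => by
    refine ⟨rep _, ?_⟩
    rcases List.mem_append.1 hr with hr | hr
    · obtain ⟨k, hk, hr⟩ := List.mem_flatMap.1 hr
      obtain ⟨c, hc, rfl⟩ := List.mem_map.1 hr
      have hk := (by decide : ∀ k ∈ [0, 1, 2, 3, 4, 10, 11, 12], k < 13) k hk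
      obtain ⟨-, c0, c1⟩ := cc_chk k hk
      obtain ⟨c1, c2, c3, -⟩ := c1 c hc
      dsimp only
      rw [el_lt z q ρ c1, con F hx T hk hc]
      rcases c3 with s | s <;> rw [s]
      · rw [zero_mul, Nat.xor_zero, el_lt z q ρ c1]; simp
      · rw [one_mul, el_lt z q ρ (Nat.xor_lt_two_pow c1 c0), ← B.e_mul0 c2]; simp
    · obtain ⟨r, hr', rfl⟩ := List.mem_map.1 hr
      exact symc F hx T h0 hr')
    (fun _ h => absurd h List.not_mem_nil) rows_chk
  obtain ⟨r2, z2, k2⟩ := B.add1F_spec h0 rep (fun r hr => by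
    obtain ⟨h1, h2⟩ := rel1 F hx hr
    rw [evw_conj, evw_conj, h1, h2, e_zero, one_mul]
    exact Ap.refl _ _) z1 k1
  exact ⟨u, ρ, T, h0, rep, H18.TC.leq_spec _ _ k2 ▸ z2⟩

omit hx
variable {u : G} {ρ : ℕ → ZMod 2} (S : Ses z q x u ρ)
include S

theorem out {rows w : List ℕ} {L : List (ℕ × ℕ)} (hz : ZF ρ rows) (c : outW rows w L = true)
    (h : Commute u (e q (selx ρ L))) : Ap (e q 32) (evw (Nd q x) w) (e q (selx ρ L)) := by
  rw [outW, wK_eq] at c
  have := F.bas.outF_spec F.cen hz (F.bas.rep_word S.h0 (fun k _ => S.rep k) Bas.rep_one) c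
  rw [one_mul, evw_conj] at this
  exact S.T.un h this

theorem out0 {rows w : List ℕ} {L : List (ℕ × ℕ)} (hz : ZF ρ rows) (c : outW rows w L = true)
    (h : selx ρ L = 0) : Ap (e q 32) (evw (Nd q x) w) 1 := by
  have := out F S hz c (by rw [h, e_zero]; exact Commute.one_right u)
  rwa [h, e_zero] at this

theorem rows2 (h1 : Commute (x 0) (x 1)) (h2 : Commute (x 0) (x 2)) : ZF ρ ROWS2 := by
  obtain ⟨r2, z2, k2⟩ := F.bas.add1F_spec S.h0 S.rep (fun r hr => by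
    rw [evw_conj, evw_conj]
    simp only [List.mem_cons, List.not_mem_nil, or_false] at hr
    rcases hr with rfl | rfl <;> simp only [evw_cons, evw_nil, mul_one, e_zero, one_mul]
    exacts [Or.inl (congrArg (u * · * u⁻¹) h1), Or.inl (congrArg (u * · * u⁻¹) h2)]) S.rows rows2_chk
  exact H18.TC.leq_spec _ _ k2 ▸ z2

omit S in
theorem evw3 {l i j k : ℕ} (c : be (nth HB j) (nth HB k) = 0 ∧
    be (nth HB i) (nth HB j ^^^ nth HB k) = 0 ∧ nth HB i ^^^ (nth HB j ^^^ nth HB k) = Wm l) :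
    evw (Nd q x) [13 + i, 13 + j, 13 + k] = e q (Wm l) := by
  simp only [evw_cons, evw_nil, mul_one, Nd_h]
  rw [F.bas.e_mul0 c.1, F.bas.e_mul0 c.2.1, c.2.2]

omit S in
theorem ex2 (hx : ∀ l < 3, Cand Q z q l (x l)) {l m a : ℕ} {W : List ℕ} (hl : l < 3)
    (c : 2 ^ 2 &&& Dm l = 2 ^ 2) (hW : evw (Nd q x) W = e q (Wm l))
    (c1 : outW ROWS [10, 10 + l, 10, 10 + l] [(m, a)] = true)
    (c2 : outW ROWS (H18.TC.rep 2 ([10, 10 + l] ++ W)) [(m, a ^^^ 1)] = true) :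
    Commute (x 0) (x l) ∨ Commute (x 0) (z * x l * z⁻¹) := by
  have B := F.bas
  obtain ⟨u, ρ, S⟩ := exists_ses F hx
  have h0 := hx 0 (by norm_num)
  have h1 := hx l hl
  have c' : 2 < 10 ∧ on 0 2 = true ∧ 2 ^ 2 &&& Dm l = 2 ^ 2 ∧ bf (2 ^ 2) 32 = 0 :=
    ⟨by norm_num, by decide +kernel, c, by decide +kernel⟩
  have n0 : Nd q x 10 = x 0 := rfl
  rcases z2 (val ρ a) with k | k
  · refine Or.inl (comm_of_ap F (by norm_num) c' h0 h1 ?_)
    have := out0 F S S.rows c1 (by simp [selx, k])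
    simp only [evw_cons, evw_nil, mul_one, Nd_l q x hl, n0] at this
    rwa [pow_two, mul_assoc]
  · refine Or.inr (comm_of_ap F (by norm_num) c' h0 (B.cand_z h1) ?_)
    have k' : val ρ (a ^^^ 1) = 0 := by rw [val_xor, k, val_bit S.h0 (Or.inr rfl)]; rfl
    have := out0 F S S.rows c2 (by simp [selx, k'])
    rw [evw_rep, evw_append, hW] at this
    simp only [evw_cons, evw_nil, mul_one, Nd_l q x hl, n0] at this
    rwa [← xW B h1.1, ← mul_assoc]

end

end H48.ER.Tr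

namespace H48.ER.Fr

open Cfsg H54 H16 Subgroup H77.YM Tr

variable {G : Type*} [Group G] {z : G} {Q : Subgroup G} {cls : leechLattice → G → Prop} {q : ℕ → G} [Finite G] (F : Fr z Q cls q)
  {x : ℕ → G} (hx : ∀ l < 3, Cand Q z q l (x l))
include F hx

theorem ex2a : Commute (x 0) (x 1) ∨ Commute (x 0) (z * x 1 * z⁻¹) :=
  ex2 F hx (l := 1) (m := Tr.mA) (a := Tr.aA) (W := W1) (by norm_num) (by decide +kernel)
    (evw3 F (i := 3) (j := 5) (k := 7) (by decide +kernel)) Tr.outA outA'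

theorem tri0 (h1 : Commute (x 0) (x 1)) (h2 : Commute (x 0) (x 2)) : Commute (x 1) (x 2) ∧
    Ap (e q 32) ((x 0 * q 1 * x 2 * q 0 * x 1 * q 3 * q 2) ^ 9) 1 := by
  obtain ⟨u, ρ, S⟩ := exists_ses F hx
  have hz := rows2 F S h1 h2
  have n : ∀ k < 5, Tr.Nd q x k = q k := fun k hk => Nd_q q x hk
  have n0 : Tr.Nd q x 10 = x 0 := rfl
  have n1 : Tr.Nd q x 11 = x 1 := rfl
  have n2 : Tr.Nd q x 12 = x 2 := rfl
  refine ⟨comm_of_ap F (r := 3) (by norm_num) (by decide +kernel) (hx 1 (by norm_num))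
    (hx 2 (by norm_num)) ?_, ?_⟩
  · have := out0 F S hz Tr.outC rfl
    simp only [evw_cons, evw_nil, mul_one, n1, n2] at this
    rwa [pow_two, mul_assoc]
  · have := out0 F S hz Tr.outE rfl
    rw [evw_rep] at this
    simpa only [NA, evw_cons, evw_nil, mul_one, n0, n1, n2, n 0 (by norm_num), n 1 (by norm_num),
      n 2 (by norm_num), n 3 (by norm_num), mul_assoc] using this

end H48.ER.Fr
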