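import Cfsg.Agent.Lib.ERec.Tri
import Cfsg.Agent.Lib.ERec.Cox

/-! The words of type D6 and E7, and the centraliser of the nodes, seen from the centraliser of `e q 32`. -/

set_option autoImplicit false
set_option maxRecDepth 100000
set_option linter.unusedSectionVars false

namespace H48.ER

open Cfsg H54 H16 Subgroup H77.YM Tr H18.TC

def LOC : List ℕ := [3, 11, 0, 10, 1, 12, 2]
def LG : List ℕ := [80, 346357, 84133, 344229, 82133, 87133, 214737, 606253, 90785, 82032, 349397, 216277,
  616041, 608416, 352292, 225459, 741685, 168472, 745579, 731722]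
def LC : List ℕ := [28654, 285458, 19266, 8837, 300311, 30, 300310, 9890, 375582, 17161, 296089, 11, 295054,
  2372, 797938, 456855, 798445, 298114, 7, 1192]

theorem outD : Tr.outW Tr.ROWS2 (wD.reverse.map (nth LOC) ++ [4]) [(80, 1)] = true := by decide +kernel
theorem outN : Tr.outW Tr.ROWS2 (wN.reverse.map (nth LOC) ++ [4]) [(80, 1)] = true := by decide +kernel
theorem lg_chk : ∀ j < 20, j = 0 ∨ ∃ k ∈ [0, 1, 5, 10, 11, 12], ∃ i < j,
    LG.getD j 0 = mapp (Tr.XS k) (LG.getD i 0) := by decide +kernel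
theorem lc_chk : ∀ i < 20, H15.encL LG (nth LC i) = 2 ^ i := by decide +kernel

namespace Fr

variable {G : Type*} [Group G] {z : G} {Q : Subgroup G} {cls : leechLattice → G → Prop} {q : ℕ → G} [Finite G]
  (F : Fr z Q cls q) {x : ℕ → G} (hx : ∀ l < 3, Cand Q z q l (x l))
include F

theorem e80 : e q 80 = q 6 * q 4 := by
  rw [← e_pow q (i := 6) (by norm_num), ← e_pow q (i := 4) (by norm_num), F.bas.e_mul0 (by decide +kernel)]
  rfl

include hx

theorem tri1 (h1 : Commute (x 0) (x 1)) (h2 : Commute (x 0) (x 2)) {g : ℕ → G} (S : Sat g 7 RE)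
    (hg : g 0 = q 3 ∧ g 1 = x 1 ∧ g 2 = q 0 ∧ g 3 = x 0 ∧ g 4 = q 1 ∧ g 5 = x 2 ∧ g 6 = q 2) :
    Ap (q 5) (ev g wD) (q 6) ∧ ev g wN = q 6 := by
  have B := F.bas
  obtain ⟨u, ρ, Z⟩ := exists_ses F hx
  have hz := rows2 F Z h1 h2
  have y5 : e q 32 = q 5 := e_pow q (i := 5) (by norm_num)
  have hg' : ∀ k < 7, Tr.Nd q x (nth LOC k) = g k := fun k hk => by
    obtain ⟨a0, a1, a2, a3, a4, a5, a6⟩ := hg
    interval_cases k
    exacts [(Nd_q q x (k := 3) (by norm_num)).trans a0.symm, a1.symm,
      (Nd_q q x (k := 0) (by norm_num)).trans a2.symm, a3.symm, (Nd_q q x (k := 1) (by norm_num)).trans a4.symm,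
      a5.symm, (Nd_q q x (k := 2) (by norm_num)).trans a6.symm]
  have key : ∀ w : List ℕ, (∀ k ∈ w, k < 7) → Tr.outW Tr.ROWS2 (w.reverse.map (nth LOC) ++ [4]) [(80, 1)] = true →
      Ap (q 5) (ev g w) (q 6) := fun w hw c => by
    have e1 : selx ρ [(80, 1)] = 80 := by
      rw [selx, selx, show val ρ 1 = 1 from val_bit Z.h0 (Or.inr rfl)]; rfl
    have := out F Z hz c (by rw [e1]; exact Z.T.uh 80 (by decide))
    rw [e1, evw_append, evw_cons, evw_nil, mul_one, Nd_q q x (by norm_num), F.e80, y5,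
      show evw (Tr.Nd q x) (w.reverse.map (nth LOC)) = ev g w by
        rw [evw, H18.TC.ev, List.map_map]
        exact congrArg _ (List.map_congr_left fun k hk => hg' k (hw k (List.mem_reverse.1 hk)))] at this
    rcases this with k | k
    · exact Or.inl (mul_right_cancel k)
    · rw [mul_assoc, (B.q_comm (j := 4) (k := 5) (by norm_num) (by norm_num)).eq, ← mul_assoc] at k
      exact Or.inr (mul_right_cancel k)
  refine ⟨key wD (by decide +kernel) outD, (key wN (by decide +kernel) outN).resolve_right fun k => ?_⟩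
  have b := n_br S
  have c := hx 2 (by norm_num)
  have b' := c.2 6 (by norm_num) (by decide +kernel)
  have c1 : Commute (q 5) (q 6 * x 2) := (B.q_comm (by norm_num) (by norm_num)).mul_right
    (c.1.cm (i := 5) (by norm_num) (by decide +kernel)).symm
  rw [k, hg.2.2.2.2.2.1, (B.q_comm (j := 6) (k := 5) (by norm_num) (by norm_num)).eq, mul_assoc, c1.mul_pow,
    show q 6 * x 2 = q 6 * (x 2 * q 6) * (q 6)⁻¹ by group, conj_pow, b', pow_succ, pow_two,
    B.sq 5 (by norm_num)] at b
  exact F.not_ap_y (Or.inl (by simpa [y5] using b))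

/-- the centraliser of the nodes -/
theorem cent {s : G} (h0 : ∀ l < 3, Commute s (x l)) (hq : ∀ i ∈ [0, 1, 4, 5, 6, 8], Commute s (q i)) :
    s = 1 ∨ s = q 5 := by
  have B := F.bas
  obtain ⟨u, T⟩ := exists_tw F
  have y5 : e q 32 = q 5 := e_pow q (i := 5) (by norm_num)
  have hz : Commute (u * s * u⁻¹) z := by
    have := comm_conj u (hq 5 (by decide))
    rwa [← y5, T.uy] at this
  have ap : ∀ {a b}, Ap z a b → Commute (u * s * u⁻¹) a → Commute (u * s * u⁻¹) b := fun {a b} h c => by
    rcases h.symm B.zz with k | k <;> rw [k]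
    exacts [c, c.mul_right hz]
  have st : ∀ k ∈ [0, 1, 5, 10, 11, 12], Act z q (u * Tr.Nd q x k * u⁻¹) (Tr.XS k) ∧ Commute s (Tr.Nd q x k) := by
    simp only [List.forall_mem_cons, List.not_mem_nil, false_imp_iff, implies_true, and_true]
    refine ⟨⟨Tr.actP F hx T (by norm_num), ?_⟩, ⟨Tr.actP F hx T (by norm_num), ?_⟩, ⟨Tr.actP F hx T (by norm_num), ?_⟩,
      ⟨Tr.actL F hx T (l := 0) (by norm_num), h0 0 (by norm_num)⟩,
      ⟨Tr.actL F hx T (l := 1) (by norm_num), h0 1 (by norm_num)⟩,
      Tr.actL F hx T (l := 2) (by norm_num), h0 2 (by norm_num)⟩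
    · rw [Nd_q q x (by norm_num)]; exact hq 0 (by decide)
    · rw [Nd_q q x (by norm_num)]; exact hq 1 (by decide)
    · rw [show Tr.Nd q x 5 = q 8 from e_pow q (i := 8) (by norm_num)]; exact hq 8 (by decide)
  have k1 : ∀ j < 20, Commute (u * s * u⁻¹) (e q (LG.getD j 0)) := fun j => by
    induction j using Nat.strong_induction_on with
    | _ j ih =>
      intro hj
      rcases lg_chk j hj with rfl | ⟨k, hk, i, hi, c⟩
      · have := comm_conj u ((hq 6 (by decide)).mul_right (hq 4 (by decide)))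
        rwa [← F.e80, (T.uh 80 (by decide)).eq, mul_inv_cancel_right] at this
      · have c1 := comm_conj u (st k hk).2
        rw [c]
        exact ap (B.act_app (st k hk).1 _) ((c1.mul_right (ih i hi (by omega))).mul_right c1.inv_right)
  have k2 := H15.encL_induction (P := fun m => Commute (u * s * u⁻¹) (e q m))
    (by rw [e_zero]; exact Commute.one_right _) (fun a b ha hb => ap (B.e_ap a b) (ha.mul_right hb)) LG
    fun m hm => by
      obtain ⟨j, hj, rfl⟩ := List.getElem_of_mem hm
      rw [← List.getD_eq_getElem _ 0 hj]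
      exact k1 j hj
  rcases F.cen _ hz (fun i hi => by
    have := k2 (nth LC i)
    rwa [lc_chk i hi, e_pow q hi] at this) with k | k
  · exact Or.inl (conj_eq_one_iff.1 k)
  · rw [← T.uy, mul_left_inj, mul_right_inj, y5] at k
    exact Or.inr k

end Fr

end H48.ER
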